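import Groth.Agent.Fga.HodgeSec
import Groth.Agent.Ega2.TensPow

/-!
# `h⁰` and tensor products with effective invertible modules
-/

set_option autoImplicit false
universe u
open CategoryTheory CategoryTheory.Limits AlgebraicGeometry Opposite TopologicalSpace
open Groth.Agent.Fdesc.LocGen Groth.Agent.Ega2

namespace K436.H0Tensor

variable (k : Type u) [Field k] {X : Scheme.{u}} [X.Over (Spec (CommRingCat.of k))]

theorem finrank_congr {M N : X.Modules} (e : M ≅ N) (n : ℕ) :
    Module.finrank k (Coh.HH X M n) = Module.finrank k (Coh.HH X N n) :=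
  (Groth.Agent.VarietyA.EulerLES.equivA k e n).finrank_eq

variable [IsIntegral X] [IsProper (X ↘ Spec (CommRingCat.of k))]

/-- `h⁰(N) ≤ h⁰(N ⊗ E^m)` if the invertible module `E` has a nonzero section. -/
theorem finrank_le_tensorPow {N E : X.Modules} (hN : PicF.IsInvertible N) (hE : PicF.IsInvertible E)
    (s : Coh.structureModule X ⟶ E) (hs : s ≠ 0) (m : ℕ) :
    Module.finrank k (Coh.HH X N 0) ≤ Module.finrank k (Coh.HH X (CohB1.tensorMod N (CohB1.tensorPow E m)) 0) := by
  induction m with
  | zero => exact (finrank_congr k (Tens.runit N) 0).ge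
  | succ m ih =>
    refine ih.trans ?_
    have h1 := Groth.Agent.Fga.HodgeSec.finrank_zero_le k hE
      (isInvertible_tensorMod hN (isInvertible_tensorPow hE m)) s hs
    refine h1.trans (le_of_eq (finrank_congr k ?_ 0))
    exact Tens.swap _ _ ≪≫ Tens.assoc N (CohB1.tensorPow E m) E

theorem finrank_pow_le {L E : X.Modules} (hL : PicF.IsInvertible L) (hE : PicF.IsInvertible E)
    (s : Coh.structureModule X ⟶ E) (hs : s ≠ 0) (m : ℕ) :
    Module.finrank k (Coh.HH X (CohB1.tensorPow L m) 0) ≤
      Module.finrank k (Coh.HH X (CohB1.tensorPow (CohB1.tensorMod L E) m) 0) :=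
  (finrank_le_tensorPow k (isInvertible_tensorPow hL m) hE s hs m).trans
    (finrank_congr k (TensPow.powTensor L E m) 0).ge

end K436.H0Tensor
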