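import Groth.Agent.S0034
import Groth.Agent.CohqB.AmpGeneric
import Groth.Agent.Etcore.DimBaseChange
import Groth.Agent.Ega3B.PullTensor
import Groth.Agent.Ega2.TensPow
import Groth.Agent.Fdesc.LocGenTensor
import Groth.Agent.Ega2.QCohLocal
import Groth.Agent.Variety.K436.H0Tensor
import Mathlib.AlgebraicGeometry.Geometrically.Integral
import Mathlib.FieldTheory.IsAlgClosed.AlgebraicClosure

/-!
# Passing to the algebraic closure of the ground field
-/

set_option autoImplicit false
universe u
open CategoryTheory CategoryTheory.Limits AlgebraicGeometry Opposite TopologicalSpace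

namespace K436.GeomBC

/-- Base change of a proper geometrically integral scheme to the algebraic closure. -/
theorem exists_geom (k : Type u) [Field k] (X : Scheme.{u}) [X.Over (Spec (CommRingCat.of k))]
    [GeometricallyIntegral (X ↘ Spec (CommRingCat.of k))] [IsProper (X ↘ Spec (CommRingCat.of k))] :
    ∃ (K : Type u) (_ : Field K) (_ : IsAlgClosed K) (_ : Algebra k K) (X' : Scheme.{u})
      (_ : X'.Over (Spec (CommRingCat.of K))) (g : X' ⟶ X),
      IsPullback g (X' ↘ Spec (CommRingCat.of K)) (X ↘ Spec (CommRingCat.of k))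
        (Spec.map (CommRingCat.ofHom (algebraMap k K))) ∧
      IsIntegral X' ∧ IsProper (X' ↘ Spec (CommRingCat.of K)) ∧ IsAffineHom g ∧
      topologicalKrullDim X' = topologicalKrullDim X := by
  let K := AlgebraicClosure k
  let s : Spec (CommRingCat.of K) ⟶ Spec (CommRingCat.of k) := Spec.map (CommRingCat.ofHom (algebraMap k K))
  let X' := pullback (X ↘ Spec (CommRingCat.of k)) s
  let i1 : X'.Over (Spec (CommRingCat.of K)) := ⟨pullback.snd _ _⟩
  have hpb : IsPullback (pullback.fst (X ↘ Spec (CommRingCat.of k)) s)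
      (pullback.snd (X ↘ Spec (CommRingCat.of k)) s) (X ↘ Spec (CommRingCat.of k)) s := .of_hasPullback _ _
  refine ⟨K, inferInstance, inferInstance, inferInstance, X', i1,
    pullback.fst (X ↘ Spec (CommRingCat.of k)) s, hpb, ?_, ?_, ?_, ?_⟩
  · exact GeometricallyIntegral.geometrically_isIntegral _ _ _ hpb
  · exact (inferInstance : IsProper (pullback.snd (X ↘ Spec (CommRingCat.of k)) s))
  · exact MorphismProperty.of_isPullback hpb.flip (inferInstance : IsAffineHom s)
  · exact Groth.Agent.Etcore.DimBaseChange.topologicalKrullDim_eq (Field.toIsField k) (Field.toIsField K)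
      _ _ _ _ hpb

/-- Field extension does not change the dimensions of cohomology. -/
theorem finrank_pullback {k K : Type u} [Field k] [Field K] [Algebra k K] {X X' : Scheme.{u}}
    [X.Over (Spec (CommRingCat.of k))] [X'.Over (Spec (CommRingCat.of K))]
    [IsProper (X ↘ Spec (CommRingCat.of k))] {g : X' ⟶ X}
    (h : IsPullback g (X' ↘ Spec (CommRingCat.of K)) (X ↘ Spec (CommRingCat.of k))
        (Spec.map (CommRingCat.ofHom (algebraMap k K)))) (M : X.Modules) (hM : Coh.IsQCoh M) (i : ℕ) :
    Module.finrank K (Coh.HH X' ((Scheme.Modules.pullback g).obj M) i) =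
      Module.finrank k (Coh.HH X M i) := by
  have : CompactSpace X :=
    (quasiCompact_iff_compactSpace (f := X ↘ Spec (CommRingCat.of k))).mp inferInstance
  have : QuasiSeparatedSpace X :=
    (quasiSeparated_iff_quasiSeparatedSpace (f := X ↘ Spec (CommRingCat.of k))).mp inferInstance
  obtain ⟨e⟩ := Groth.Agent.S0034.result k K X X' g h M i
  rw [← e.finrank_eq, Module.finrank_baseChange]

/-- Powers of an invertible module. -/
theorem finrank_pullback_pow {k K : Type u} [Field k] [Field K] [Algebra k K] {X X' : Scheme.{u}}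
    [X.Over (Spec (CommRingCat.of k))] [X'.Over (Spec (CommRingCat.of K))]
    [IsProper (X ↘ Spec (CommRingCat.of k))] {g : X' ⟶ X}
    (h : IsPullback g (X' ↘ Spec (CommRingCat.of K)) (X ↘ Spec (CommRingCat.of k))
        (Spec.map (CommRingCat.ofHom (algebraMap k K)))) {L : X.Modules} (hL : PicF.IsInvertible L) (m i : ℕ) :
    Module.finrank K (Coh.HH X' (CohB1.tensorPow ((Scheme.Modules.pullback g).obj L) m) i) =
      Module.finrank k (Coh.HH X (CohB1.tensorPow L m) i) := by
  obtain ⟨e⟩ := Groth.Agent.Ega3B.PullTensor.nonempty_pullPowIso g hL m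
  rw [← H0Tensor.finrank_congr K e i]
  exact finrank_pullback h _ (Groth.Agent.Ega2.QCohLocal.isQCoh_of_isInvertible (Groth.Agent.Fdesc.LocGen.isInvertible_tensorPow hL m)) i

end K436.GeomBC
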