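import Groth.Prelude.Def_Pi1
import Groth.Agent.Pi1C.IdemCrit
import Groth.Agent.Props.K592.NormComp
import Groth.Agent.S2102
import Mathlib.AlgebraicGeometry.Noetherian
import Mathlib.AlgebraicGeometry.Properties

/-!
# Descent of normality along `f` with `O_Y = f_* O_X`
-/

set_option autoImplicit false
universe u
open CategoryTheory CategoryTheory.Limits AlgebraicGeometry TopologicalSpace

namespace K436.FibNormal

open Groth.Agent.Pi1C.IdemCrit

/-- A Noetherian scheme with all local rings domains: every irreducible component is clopen, and a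
product of the complementary idempotents is zero. -/
theorem exists_idems (T : Scheme.{u}) [IsNoetherian T] (hT : ∀ t : T, IsDomain (T.presheaf.stalk t)) :
    ∃ (ι : Type u) (_ : Fintype ι) (e : ι → Γ(T, ⊤)), (∀ i, e i * e i = e i) ∧
      (∀ i, IrreducibleSpace (T.basicOpen (e i))) ∧ ∏ i, (1 - e i) = 0 := by
  classical
  have hfin : (irreducibleComponents (T : Type u)).Finite := finite_irreducibleComponents_of_isNoetherian
  let : Fintype (irreducibleComponents (T : Type u)) := hfin.fintype
  have hop : ∀ Z : irreducibleComponents (T : Type u), IsClopen (Z : Set T) := fun Z =>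
    ⟨isClosed_of_mem_irreducibleComponents _ Z.2, K592.NormComp.isOpen_of_finite hfin hT Z.2⟩
  choose e he he' using fun Z => exists_idem_of_isClopen (hop Z)
  refine ⟨irreducibleComponents (T : Type u), inferInstance, e, he, fun Z => ?_, ?_⟩
  · have h1 : IsIrreducible (Z : Set T) := Z.2.1
    rw [← he' Z] at h1
    exact (isIrreducible_iff_irreducibleSpace ..).mp h1
  · have hid : ∀ s : Finset (irreducibleComponents (T : Type u)),
        (∏ i ∈ s, (1 - e i)) * (∏ i ∈ s, (1 - e i)) = ∏ i ∈ s, (1 - e i) := by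
      intro s
      rw [← Finset.prod_mul_distrib]
      refine Finset.prod_congr rfl fun i _ => ?_
      rw [mul_sub, sub_mul, sub_mul, one_mul, mul_one, one_mul, he i]
      ring
    refine eq_zero_of_basicOpen_eq_bot (hid _) ?_
    rw [eq_bot_iff]
    intro x hx
    have hx' : ∀ i, x ∈ T.basicOpen (1 - e i) := by
      intro i
      have h2 : ∏ j, (1 - e j) = (1 - e i) * ∏ j ∈ Finset.univ.erase i, (1 - e j) :=
        (Finset.mul_prod_erase _ _ (Finset.mem_univ i)).symm
      rw [h2, Scheme.basicOpen_mul] at hx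
      exact hx.1
    let Z : irreducibleComponents (T : Type u) :=
      ⟨irreducibleComponent x, irreducibleComponent_mem_irreducibleComponents x⟩
    have h3 : x ∈ T.basicOpen (e Z) := by
      have : x ∈ (Z : Set T) := mem_irreducibleComponent
      rw [← he' Z] at this
      exact this
    have h4 : x ∈ T.basicOpen (e Z) ⊓ T.basicOpen (1 - e Z) := ⟨h3, hx' Z⟩
    rw [Groth.Agent.Sga2.IdemClopen.basicOpen_inf (he Z)] at h4
    exact h4

theorem isNormalScheme_opens {X : Scheme.{u}} (hX : Pi1.IsNormalScheme X) (U : X.Opens) :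
    Pi1.IsNormalScheme U.toScheme := by
  intro x
  obtain ⟨h1, h2⟩ := hX x.1
  let e := (U.stalkIso x).commRingCatIsoToRingEquiv
  exact ⟨e.toMulEquiv.isDomain _, IsIntegrallyClosed.of_equiv e.symm⟩

/-- Affine target: if `O_S = g_* O_T` with `T` Noetherian and normal then `S` is normal. -/
theorem isNormalScheme_of_affine {T S : Scheme.{u}} (g : T ⟶ S) [IsAffine S] [IsNoetherian T]
    (H : ∀ V : S.Opens, IsIso (g.app V)) (hT : Pi1.IsNormalScheme T) : Pi1.IsNormalScheme S := by
  classical
  intro s
  obtain ⟨ι, _, e, he, hirr, hprod⟩ := exists_idems T (fun t => (hT t).1)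
  have hbij := (ConcreteCategory.isIso_iff_bijective (g.app ⊤)).mp (H ⊤)
  choose a ha using fun i => hbij.2 (e i)
  have hprod' : ∏ i, (1 - a i) = 0 := by
    apply hbij.1
    rw [map_prod, map_zero]
    refine Eq.trans ?_ hprod
    refine Finset.prod_congr rfl fun i _ => ?_
    rw [map_sub, map_one, ha]
    rfl
  -- some `a i` is a unit at `s`
  obtain ⟨i, hi⟩ : ∃ i, s ∈ S.basicOpen (a i) := by
    by_contra hcon
    push Not at hcon
    have h1 : ∀ i, IsUnit (S.presheaf.germ ⊤ s trivial (1 - a i)) := by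
      intro i
      have h2 := hcon i
      rw [Scheme.mem_basicOpen_top] at h2
      rw [map_sub, map_one]
      exact (IsLocalRing.isUnit_or_isUnit_one_sub_self _).resolve_left h2
    have h3 : IsUnit (S.presheaf.germ ⊤ s trivial (∏ i, (1 - a i))) := by
      rw [map_prod]
      exact (IsUnit.prod_univ_iff).mpr h1
    rw [hprod', map_zero] at h3
    exact not_isUnit_zero h3
  set V := S.basicOpen (a i) with hVdef
  have hV : IsAffineOpen V := (isAffineOpen_top S).basicOpen (a i)
  have hpre : g ⁻¹ᵁ V = T.basicOpen (e i) := by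
    rw [hVdef, Scheme.preimage_basicOpen]
    exact congrArg T.basicOpen (ha i)
  have hintg : IsIntegral (g ⁻¹ᵁ V).toScheme := by
    rw [hpre]
    have h1 := hirr i
    have h2 : IsReduced (T.basicOpen (e i)).toScheme := by
      have : ∀ x : (T.basicOpen (e i)).toScheme, _root_.IsReduced ((T.basicOpen (e i)).toScheme.presheaf.stalk x) := by
        intro x
        have := (isNormalScheme_opens hT (T.basicOpen (e i)) x).1
        infer_instance
      exact isReduced_of_isReduced_stalk _
    exact isIntegral_of_irreducibleSpace_of_isReduced _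
  have h4 : IsIntegrallyClosed (Γ((g ⁻¹ᵁ V).toScheme, ⊤) : Type u) :=
    Groth.Agent.S2102.result _ (isNormalScheme_opens hT _)
  have h5 : IsDomain (Γ((g ⁻¹ᵁ V).toScheme, ⊤) : Type u) := inferInstance
  let E : (Γ((g ⁻¹ᵁ V).toScheme, ⊤) : Type u) ≃+* Γ(S, V) :=
    ((g ⁻¹ᵁ V).topIso.commRingCatIsoToRingEquiv).trans
      (RingEquiv.ofBijective (g.app V).hom ((ConcreteCategory.isIso_iff_bijective (g.app V)).mp (H V))).symm
  have h6 : IsIntegrallyClosed (Γ(S, V) : Type u) := IsIntegrallyClosed.of_equiv E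
  have h7 : IsDomain (Γ(S, V) : Type u) := E.symm.toMulEquiv.isDomain _
  have h8 := hV.isLocalization_stalk ⟨s, hi⟩
  let : Algebra Γ(S, V) (S.presheaf.stalk s) := (S.presheaf.germ V s hi).hom.toAlgebra
  have h9 : (hV.primeIdealOf ⟨s, hi⟩).asIdeal.primeCompl ≤ nonZeroDivisors Γ(S, V) :=
    Ideal.primeCompl_le_nonZeroDivisors _
  exact ⟨IsLocalization.isDomain_of_le_nonZeroDivisors (R := Γ(S, V)) (S := S.presheaf.stalk s) h9,
    isIntegrallyClosed_of_isLocalization (R := Γ(S, V)) (S := S.presheaf.stalk s) _ h9⟩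

theorem isIso_morphismRestrict_app {X Y : Scheme.{u}} (f : X ⟶ Y) (H : ∀ V : Y.Opens, IsIso (f.app V))
    (W : Y.Opens) (V : W.toScheme.Opens) : IsIso ((f ∣_ W).app V) := by
  have := H (W.ι ''ᵁ V)
  rw [morphismRestrict_app]
  exact IsIso.comp_isIso' this (Functor.map_isIso X.presheaf _)

theorem isNormalScheme {X Y : Scheme.{u}} (f : X ⟶ Y) [QuasiCompact f] [IsLocallyNoetherian X]
    (H : ∀ V : Y.Opens, IsIso (f.app V)) (hX : Pi1.IsNormalScheme X) : Pi1.IsNormalScheme Y := by
  intro y
  obtain ⟨W, hW, hyW, -⟩ := exists_isAffineOpen_mem_and_subset (U := ⊤) (x := y) trivial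
  have : IsAffine W.toScheme := hW
  have : CompactSpace (f ⁻¹ᵁ W).toScheme := isCompact_iff_compactSpace.mp (f.isCompact_preimage hW.isCompact)
  have : IsNoetherian (f ⁻¹ᵁ W).toScheme := {}
  obtain ⟨h1, h2⟩ := isNormalScheme_of_affine (f ∣_ W) (isIso_morphismRestrict_app f H W)
    (isNormalScheme_opens hX _) ⟨y, hyW⟩
  let e := (W.stalkIso ⟨y, hyW⟩).commRingCatIsoToRingEquiv
  exact ⟨e.symm.toMulEquiv.isDomain _, IsIntegrallyClosed.of_equiv e⟩

end K436.FibNormal
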