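import Groth.Agent.FlatA.AppIso
import Mathlib.AlgebraicGeometry.Morphisms.Flat
import Mathlib.AlgebraicGeometry.Geometrically.Integral
import Mathlib.AlgebraicGeometry.Properties

/-!
# `O_S = f_* O_X` survives flat base change; integrality descends
-/

set_option autoImplicit false
universe u
open CategoryTheory CategoryTheory.Limits AlgebraicGeometry TopologicalSpace

namespace K436.FibBC

variable {X Y S T : Scheme.{u}} {f : T ⟶ S} {g : Y ⟶ X} {iX : X ⟶ S} {iY : Y ⟶ T}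

/-- Flat base change of `O_S = (iX)_* O_X`. -/
theorem isIso_app_of_isPullback (H : IsPullback g iY iX f) [Flat f] [QuasiCompact iX] [QuasiSeparated iX]
    (h : ∀ V : S.Opens, IsIso (iX.app V)) (V : T.Opens) : IsIso (iY.app V) := by
  have : QuasiCompact iY := MorphismProperty.of_isPullback H inferInstance
  have : QuasiSeparated iY := MorphismProperty.of_isPullback H inferInstance
  refine Groth.Agent.FlatA.AppIso.isIso_app_of_forall_exists iY (fun t => ?_) V
  obtain ⟨US, hUS, htS, -⟩ := exists_isAffineOpen_mem_and_subset (U := (⊤ : S.Opens)) (x := f t) trivial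
  obtain ⟨UT, hUT, htT, hle⟩ := exists_isAffineOpen_mem_and_subset (U := f ⁻¹ᵁ US) (x := t) htS
  refine ⟨UT, hUT, htT, ?_⟩
  have hle' : UT ≤ f ⁻¹ᵁ US := hle
  have hUY : iY ⁻¹ᵁ UT = g ⁻¹ᵁ (iX ⁻¹ᵁ US) ⊓ iY ⁻¹ᵁ UT := by
    refine (inf_eq_right.mpr ?_).symm
    intro y hy
    have h1 : iY y ∈ UT := hy
    have h2 : f (iY y) ∈ US := hle' h1
    change iX (g y) ∈ US
    rw [← Scheme.Hom.comp_apply, H.w, Scheme.Hom.comp_apply]
    exact h2
  have h1 := isIso_pushoutSection_of_isQuasiSeparated_of_flat_right H hle' (UX := iX ⁻¹ᵁ US) le_rfl hUY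
    hUS hUT (iX.isCompact_preimage hUS.isCompact) (iX.isQuasiSeparated_preimage hUS.isQuasiSeparated)
  rw [isIso_pushoutSection_iff] at h1
  have h2 : IsIso (iX.appLE US (iX ⁻¹ᵁ US) le_rfl) := by
    rw [Scheme.Hom.appLE_eq_app]; exact h US
  have h3 := h1.isIso_inr_of_isIso
  rw [← Scheme.Hom.appLE_eq_app]
  exact h3

/-- Integrality passes from the source to the target. -/
theorem isIntegral_of_isIso_app (iX : X ⟶ S) (h : ∀ V : S.Opens, IsIso (iX.app V)) [IsIntegral X] : IsIntegral S := by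
  have hX : Nonempty X := inferInstance
  refine ⟨⟨iX hX.some⟩, fun U hU => ?_⟩
  let E : Γ(S, U) ≃+* Γ(X, iX ⁻¹ᵁ U) :=
    RingEquiv.ofBijective (iX.app U).hom ((ConcreteCategory.isIso_iff_bijective (iX.app U)).mp (h U))
  have h1 : Nontrivial Γ(S, U) := inferInstance
  have h2 : Nontrivial Γ(X, iX ⁻¹ᵁ U) := E.injective.nontrivial
  have h3 : Nonempty (iX ⁻¹ᵁ U) := by
    by_contra hne
    rw [not_nonempty_iff] at hne
    have : iX ⁻¹ᵁ U = ⊥ := by
      rw [eq_bot_iff]; intro x hx; exact (hne.false ⟨x, hx⟩).elim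
    have h4 : Subsingleton Γ(X, iX ⁻¹ᵁ U) := by
      rw [this]; exact inferInstance
    exact not_subsingleton _ h4
  have h5 : IsDomain Γ(X, iX ⁻¹ᵁ U) := inferInstance
  exact E.toMulEquiv.isDomain _

/-- Flat base change over a third base: if `Z = Y ×_S T` and `f : X ⟶ Y` is a fibration, so is
`X ×_S T ⟶ Z`. -/
theorem exists_fib {X Y S T Z : Scheme.{u}} (f : X ⟶ Y) [QuasiCompact f] [QuasiSeparated f] (p : X ⟶ S)
    (q : Y ⟶ S) (hf : f ≫ q = p) (t : T ⟶ S) [Flat t] {fst : Z ⟶ Y} {snd : Z ⟶ T} (h : IsPullback fst snd q t)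
    (H : ∀ V : Y.Opens, IsIso (f.app V)) {W : Scheme.{u}} {fst' : W ⟶ X} {snd' : W ⟶ T}
    (h' : IsPullback fst' snd' p t) :
    ∃ g : W ⟶ Z, g ≫ snd = snd' ∧ IsPullback fst' g f fst ∧ ∀ V : Z.Opens, IsIso (g.app V) := by
  subst hf
  have : Flat fst := MorphismProperty.of_isPullback h.flip inferInstance
  exact ⟨_, h.lift_snd _ _ _, IsPullback.of_bot' h' h, isIso_app_of_isPullback (IsPullback.of_bot' h' h) H⟩

end K436.FibBC
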