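import Mathlib.Analysis.SpecialFunctions.Pow.Asymptotics
import Mathlib.Analysis.SpecialFunctions.Pow.NNReal
import Mathlib.Order.LiminfLimsup
import Mathlib.Topology.Order.LiminfLimsup
import Mathlib.Topology.Instances.ENNReal.Lemmas

/-!
Nearly superadditive sequences (Fekete's lemma with a shift) and the comparison of volumes.
-/

set_option autoImplicit false

open Filter Topology
open scoped ENNReal

namespace K436.Fekete

theorem mul_le_of_superadd {v : ℕ → ℝ} {N : ℕ} (hv : ∀ m, N ≤ m → ∀ m', N ≤ m' → v m + v m' ≤ v (m + m'))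
    {a r : ℕ} (ha : N ≤ a) (hr : N ≤ r) (q : ℕ) : (q : ℝ) * v a + v r ≤ v (q * a + r) := by
  induction q with
  | zero => simp
  | succ q ih =>
    have h1 := hv a ha (q * a + r) (by nlinarith [Nat.zero_le (q * a)])
    have h2 : a + (q * a + r) = (q + 1) * a + r := by ring
    rw [h2] at h1
    push_cast
    linarith

/-- Fekete's lemma for sequences which are superadditive from some point on. -/
theorem tendsto_of_superadd {v : ℕ → ℝ} (hnn : ∀ m, 0 ≤ v m) {N : ℕ}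
    (hv : ∀ m, N ≤ m → ∀ m', N ≤ m' → v m + v m' ≤ v (m + m'))
    {B : ℝ} (hB : ∀ m, N ≤ m → v m ≤ B * m) :
    ∃ l : ℝ, Tendsto (fun m : ℕ => v m / m) atTop (𝓝 l) := by
  wlog hN : 1 ≤ N generalizing N
  · exact this (N := N + 1) (fun m hm m' hm' => hv m (by omega) m' (by omega)) (fun m hm => hB m (by omega))
      (by omega)
  let S : Set ℝ := {x | ∃ a : ℕ, N ≤ a ∧ x = v a / a}
  have hSne : S.Nonempty := ⟨_, N, le_rfl, rfl⟩
  have hSb : BddAbove S := by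
    refine ⟨B, ?_⟩
    rintro _ ⟨a, ha, rfl⟩
    have ha0 : (0 : ℝ) < a := by exact_mod_cast (by omega : 0 < a)
    rw [div_le_iff₀ ha0]
    exact hB a ha
  refine ⟨sSup S, ?_⟩
  rw [Metric.tendsto_atTop]
  intro ε hε
  obtain ⟨_, ⟨a, ha, rfl⟩, hax⟩ := exists_lt_of_lt_csSup hSne (sub_lt_self (sSup S) (half_pos hε))
  have ha0 : (0 : ℝ) < a := by exact_mod_cast (by omega : 0 < a)
  set x := v a / a with hx
  have hxnn : 0 ≤ x := div_nonneg (hnn a) ha0.le
  -- choose the threshold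
  obtain ⟨M, hM⟩ := exists_nat_gt (((N + a : ℕ) : ℝ) * x / (ε / 2))
  refine ⟨max M (N + a), fun m hm => ?_⟩
  have hmM : M ≤ m := le_trans (le_max_left _ _) hm
  have hmN : N + a ≤ m := le_trans (le_max_right _ _) hm
  have hm0 : (0 : ℝ) < m := by exact_mod_cast (by omega : 0 < m)
  have hup : v m / m ≤ sSup S := le_csSup hSb ⟨m, by omega, rfl⟩
  have hlow : x - ε / 2 < v m / m := by
    have hq := mul_le_of_superadd hv ha (r := N + (m - N) % a) (by omega) ((m - N) / a)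
    have e1 : (m - N) / a * a + (N + (m - N) % a) = m := by
      have := Nat.div_add_mod (m - N) a
      have h3 : (m - N) / a * a = a * ((m - N) / a) := Nat.mul_comm _ _
      omega
    rw [e1] at hq
    have hr := hnn (N + (m - N) % a)
    have hlt : (m - N) % a < a := Nat.mod_lt _ (by omega)
    have e2 : ((m - N) / a : ℕ) * (a : ℝ) ≥ m - (N + a : ℕ) := by
      have h4 : (((m - N) / a * a + (N + (m - N) % a) : ℕ) : ℝ) = m := by exact_mod_cast e1
      push_cast at h4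
      have h5 : (((m - N) % a : ℕ) : ℝ) ≤ a := by exact_mod_cast hlt.le
      push_cast
      linarith
    have hva : v a = x * a := by
      rw [hx]; field_simp
    have h6 : x * (m - (N + a : ℕ)) ≤ v m := by
      calc x * ((m : ℝ) - (N + a : ℕ)) ≤ x * (((m - N) / a : ℕ) * (a : ℝ)) :=
            mul_le_mul_of_nonneg_left e2 hxnn
        _ = (((m - N) / a : ℕ) : ℝ) * v a := by rw [hva]; ring
        _ ≤ v m := by linarith
    have h7 : ((N + a : ℕ) : ℝ) * x < (ε / 2) * m := by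
      have h8 : ((N + a : ℕ) : ℝ) * x / (ε / 2) < m := lt_of_lt_of_le hM (by exact_mod_cast hmM)
      rw [div_lt_iff₀ (half_pos hε)] at h8
      linarith
    rw [lt_div_iff₀ hm0]
    nlinarith
  rw [Real.dist_eq, abs_lt]
  constructor <;> linarith

/-- The version with a shift `p`. -/
theorem tendsto_of_shift {F : ℕ → ℝ} (hnn : ∀ m, 0 ≤ F m) {N p : ℕ}
    (hF : ∀ m, N ≤ m → ∀ m', N ≤ m' → F m + F m' ≤ F (m + m' + p))
    {B : ℝ} (hB : ∀ m, N ≤ m → F m ≤ B * m) :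
    ∃ l : ℝ, Tendsto (fun m : ℕ => F m / m) atTop (𝓝 l) := by
  have hBm : ∀ m, N ≤ m → F m ≤ max B 0 * m := fun m hm =>
    (hB m hm).trans (mul_le_mul_of_nonneg_right (le_max_left _ _) (Nat.cast_nonneg m))
  obtain ⟨l, hl⟩ := tendsto_of_superadd (v := fun n => F (n - p)) (fun m => hnn _) (N := N + p)
    (fun m hm m' hm' => by
      have h := hF (m - p) (by omega) (m' - p) (by omega)
      rwa [show m - p + (m' - p) + p = m + m' - p by omega] at h)
    (B := max B 0) (fun m hm => (hBm (m - p) (by omega)).trans (by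
      refine mul_le_mul_of_nonneg_left ?_ (le_max_right _ _)
      exact_mod_cast Nat.sub_le m p))
  refine ⟨l, ?_⟩
  have h1 : Tendsto (fun m : ℕ => F m / ((m + p : ℕ) : ℝ)) atTop (𝓝 l) := by
    have := hl.comp (tendsto_add_atTop_nat p)
    refine this.congr fun m => ?_
    simp [Function.comp]
  have h2 : Tendsto (fun m : ℕ => ((m + p : ℕ) : ℝ) / (m : ℝ)) atTop (𝓝 1) := by
    have h3 : Tendsto (fun m : ℕ => 1 + (p : ℝ) / (m : ℝ)) atTop (𝓝 (1 + 0)) :=
      tendsto_const_nhds.add (tendsto_const_div_atTop_nhds_zero_nat (p : ℝ))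
    rw [add_zero] at h3
    refine h3.congr' ?_
    filter_upwards [eventually_gt_atTop 0] with m hm
    have : (m : ℝ) ≠ 0 := by exact_mod_cast hm.ne'
    push_cast
    field_simp
  have h4 := h1.mul h2
  rw [mul_one] at h4
  refine h4.congr' ?_
  filter_upwards [eventually_gt_atTop 0] with m hm
  have h5 : (m : ℝ) ≠ 0 := by exact_mod_cast hm.ne'
  have h6 : ((m + p : ℕ) : ℝ) ≠ 0 := by exact_mod_cast (by omega : m + p ≠ 0)
  field_simp

/-- The normalised root of a counting function. -/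
theorem rpow_eq {h : ℕ → ℕ} {d : ℕ} (hd : 1 ≤ d) {m : ℕ} (hm : 0 < m) :
    ((h m : ℝ≥0∞) / (m : ℝ≥0∞) ^ d) ^ (1 / (d : ℝ)) = ENNReal.ofReal ((h m : ℝ) ^ (1 / (d : ℝ)) / m) := by
  have hd0 : (0 : ℝ) < 1 / (d : ℝ) := by
    have : (0 : ℝ) < d := by exact_mod_cast hd
    positivity
  have hm0 : (0 : ℝ) < m := by exact_mod_cast hm
  have e1 : (h m : ℝ≥0∞) / (m : ℝ≥0∞) ^ d = ENNReal.ofReal ((h m : ℝ) / (m : ℝ) ^ d) := by
    rw [ENNReal.ofReal_div_of_pos (by positivity), ENNReal.ofReal_natCast, ENNReal.ofReal_pow hm0.le,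
      ENNReal.ofReal_natCast]
  rw [e1, ENNReal.ofReal_rpow_of_nonneg (by positivity) hd0.le, Real.div_rpow (by positivity) (by positivity)]
  congr 2
  rw [← Real.rpow_natCast, ← Real.rpow_mul hm0.le]
  have : (d : ℝ) * (1 / (d : ℝ)) = 1 := by
    have : (d : ℝ) ≠ 0 := by exact_mod_cast (by omega : d ≠ 0)
    field_simp
  rw [this, Real.rpow_one]

theorem limsup_rpow {h : ℕ → ℕ} {d : ℕ} (hd : 1 ≤ d) :
    limsup (fun m : ℕ => (h m : ℝ≥0∞) / (m : ℝ≥0∞) ^ d) atTop ^ (1 / (d : ℝ)) =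
      limsup (fun m : ℕ => ENNReal.ofReal ((h m : ℝ) ^ (1 / (d : ℝ)) / m)) atTop := by
  have hd0 : (0 : ℝ) < 1 / (d : ℝ) := by
    have : (0 : ℝ) < d := by exact_mod_cast hd
    positivity
  have h1 := (ENNReal.orderIsoRpow (1 / (d : ℝ)) hd0).limsup_apply
    (u := fun m : ℕ => (h m : ℝ≥0∞) / (m : ℝ≥0∞) ^ d) (f := atTop)
  simp only [ENNReal.orderIsoRpow_apply] at h1
  rw [h1]
  refine limsup_congr ?_
  filter_upwards [eventually_gt_atTop 0] with m hm
  exact rpow_eq hd hm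

theorem liminf_rpow {h : ℕ → ℕ} {d : ℕ} (hd : 1 ≤ d) :
    liminf (fun m : ℕ => (h m : ℝ≥0∞) / (m : ℝ≥0∞) ^ d) atTop ^ (1 / (d : ℝ)) =
      liminf (fun m : ℕ => ENNReal.ofReal ((h m : ℝ) ^ (1 / (d : ℝ)) / m)) atTop := by
  have hd0 : (0 : ℝ) < 1 / (d : ℝ) := by
    have : (0 : ℝ) < d := by exact_mod_cast hd
    positivity
  have h1 := (ENNReal.orderIsoRpow (1 / (d : ℝ)) hd0).liminf_apply
    (u := fun m : ℕ => (h m : ℝ≥0∞) / (m : ℝ≥0∞) ^ d) (f := atTop)
  simp only [ENNReal.orderIsoRpow_apply] at h1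
  rw [h1]
  refine liminf_congr ?_
  filter_upwards [eventually_gt_atTop 0] with m hm
  exact rpow_eq hd hm

/-- Superadditivity of the root of the volume, from a nearly superadditive family of counting functions. -/
theorem limsup_add_le {d : ℕ} (hd : 1 ≤ d) {h h' H : ℕ → ℕ} {N p p' q : ℕ} {B B' : ℝ}
    (hs : ∀ m, N ≤ m → ∀ m', N ≤ m' →
      (h m : ℝ) ^ (1 / (d : ℝ)) + (h m' : ℝ) ^ (1 / (d : ℝ)) ≤ (h (m + m' + p) : ℝ) ^ (1 / (d : ℝ)))
    (hs' : ∀ m, N ≤ m → ∀ m', N ≤ m' →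
      (h' m : ℝ) ^ (1 / (d : ℝ)) + (h' m' : ℝ) ^ (1 / (d : ℝ)) ≤ (h' (m + m' + p') : ℝ) ^ (1 / (d : ℝ)))
    (hB : ∀ m, N ≤ m → (h m : ℝ) ≤ B * (m : ℝ) ^ d) (hB' : ∀ m, N ≤ m → (h' m : ℝ) ≤ B' * (m : ℝ) ^ d)
    (hmix : ∀ m, N ≤ m →
      (h m : ℝ) ^ (1 / (d : ℝ)) + (h' m : ℝ) ^ (1 / (d : ℝ)) ≤ (H (m + q) : ℝ) ^ (1 / (d : ℝ))) :
    limsup (fun m : ℕ => (h m : ℝ≥0∞) / (m : ℝ≥0∞) ^ d) atTop ^ (1 / (d : ℝ)) +
        limsup (fun m : ℕ => (h' m : ℝ≥0∞) / (m : ℝ≥0∞) ^ d) atTop ^ (1 / (d : ℝ)) ≤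
      limsup (fun m : ℕ => (H m : ℝ≥0∞) / (m : ℝ≥0∞) ^ d) atTop ^ (1 / (d : ℝ)) := by
  have hd0 : (0 : ℝ) < 1 / (d : ℝ) := by
    have : (0 : ℝ) < d := by exact_mod_cast hd
    positivity
  have hroot : ∀ (g : ℕ → ℕ) (C : ℝ), (∀ m, N ≤ m → (g m : ℝ) ≤ C * (m : ℝ) ^ d) →
      ∀ m, N ≤ m → (g m : ℝ) ^ (1 / (d : ℝ)) ≤ (max C 0) ^ (1 / (d : ℝ)) * m := by
    intro g C hC m hm
    have h1 : (g m : ℝ) ≤ max C 0 * (m : ℝ) ^ d :=
      (hC m hm).trans (mul_le_mul_of_nonneg_right (le_max_left _ _) (by positivity))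
    have h2 := Real.rpow_le_rpow (by positivity) h1 hd0.le
    rw [Real.mul_rpow (le_max_right _ _) (by positivity)] at h2
    have h3 : ((m : ℝ) ^ d) ^ (1 / (d : ℝ)) = m := by
      rw [← Real.rpow_natCast, ← Real.rpow_mul (Nat.cast_nonneg m)]
      have : (d : ℝ) * (1 / (d : ℝ)) = 1 := by
        have : (d : ℝ) ≠ 0 := by exact_mod_cast (by omega : d ≠ 0)
        field_simp
      rw [this, Real.rpow_one]
    rwa [h3] at h2
  obtain ⟨l, hl⟩ := tendsto_of_shift (F := fun m => (h m : ℝ) ^ (1 / (d : ℝ))) (fun m => by positivity) hs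
    (hroot h B hB)
  obtain ⟨l', hl'⟩ := tendsto_of_shift (F := fun m => (h' m : ℝ) ^ (1 / (d : ℝ))) (fun m => by positivity) hs'
    (hroot h' B' hB')
  have hlnn : 0 ≤ l := ge_of_tendsto' hl fun m => by positivity
  have hlnn' : 0 ≤ l' := ge_of_tendsto' hl' fun m => by positivity
  rw [limsup_rpow hd, limsup_rpow hd, limsup_rpow hd]
  rw [(ENNReal.tendsto_ofReal hl).limsup_eq, (ENNReal.tendsto_ofReal hl').limsup_eq,
    ← ENNReal.ofReal_add hlnn hlnn']
  have h5 : Tendsto (fun m : ℕ => ((h m : ℝ) ^ (1 / (d : ℝ)) + (h' m : ℝ) ^ (1 / (d : ℝ))) /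
      ((m + q : ℕ) : ℝ)) atTop (𝓝 (l + l')) := by
    have h6 := hl.add hl'
    have h2 : Tendsto (fun m : ℕ => (m : ℝ) / ((m + q : ℕ) : ℝ)) atTop (𝓝 1) := by
      have h3 := (tendsto_natCast_div_add_atTop (𝕜 := ℝ) (q : ℝ))
      refine h3.congr fun m => ?_
      push_cast
      rfl
    have h7 := h6.mul h2
    rw [mul_one] at h7
    refine h7.congr' ?_
    filter_upwards [eventually_gt_atTop 0] with m hm
    have h8 : (m : ℝ) ≠ 0 := by exact_mod_cast hm.ne'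
    have h9 : ((m + q : ℕ) : ℝ) ≠ 0 := by exact_mod_cast (by omega : m + q ≠ 0)
    field_simp
  rw [← (ENNReal.tendsto_ofReal h5).limsup_eq]
  rw [← limsup_nat_add (fun m : ℕ => ENNReal.ofReal ((H m : ℝ) ^ (1 / (d : ℝ)) / m)) q]
  refine limsup_le_limsup ?_
  filter_upwards [eventually_ge_atTop N] with m hm
  refine ENNReal.ofReal_le_ofReal ?_
  exact div_le_div_of_nonneg_right (hmix m hm) (by positivity)

end K436.Fekete
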