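import Groth.Agent.Variety.K436.AmpleCube
import Groth.Agent.VarietyA.CurveFin

/-!
# Brunn–Minkowski inequality for `h⁰` on a projective variety over an algebraically closed field

`exists_thickening`: there is a fixed power `M` of a given ample module such that
`h⁰(L)^(1/d) + h⁰(L')^(1/d) ≤ h⁰((L ⊗ L') ⊗ M)^(1/d)` for all invertible `L`, `L'` with a nonzero section.
-/

set_option autoImplicit false
universe u
open CategoryTheory CategoryTheory.Limits AlgebraicGeometry Opposite TopologicalSpace
open Groth.Agent.Fdesc.LocGen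

namespace K436.VolCore

/-- **Brunn–Minkowski for `h⁰`** with a fixed thickening by a power of the ample module. -/
theorem exists_thickening (k : Type u) [Field k] [IsAlgClosed k] (X : Scheme.{u}) [X.Over (Spec (CommRingCat.of k))]
    [IsIntegral X] [IsProper (X ↘ Spec (CommRingCat.of k))] {A : X.Modules} (hA : CohB1.IsAmple A) {d : ℕ}
    (hd1 : 1 ≤ d) (hd : topologicalKrullDim X = d) :
    ∃ n : ℕ, 0 < n ∧ PicF.IsInvertible (CohB1.tensorPow (CohB1.tensorPow A n) d) ∧
      ∀ L L' : X.Modules, PicF.IsInvertible L → PicF.IsInvertible L' →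
        0 < Module.finrank k (Coh.HH X L 0) → 0 < Module.finrank k (Coh.HH X L' 0) →
        (Module.finrank k (Coh.HH X L 0) : ℝ) ^ (1 / (d : ℝ)) +
            (Module.finrank k (Coh.HH X L' 0) : ℝ) ^ (1 / (d : ℝ)) ≤
          (Module.finrank k (Coh.HH X (CohB1.tensorMod (CohB1.tensorMod L L')
            (CohB1.tensorPow (CohB1.tensorPow A n) d)) 0) : ℝ) ^ (1 / (d : ℝ)) := by
  have : QuasiSeparatedSpace X := quasiSeparatedSpace_of_quasiSeparated (X ↘ Spec (CommRingCat.of k))
  obtain ⟨x, j, hj, n, V, hx, m, hm, hn, hcube⟩ := AmpleCube.exists_cube k X hA hd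
  have hM : PicF.IsInvertible (CohB1.tensorPow (CohB1.tensorPow A n) d) :=
    isInvertible_tensorPow (isInvertible_tensorPow hA.1 n) d
  refine ⟨n, hn, hM, fun L L' hL hL' h1 h2 => ?_⟩
  have f1 := Groth.Agent.VarietyA.CurveFin.finite_HH k X hL 0
  have f2 := Groth.Agent.VarietyA.CurveFin.finite_HH k X hL' 0
  have f3 := Groth.Agent.VarietyA.CurveFin.finite_HH k X
    (isInvertible_tensorMod (isInvertible_tensorMod hL hL') hM) 0
  exact GermExp.rpow_add_le hj hd1 hL hL' hM hx hm hcube h1 h2

end K436.VolCore
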