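import Groth.Agent.Variety.K433.GrowthId
import Groth.Agent.Variety.K436.VolCore
import Groth.Agent.Variety.K436.H0Tensor
import Groth.Agent.Variety.K436.Fekete

/-!
# Superadditivity of the `d`-th root of the volume (algebraically closed ground field)
-/

set_option autoImplicit false
universe u
open CategoryTheory CategoryTheory.Limits AlgebraicGeometry Filter
open scoped ENNReal

namespace K436.VolAdd

open Groth.Agent Groth.Agent.Grpsch.PicGrp K433.Hq K433.Growth Groth.Agent.Fdesc.LocGen Groth.Agent.Fga.PicMon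

variable (k : Type u) [Field k] {X : Scheme.{u}} [X.Over (Spec (CommRingCat.of k))] [IsIntegral X]
  [IsProper (X ↘ Spec (CommRingCat.of k))]

theorem cancel_aux {G : Type*} [CommGroup G] (μ x y : G) : μ⁻¹ * x * (y * μ) = x * y := by
  rw [mul_comm μ⁻¹ x, mul_assoc, mul_comm y μ, ← mul_assoc μ⁻¹, inv_mul_cancel, one_mul]

/-- `h⁰` of a class. -/
noncomputable def h0 (c : Pic X) : ℕ := hq k 0 (Coh.structureModule X) c

omit [IsIntegral X] [IsProper (X ↘ Spec (CommRingCat.of k))] in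
theorem h0_mk {L : X.Modules} (hL : PicF.IsInvertible L) :
    h0 k (mk L hL) = Module.finrank k (Coh.HH X L 0) := hq_unit k 0 hL

omit [IsIntegral X] [IsProper (X ↘ Spec (CommRingCat.of k))] in
theorem h0_rep (c : Pic X) : h0 k c = Module.finrank k (Coh.HH X (rep c) 0) := by
  rw [← h0_mk k (rep_inv c), mk_rep]

theorem h0_le_mul {e : Pic X} (he : 0 < h0 k e) (c : Pic X) : h0 k c ≤ h0 k (e * c) := by
  rw [h0_rep k e] at he
  have h1 : ∃ s : Coh.structureModule X ⟶ rep e, s ≠ 0 := by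
    by_contra hcon
    push Not at hcon
    have : Subsingleton (Coh.HH X (rep e) 0) := by
      refine ⟨fun a b => ?_⟩
      apply (Picfga.ChiCech.h0Top k (rep e)).injective
      apply Picfga.ChiCech.toSecA.symm.injective
      obtain ⟨s, hs⟩ := (sec_bijective (rep e)).2 (Picfga.ChiCech.toSecA.symm (Picfga.ChiCech.h0Top k (rep e) a))
      obtain ⟨t, ht⟩ := (sec_bijective (rep e)).2 (Picfga.ChiCech.toSecA.symm (Picfga.ChiCech.h0Top k (rep e) b))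
      rw [← hs, ← ht, hcon s, hcon t]
    rw [Module.finrank_zero_of_subsingleton] at he
    exact lt_irrefl _ he
  obtain ⟨s, hs⟩ := h1
  have h2 := Fga.HodgeSec.finrank_zero_le k (rep_inv e) (rep_inv c) s hs
  rw [h0_rep k c]
  refine h2.trans (le_of_eq ?_)
  rw [← h0_mk k (isInvertible_tensorMod (rep_inv e) (rep_inv c)), ← mk_mul_mk (rep_inv e) (rep_inv c), mk_rep,
    mk_rep]

theorem h0_mul_pos {e e' : Pic X} (he : 0 < h0 k e) (he' : 0 < h0 k e') : 0 < h0 k (e * e') :=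
  lt_of_lt_of_le he' (h0_le_mul k he e')

theorem h0_pow_mk {L : X.Modules} (hL : PicF.IsInvertible L) (m : ℕ) :
    h0 k (mk L hL ^ m) = Module.finrank k (Coh.HH X (CohB1.tensorPow L m) 0) := by
  rw [← h0_mk k (isInvertible_tensorPow hL m)]
  rw [mk_tensorPow hL m]

theorem pow_d_sub_one {d : ℕ} (hd1 : 1 ≤ d) (m : ℕ) : phi d m = (m + 1) ^ (d - 1) := by
  obtain ⟨e, rfl⟩ := Nat.exists_eq_add_of_le' hd1
  rfl

/-- `c m^d ≤ h m` eventually, from the positivity of the lower limit. -/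
theorem exists_lower {d : ℕ} {h : ℕ → ℕ}
    (hbig : 0 < liminf (fun m : ℕ => (h m : ℝ≥0∞) / (m : ℝ≥0∞) ^ d) atTop) :
    ∃ c : ℝ, 0 < c ∧ ∃ N : ℕ, ∀ m, N ≤ m → c * (m : ℝ) ^ d ≤ h m := by
  obtain ⟨c, hc0, hc⟩ := exists_between hbig
  have hct : c ≠ ⊤ := ne_top_of_lt hc
  have h1 := eventually_lt_of_lt_liminf hc
  obtain ⟨N, hN⟩ := eventually_atTop.1 h1
  refine ⟨c.toReal, ENNReal.toReal_pos hc0.ne' hct, N + 1, fun m hm => ?_⟩
  have h2 := hN m (by omega)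
  have hm0 : (m : ℝ≥0∞) ^ d ≠ 0 := pow_ne_zero _ (by exact_mod_cast (by omega : m ≠ 0))
  have hmt : (m : ℝ≥0∞) ^ d ≠ ⊤ := ENNReal.pow_ne_top (ENNReal.natCast_ne_top m)
  rw [ENNReal.lt_div_iff_mul_lt (Or.inl hm0) (Or.inl hmt)] at h2
  have h3 := ENNReal.toReal_mono (ENNReal.natCast_ne_top (h m)) h2.le
  rw [ENNReal.toReal_mul, ENNReal.toReal_pow, ENNReal.toReal_natCast, ENNReal.toReal_natCast] at h3
  exact h3

/-- A polynomial of degree `d - 1` is eventually smaller. -/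
theorem eventually_lt {d : ℕ} (hd1 : 1 ≤ d) {c : ℝ} (hc : 0 < c) (C : ℝ) :
    ∃ N : ℕ, ∀ m : ℕ, N ≤ m → C * ((m : ℝ) + 1) ^ (d - 1) < c * (m : ℝ) ^ d := by
  obtain ⟨N, hN⟩ := exists_nat_gt (|C| * 2 ^ (d - 1) / c)
  refine ⟨N + 1, fun m hm => ?_⟩
  have hm1 : (1 : ℝ) ≤ m := by exact_mod_cast (by omega : 1 ≤ m)
  have hNm : (N : ℝ) < m := by exact_mod_cast (by omega : N < m)
  have h1 : ((m : ℝ) + 1) ^ (d - 1) ≤ (2 * m) ^ (d - 1) :=
    pow_le_pow_left₀ (by positivity) (by linarith) _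
  have h2 : |C| * 2 ^ (d - 1) < c * m := by
    have := hN.trans hNm
    rw [div_lt_iff₀ hc] at this
    linarith
  calc C * ((m : ℝ) + 1) ^ (d - 1) ≤ |C| * ((m : ℝ) + 1) ^ (d - 1) :=
        mul_le_mul_of_nonneg_right (le_abs_self C) (by positivity)
    _ ≤ |C| * (2 * m) ^ (d - 1) := mul_le_mul_of_nonneg_left h1 (abs_nonneg C)
    _ = (|C| * 2 ^ (d - 1)) * m ^ (d - 1) := by rw [mul_pow]; ring
    _ < (c * m) * m ^ (d - 1) := mul_lt_mul_of_pos_right h2 (by positivity)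
    _ = c * m ^ d := by
        obtain ⟨e, rfl⟩ := Nat.exists_eq_add_of_le' hd1
        rw [Nat.add_sub_cancel]
        ring

variable {A : X.Modules} (hA : CohB1.IsAmple A) {d : ℕ} (hd1 : 1 ≤ d) (hd : topologicalKrullDim X = d)

include hA hd in
omit [IsIntegral X] in
theorem growth_h0 (g : Pic X) : ∃ C : ℕ, ∀ m : ℕ, h0 k (g ^ m) ≤ C * (m + 1) ^ d := by
  have := Fga.HypSec.isNoetherian k X
  obtain ⟨C, hC⟩ := growth_pow k hA g (Fdesc.StructMod.isCoh_structureModule X) (n := d)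
    ((topologicalKrullDim_subspace_le X _).trans hd.le) 0
  exact ⟨C, hC⟩

include hA hd hd1 in
omit [IsIntegral X] in
theorem step_h0 (g g₀ : Pic X) : ∃ C : ℕ, ∀ m : ℕ, Near (h0 k (g₀ * g ^ m)) (h0 k (g ^ m))
    (C * (m + 1) ^ (d - 1)) := by
  have := Fga.HypSec.isNoetherian k X
  obtain ⟨C, hC⟩ := step_pow k hA g (Fdesc.StructMod.isCoh_structureModule X) (n := d)
    ((topologicalKrullDim_subspace_le X _).trans hd.le) g₀ 0
  refine ⟨C, fun m => ?_⟩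
  have := hC m
  rwa [pow_d_sub_one hd1] at this

include hA hd hd1 in
omit [IsIntegral X] in
/-- **Kodaira's lemma**: for a big class `g` and any class `μ`, `μ⁻¹ g^p` is effective for large `p`. -/
theorem kodaira (g μ : Pic X) (hbig : ∃ c : ℝ, 0 < c ∧ ∃ N : ℕ, ∀ m, N ≤ m → c * (m : ℝ) ^ d ≤ h0 k (g ^ m)) :
    ∃ p₀ : ℕ, ∀ p, p₀ ≤ p → 0 < h0 k (μ⁻¹ * g ^ p) := by
  obtain ⟨c, hc, N, hN⟩ := hbig
  obtain ⟨C, hC⟩ := step_h0 k hA hd1 hd g μ⁻¹
  obtain ⟨N', hN'⟩ := eventually_lt hd1 hc C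
  refine ⟨max N N', fun p hp => ?_⟩
  have h1 := hN p (le_trans (le_max_left _ _) hp)
  have h2 := hN' p (le_trans (le_max_right _ _) hp)
  have h3 := (hC p).2
  have h4 : (h0 k (g ^ p) : ℝ) ≤ h0 k (μ⁻¹ * g ^ p) + C * ((p : ℝ) + 1) ^ (d - 1) := by exact_mod_cast h3
  have h5 : (0 : ℝ) < h0 k (μ⁻¹ * g ^ p) := by linarith
  exact_mod_cast h5

include hA hd1 hd in
/-- Brunn--Minkowski in terms of classes. -/
theorem exists_mu [IsAlgClosed k] : ∃ μ : Pic X, ∀ c c' : Pic X, 0 < h0 k c → 0 < h0 k c' →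
    (h0 k c : ℝ) ^ (1 / (d : ℝ)) + (h0 k c' : ℝ) ^ (1 / (d : ℝ)) ≤ (h0 k (c * c' * μ) : ℝ) ^ (1 / (d : ℝ)) := by
  obtain ⟨n, -, hM, H⟩ := VolCore.exists_thickening k X hA hd1 hd
  refine ⟨mk _ hM, fun c c' hc hc' => ?_⟩
  rw [h0_rep] at hc hc'
  have h1 := H (rep c) (rep c') (rep_inv c) (rep_inv c') hc hc'
  rw [← h0_rep, ← h0_rep, ← h0_mk k (isInvertible_tensorMod (isInvertible_tensorMod (rep_inv c) (rep_inv c')) hM),
    ← mk_mul_mk (isInvertible_tensorMod (rep_inv c) (rep_inv c')) hM, ← mk_mul_mk (rep_inv c) (rep_inv c'),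
    mk_rep, mk_rep] at h1
  exact h1

include hA hd1 hd in
/-- **Superadditivity** for big classes over an algebraically closed field. -/
theorem limsup_add_le [IsAlgClosed k] (g g' : Pic X)
    (hbig : 0 < liminf (fun m : ℕ => (h0 k (g ^ m) : ℝ≥0∞) / (m : ℝ≥0∞) ^ d) atTop)
    (hbig' : 0 < liminf (fun m : ℕ => (h0 k (g' ^ m) : ℝ≥0∞) / (m : ℝ≥0∞) ^ d) atTop) :
    limsup (fun m : ℕ => (h0 k (g ^ m) : ℝ≥0∞) / (m : ℝ≥0∞) ^ d) atTop ^ (1 / (d : ℝ)) +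
        limsup (fun m : ℕ => (h0 k (g' ^ m) : ℝ≥0∞) / (m : ℝ≥0∞) ^ d) atTop ^ (1 / (d : ℝ)) ≤
      limsup (fun m : ℕ => (h0 k ((g * g') ^ m) : ℝ≥0∞) / (m : ℝ≥0∞) ^ d) atTop ^ (1 / (d : ℝ)) := by
  obtain ⟨μ, hμ⟩ := exists_mu k hA hd1 hd
  have hb := exists_lower hbig
  have hb' := exists_lower hbig'
  obtain ⟨p₁, hp₁⟩ := kodaira k hA hd1 hd g μ hb
  obtain ⟨p₂, hp₂⟩ := kodaira k hA hd1 hd g' μ hb'
  obtain ⟨p₃, hp₃⟩ := kodaira k hA hd1 hd g 1 hb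
  obtain ⟨p₄, hp₄⟩ := kodaira k hA hd1 hd g' 1 hb'
  simp only [inv_one, one_mul] at hp₃ hp₄
  set p := max (max p₁ p₂) (max p₃ p₄) with hp
  have e1 := hp₁ p (by omega)
  have e2 := hp₂ p (by omega)
  have e3 := hp₃ p (by omega)
  have e4 := hp₄ p (by omega)
  have hd0 : (0 : ℝ) < 1 / (d : ℝ) := by
    have : (0 : ℝ) < d := by exact_mod_cast hd1
    positivity
  have mono : ∀ {a b : ℕ}, a ≤ b → (a : ℝ) ^ (1 / (d : ℝ)) ≤ (b : ℝ) ^ (1 / (d : ℝ)) := fun h =>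
    Real.rpow_le_rpow (Nat.cast_nonneg _) (by exact_mod_cast h) hd0.le
  have bdd : ∀ g : Pic X, ∃ B : ℝ, ∀ m : ℕ, p + 1 ≤ m → (h0 k (g ^ m) : ℝ) ≤ B * (m : ℝ) ^ d := by
    intro g
    obtain ⟨C, hC⟩ := growth_h0 k hA hd g
    refine ⟨C * 2 ^ d, fun m hm => ?_⟩
    have hm1 : (1 : ℝ) ≤ m := by exact_mod_cast (by omega : 1 ≤ m)
    have h1 : (h0 k (g ^ m) : ℝ) ≤ C * ((m : ℝ) + 1) ^ d := by exact_mod_cast hC m
    refine h1.trans ?_
    rw [mul_assoc, ← mul_pow]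
    exact mul_le_mul_of_nonneg_left (pow_le_pow_left₀ (by positivity) (by linarith) _) (Nat.cast_nonneg _)
  obtain ⟨B, hB⟩ := bdd g
  obtain ⟨B', hB'⟩ := bdd g'
  refine Fekete.limsup_add_le hd1 (h := fun m => h0 k (g ^ m)) (h' := fun m => h0 k (g' ^ m))
    (H := fun m => h0 k ((g * g') ^ m)) (N := p + 1) (p := p) (p' := p) (q := p) ?_ ?_ hB hB' ?_
  · intro m hm m' hm'
    refine (hμ _ _ (hp₃ m (by omega)) (hp₃ m' (by omega))).trans (mono ?_)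
    refine (h0_le_mul k e1 _).trans (le_of_eq (congrArg _ ?_))
    rw [cancel_aux, pow_add, pow_add, mul_comm]
  · intro m hm m' hm'
    refine (hμ _ _ (hp₄ m (by omega)) (hp₄ m' (by omega))).trans (mono ?_)
    refine (h0_le_mul k e2 _).trans (le_of_eq (congrArg _ ?_))
    rw [cancel_aux, pow_add, pow_add, mul_comm]
  · intro m hm
    refine (hμ _ _ (hp₃ m (by omega)) (hp₄ m (by omega))).trans (mono ?_)
    refine (h0_le_mul k (h0_mul_pos k e1 e4) _).trans (le_of_eq (congrArg _ ?_))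
    rw [mul_assoc μ⁻¹, cancel_aux, pow_add, mul_pow, mul_pow, mul_comm]

end K436.VolAdd
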