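import Groth.Agent.Variety.K436.PsefMain
import Groth.Agent.Pic13.H950.Curves
import Groth.Agent.CohqA.IdealMod
import Groth.Agent.Ega1.IdealGen

/-!
# Finiteness of the numerical classes below an effective class
-/

set_option autoImplicit false
universe u
open CategoryTheory CategoryTheory.Limits AlgebraicGeometry

namespace K436.FinCls

open Groth.Agent Groth.Agent.Grpsch.PicGrp Groth.Agent.Fdesc.LocGen Groth.Agent.Pic13.H945.DegAmple
open Groth.Agent.Pic13.H970.IntForm Groth.Agent.Fga.PicMon K516.DegForm K931.Eff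
open K436.PsefGeo K436.PsefMain

/-- A family of additive functionals which factor through `ℤ ^ p` has the same common kernel as a finite subfamily. -/
theorem exists_fin {V : Type*} [AddCommGroup V] {p : ℕ} (δ : V →+ (Fin p → ℤ)) {ι : Type*} (φ : ι → (V →+ ℤ))
    (h : ∀ i a, δ a = 0 → φ i a = 0) :
    ∃ (m : ℕ) (c : Fin m → ι), ∀ a, (∀ j, φ (c j) a = 0) → ∀ i, φ i a = 0 := by
  have hfg : (LinearMap.range δ.toIntLinearMap).FG := IsNoetherian.noetherian _
  obtain ⟨q, v, hv⟩ := Submodule.fg_iff_exists_fin_generating_family.1 hfg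
  have hv' : ∀ j, ∃ x : V, δ x = v j := fun j => by
    have : v j ∈ LinearMap.range δ.toIntLinearMap := by
      rw [← hv]
      exact Submodule.subset_span ⟨j, rfl⟩
    exact this
  choose x hx using hv'
  -- evaluation
  have key : ∀ a : V, ∃ n : Fin q → ℤ, ∀ i, φ i a = ∑ j, n j * φ i (x j) := by
    intro a
    have h1 : δ a ∈ Submodule.span ℤ (Set.range v) := by
      rw [hv]
      exact ⟨a, rfl⟩
    obtain ⟨n, hn⟩ := (Submodule.mem_span_range_iff_exists_fun ℤ).1 h1
    refine ⟨n, fun i => ?_⟩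
    have h2 : δ (a - ∑ j, n j • x j) = 0 := by
      rw [map_sub, map_sum, sub_eq_zero, ← hn]
      refine Finset.sum_congr rfl fun j _ => ?_
      rw [map_zsmul, hx]
    have h3 := h i _ h2
    rw [map_sub, map_sum, sub_eq_zero] at h3
    rw [h3]
    refine Finset.sum_congr rfl fun j _ => ?_
    rw [map_zsmul, smul_eq_mul]
  let e : ι → (Fin q → ℤ) := fun i j => φ i (x j)
  have hfg2 : (Submodule.span ℤ (Set.range e)).FG := IsNoetherian.noetherian _
  obtain ⟨S, hS, hspan⟩ := (Submodule.fg_span_iff_fg_span_finset_subset (R := ℤ) (Set.range e)).1 hfg2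
  choose m hm using fun y : S => hS y.2
  let eq := S.equivFin
  refine ⟨S.card, fun j => m (eq.symm j), fun a ha i => ?_⟩
  obtain ⟨n, hn⟩ := key a
  let l : (Fin q → ℤ) →ₗ[ℤ] ℤ := ∑ j, n j • LinearMap.proj j
  have hl : ∀ i, l (e i) = φ i a := fun i => by
    rw [hn]
    simp [l, e, LinearMap.sum_apply]
  have h4 : Submodule.span ℤ (Set.range e) ≤ LinearMap.ker l := by
    rw [hspan, Submodule.span_le]
    intro y hy
    have h5 := ha (eq ⟨y, hy⟩)
    simp only [Equiv.symm_apply_apply] at h5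
    rw [SetLike.mem_coe, LinearMap.mem_ker, ← h5, ← hl]
    congr 1
    exact (hm ⟨y, hy⟩).symm
  have h6 : l (e i) = 0 := h4 (Submodule.subset_span ⟨i, rfl⟩)
  rw [← hl, h6]

variable (k : Type u) [Field k] {X : Scheme.{u}} [X.Over (Spec (CommRingCat.of k))]
  [IsProper (X ↘ Spec (CommRingCat.of k))]

/-- The numerical class group embeds into a lattice. -/
theorem exists_deg [GeometricallyIntegral (X ↘ Spec (CommRingCat.of k))] {A : X.Modules} (hA : CohB1.IsAmple A) :
    ∃ (p : ℕ) (δ : Additive (Pic X) →+ (Fin p → ℤ)), ∀ a : Pic X, δ (Additive.ofMul a) = 0 → a ∈ num0 k X := by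
  obtain ⟨K, _, _, _, X', _, g, hpb, hint, hprop, haff, hd'⟩ := GeomBC.exists_geom k X
  have hA' : CohB1.IsAmple ((Scheme.Modules.pullback g).obj A) := CohqB.AmpCocycle.isAmple_pullback g hA
  obtain ⟨p, C, hC⟩ := Pic13.H950.Curves.exists_curves K X'
  refine ⟨p, { toFun := fun a j => Pic13.H950.NumCl.dgc K X' (C j) (pull g a.toMul)
               map_zero' := ?_
               map_add' := ?_ }, fun a ha => ?_⟩
  · funext j
    change Pic13.H950.NumCl.dgc K X' (C j) (pull g 1) = 0
    rw [map_one, Pic13.H950.NumCl.dgc_one]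
  · intro a b
    funext j
    change Pic13.H950.NumCl.dgc K X' (C j) (pull g (a.toMul * b.toMul)) = _
    rw [map_mul, Pic13.H950.NumCl.dgc_mul]
    rfl
  · obtain ⟨L, hL, rfl⟩ := exists_mk a
    refine NumDesc.isNumEquivZero_descend k X K X' g _ hpb hA' hL ?_
    rw [← Pic13.H950.NumCl.mem_numCl_iff K X' (isInvertible_pullback g hL), ← pull_mk g hL]
    exact hC _ fun j => congrFun ha j

/-- Finitely many functionals, nonnegative on effective classes, whose common kernel is the group of numerically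
trivial classes. -/
theorem exists_functionals [IsIntegral X] [GeometricallyIntegral (X ↘ Spec (CommRingCat.of k))] {A : X.Modules}
    (hA : CohB1.IsAmple A) :
    ∃ (m : ℕ) (Φ : Fin m → (Additive (Pic X) →+ ℤ)), (∀ j (c : Pic X), Eff c → 0 ≤ Φ j (Additive.ofMul c)) ∧
      (∀ j, ∀ a ∈ num0 k X, Φ j (Additive.ofMul a) = 0) ∧
      ∀ a : Pic X, (∀ j, Φ j (Additive.ofMul a) = 0) → a ∈ num0 k X := by
  have : CompactSpace X :=
    (quasiCompact_iff_compactSpace (X ↘ (Spec (CommRingCat.of k)))).mp inferInstance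
  have : X.IsSeparated := ⟨by
    have h1 : terminal.from X = (X ↘ Spec (CommRingCat.of k)) ≫ terminal.from _ := terminal.hom_ext _ _
    rw [h1]; infer_instance⟩
  -- the dimension
  obtain ⟨d, hd⟩ : ∃ d : ℕ, topologicalKrullDim X = (d : WithBot ℕ∞) := by
    obtain ⟨n, hn⟩ := EtpbcA.CdFinDim.exists_dim_le (X ↘ Spec (CommRingCat.of k))
    have : Nonempty (TopologicalSpace.IrreducibleCloseds X) :=
      ⟨⟨closure {genericPoint X}, isIrreducible_singleton.closure, isClosed_closure⟩⟩
    exact Pic13.H11.Core.exists_nat Order.krullDim_nonneg hn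
  have heff : ∀ {r : ℕ} (hr : topologicalKrullDim X = ((r + 1 : ℕ) : WithBot ℕ∞)) (b : Fin r → Pic X)
      (_ : ∀ i, Amp (b i)) (c : Pic X), Eff c → 0 ≤ phi k hr b (Additive.ofMul c) := by
    intro r hr b hb c hc
    choose L hL hbL hLA using hb
    have h2 := JO_eff_nonneg k hr hc L hLA
    have h3 : phi k hr b (Additive.ofMul c) = JO k X (r + 1) hr.le
        (Fin.cons (Additive.ofMul c) (fun i => Additive.ofMul (mk (L i) (hLA i).1)) :
          Fin (r + 1) → Additive (Pic X)) := by
      have : b = fun i => mk (L i) (hLA i).1 := funext hbL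
      rw [this]
      rfl
    rw [h3]
    exact h2
  have hnum : ∀ {r : ℕ} (hr : topologicalKrullDim X = ((r + 1 : ℕ) : WithBot ℕ∞)) (b : Fin r → Pic X)
      (a : Pic X), a ∈ num0 k X → phi k hr b (Additive.ofMul a) = 0 := by
    intro r hr b a ha
    rw [phi_apply]
    exact I_cons_num k hA (r + 1) hr.le (inv_mem ha) _
  obtain ⟨p, δ, hδ⟩ := exists_deg k hA
  rcases d with _ | _ | s
  · -- dimension zero
    refine ⟨0, fun i => i.elim0, fun i => i.elim0, fun i => i.elim0, fun a _ Y i _ _ hYd => ?_⟩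
    exfalso
    have h1 := i.isClosedEmbedding.isInducing.topologicalKrullDim_le
    rw [hYd, hd] at h1
    exact absurd h1 (by decide)
  · -- curves
    refine ⟨1, fun _ => phi k hd Fin.elim0, fun _ c hc => heff hd _ (fun i => i.elim0) c hc,
      fun _ a ha => hnum hd _ a ha, fun a ha => mem_num0_curve k hd a ?_⟩
    have h1 := ha 0
    rw [phi_apply] at h1
    rw [← h1]
    congr 1
    funext i
    refine Fin.cases ?_ (fun i => i.elim0) i
    rfl
  · -- higher dimension
    set h := mk A hA.1 with hh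
    have hAmp : Amp h := ⟨A, hA.1, rfl, hA⟩
    let φ : {c : Pic X // Amp c} → (Additive (Pic X) →+ ℤ) := fun c =>
      phi k hd (Fin.cons c.1 (fun _ => h) : Fin (s + 1) → Pic X)
    obtain ⟨m, c, hc⟩ := exists_fin δ φ fun i a ha => hnum hd _ a.toMul (hδ _ ha)
    refine ⟨m, fun j => φ (c j), fun j e he => heff hd _ (fun i => ?_) e he, fun j a ha => hnum hd _ a ha,
      fun a ha => mem_num0_of_forall k hA s hd a fun b => ?_⟩
    · refine Fin.cases ?_ (fun i => ?_) i
      · exact (c j).2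
      · exact hAmp
    have h1 := hc (Additive.ofMul a) ha
    obtain ⟨n₀, -, hn₀⟩ := hAmp.eventually b
    obtain ⟨n₁, -, hn₁⟩ := hAmp.eventually 1
    set n := max n₀ n₁ with hn
    have e1 : Amp (h ^ n * b) := hn₀ n (le_max_left _ _)
    have e2 : Amp (h ^ n) := by simpa using hn₁ n (le_max_right _ _)
    have h2 := h1 ⟨_, e1⟩
    have h3 := h1 ⟨_, e2⟩
    change phi k hd (Fin.cons (h ^ n * b) (fun _ => h) : Fin (s + 1) → Pic X) (Additive.ofMul a) = 0 at h2
    change phi k hd (Fin.cons (h ^ n) (fun _ => h) : Fin (s + 1) → Pic X) (Additive.ofMul a) = 0 at h3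
    rw [phi_cons_mul, h3, zero_add, phi_apply] at h2
    rw [← h2]
    congr 1
    funext i
    refine Fin.cases ?_ (fun i => ?_) i
    · rfl
    · refine Fin.cases ?_ (fun i => ?_) i <;> rfl

/-- The class of an effective Cartier divisor is effective. -/
theorem eff_of_isEffCartier [IsIntegral X] {D : X.IdealSheafData} (hD : BlowUp.IsEffCartierIdeal D) :
    Eff (mk (ClSub.idealMod D) (Ega1.IdealGen.isInvertible_idealMod _ hD))⁻¹ := by
  have h1 := (exists_mono_iff (Ega1.IdealGen.isInvertible_idealMod _ hD)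
    (isInvertible_structureModule (X := X))).1 ⟨ClSub.idealModι D, CohqA.IdealMod.mono_idealModι D⟩
  rwa [← Grpsch.PicGrp.one_def, one_div] at h1

/-- **Finitely many numerical classes below an effective divisor.** -/
theorem main [IsIntegral X] [GeometricallyIntegral (X ↘ Spec (CommRingCat.of k))] {A : X.Modules}
    (hA : CohB1.IsAmple A) (D : X.IdealSheafData) (hD : FGA.IsEffCartier D) :
    ∃ (n : ℕ) (F : Fin n → X.Modules), ∀ (D' D'' : X.IdealSheafData), FGA.IsEffCartier D' → FGA.IsEffCartier D'' →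
      ∀ N : X.Modules, PicF.IsInvertible N → Pic13.IsNumEquivZero k X N →
        Nonempty (ClSub.idealMod D ≅ CohB1.tensorMod (CohB1.tensorMod (ClSub.idealMod D') (ClSub.idealMod D'')) N) →
          ∃ (i : Fin n) (N' : X.Modules), PicF.IsInvertible N' ∧ Pic13.IsNumEquivZero k X N' ∧
            Nonempty (ClSub.idealMod D' ≅ CohB1.tensorMod (F i) N') := by
  obtain ⟨m, Φ, h1, h2, h3⟩ := exists_functionals k hA
  have hDi := Ega1.IdealGen.isInvertible_idealMod _ hD
  set b : Fin m → ℤ := fun j => Φ j (Additive.ofMul (mk (ClSub.idealMod D) hDi)⁻¹) with hb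
  -- the set of classes below `D`
  let T : Set (Pic X) := {a | Eff a ∧ ∀ j, Φ j (Additive.ofMul a) ≤ b j}
  let G : Pic X → (Fin m → ℤ) := fun a j => Φ j (Additive.ofMul a)
  have hfin : (G '' T).Finite := by
    refine (Set.finite_Icc (0 : Fin m → ℤ) b).subset ?_
    rintro _ ⟨a, ⟨ha, hab⟩, rfl⟩
    exact ⟨fun j => h1 j a ha, fun j => hab j⟩
  have := hfin.fintype
  obtain ⟨n, ⟨e⟩⟩ := Finite.exists_equiv_fin (G '' T)
  choose r hr using fun y : G '' T => y.2
  refine ⟨n, fun i => rep (r (e.symm i))⁻¹, fun D' D'' hD' hD'' N hN hNn ⟨φ⟩ => ?_⟩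
  have hD'i := Ega1.IdealGen.isInvertible_idealMod _ hD'
  have hD''i := Ega1.IdealGen.isInvertible_idealMod _ hD''
  have hcl : mk (ClSub.idealMod D) hDi = mk (ClSub.idealMod D') hD'i * mk (ClSub.idealMod D'') hD''i * mk N hN := by
    rw [mk_mul_mk hD'i hD''i, mk_mul_mk (isInvertible_tensorMod hD'i hD''i) hN, mk_eq_iff]
    exact ⟨φ⟩
  set a := (mk (ClSub.idealMod D') hD'i)⁻¹ with ha
  have hN0 : mk N hN ∈ num0 k X := hNn
  have haT : a ∈ T := by
    refine ⟨eff_of_isEffCartier hD', fun j => ?_⟩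
    have h4 : (mk (ClSub.idealMod D) hDi)⁻¹ = a * (mk (ClSub.idealMod D'') hD''i)⁻¹ * (mk N hN)⁻¹ := by
      rw [hcl, mul_inv, mul_inv]
    have h5 := h1 j _ (eff_of_isEffCartier hD'')
    rw [hb]
    simp only
    rw [h4, ofMul_mul, ofMul_mul, map_add, map_add, h2 j _ (inv_mem hN0), add_zero]
    linarith
  let y : G '' T := ⟨G a, a, haT, rfl⟩
  have hy : G (r y) = G a := (hr y).2
  have hz : a⁻¹ * r y ∈ num0 k X := by
    refine h3 _ fun j => ?_
    have h6 := congrFun hy j
    change Φ j (Additive.ofMul (r y)) = Φ j (Additive.ofMul a) at h6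
    rw [ofMul_mul, map_add, ofMul_inv, map_neg, h6, neg_add_cancel]
  refine ⟨e y, rep (a⁻¹ * r y), rep_inv _, ?_, ?_⟩
  · have h7 : mk (rep (a⁻¹ * r y)) (rep_inv _) ∈ num0 k X := by
      rw [mk_rep]
      exact hz
    exact h7
  · change Nonempty (ClSub.idealMod D' ≅ CohB1.tensorMod (rep (r (e.symm (e y)))⁻¹) (rep (a⁻¹ * r y)))
    rw [Equiv.symm_apply_apply, ← mk_eq_iff hD'i (isInvertible_tensorMod (rep_inv _) (rep_inv _)),
      ← mk_mul_mk (rep_inv _) (rep_inv _), mk_rep, mk_rep, ha, inv_inv, mul_comm, mul_assoc, mul_inv_cancel, mul_one]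

end K436.FinCls
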