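import Groth.Agent.Variety.K436.VolAdd

/-!
# Upper limits in the extended non-negative reals and lower order remainders
-/

set_option autoImplicit false

open Filter Topology
open scoped ENNReal NNReal

namespace K436.EnnLim

theorem ev_le {d : ℕ} (hd1 : 1 ≤ d) (C : ℕ) {ε : ℝ≥0∞} (hε : 0 < ε) :
    ∃ N : ℕ, ∀ m : ℕ, N ≤ m → ((C * (m + 1) ^ (d - 1) : ℕ) : ℝ≥0∞) ≤ ε * (m : ℝ≥0∞) ^ d := by
  wlog hεt : ε ≠ ⊤ generalizing ε with H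
  · obtain ⟨N, hN⟩ := H (ε := 1) one_pos ENNReal.one_ne_top
    refine ⟨N, fun m hm => (hN m hm).trans ?_⟩
    rw [not_not] at hεt
    rw [hεt]
    gcongr
    exact le_top
  obtain ⟨N, hN⟩ := K436.VolAdd.eventually_lt hd1 (ENNReal.toReal_pos hε.ne' hεt) (C : ℝ)
  refine ⟨N, fun m hm => ?_⟩
  have h1 := hN m hm
  have h2 : ε * (m : ℝ≥0∞) ^ d ≠ ⊤ := ENNReal.mul_ne_top hεt (ENNReal.pow_ne_top (ENNReal.natCast_ne_top m))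
  rw [← ENNReal.toReal_le_toReal (ENNReal.natCast_ne_top _) h2, ENNReal.toReal_mul, ENNReal.toReal_pow,
    ENNReal.toReal_natCast, ENNReal.toReal_natCast]
  push_cast
  exact h1.le

/-- An eventual bound by the upper limit. -/
theorem ev_le_limsup {d : ℕ} (b : ℕ → ℕ) {ε : ℝ≥0∞} (hε : 0 < ε) :
    ∃ N : ℕ, ∀ m : ℕ, N ≤ m → (b m : ℝ≥0∞) ≤
      (limsup (fun m : ℕ => (b m : ℝ≥0∞) / (m : ℝ≥0∞) ^ d) atTop + ε) * (m : ℝ≥0∞) ^ d := by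
  set v := limsup (fun m : ℕ => (b m : ℝ≥0∞) / (m : ℝ≥0∞) ^ d) atTop with hv
  by_cases hvt : v = ⊤
  · refine ⟨1, fun m hm => ?_⟩
    rw [hvt, top_add, ENNReal.top_mul]
    · exact le_top
    · exact pow_ne_zero _ (by exact_mod_cast (by omega : m ≠ 0))
  · have h1 : v < v + ε := ENNReal.lt_add_right hvt hε.ne'
    have h2 := eventually_lt_of_limsup_lt h1
    obtain ⟨N, hN⟩ := eventually_atTop.1 h2
    refine ⟨N + 1, fun m hm => ?_⟩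
    have h3 := (hN m (by omega)).le
    have hm0 : (m : ℝ≥0∞) ^ d ≠ 0 := pow_ne_zero _ (by exact_mod_cast (by omega : m ≠ 0))
    have hmt : (m : ℝ≥0∞) ^ d ≠ ⊤ := ENNReal.pow_ne_top (ENNReal.natCast_ne_top m)
    rwa [ENNReal.div_le_iff hm0 hmt] at h3

/-- `c a ≤ b + O(m^(d-1))` gives the inequality of upper limits. -/
theorem limsup_le_of_le_add {d : ℕ} (hd1 : 1 ≤ d) {a b : ℕ → ℕ} {C : ℕ} (c : ℕ)
    (h : ∀ m, c * a m ≤ b m + C * (m + 1) ^ (d - 1)) :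
    (c : ℝ≥0∞) * limsup (fun m : ℕ => (a m : ℝ≥0∞) / (m : ℝ≥0∞) ^ d) atTop ≤
      limsup (fun m : ℕ => (b m : ℝ≥0∞) / (m : ℝ≥0∞) ^ d) atTop := by
  rw [← ENNReal.limsup_const_mul_of_ne_top (ENNReal.natCast_ne_top c)]
  refine ENNReal.le_of_forall_pos_le_add fun ε hε _ => ?_
  have hε' : (0 : ℝ≥0∞) < (ε : ℝ≥0∞) / 2 := ENNReal.half_pos (by exact_mod_cast hε.ne')
  obtain ⟨N, hN⟩ := ev_le_limsup (d := d) b hε'
  obtain ⟨N', hN'⟩ := ev_le hd1 C hε'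
  refine limsup_le_of_le (by isBoundedDefault) ?_
  filter_upwards [eventually_ge_atTop (max N N' + 1)] with m hm
  have hm0 : (m : ℝ≥0∞) ^ d ≠ 0 := pow_ne_zero _ (by exact_mod_cast (by omega : m ≠ 0))
  have hmt : (m : ℝ≥0∞) ^ d ≠ ⊤ := ENNReal.pow_ne_top (ENNReal.natCast_ne_top m)
  rw [← mul_div_assoc, ENNReal.div_le_iff hm0 hmt]
  calc (c : ℝ≥0∞) * (a m : ℝ≥0∞) = ((c * a m : ℕ) : ℝ≥0∞) := by push_cast; rfl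
    _ ≤ ((b m + C * (m + 1) ^ (d - 1) : ℕ) : ℝ≥0∞) := by exact_mod_cast h m
    _ = (b m : ℝ≥0∞) + ((C * (m + 1) ^ (d - 1) : ℕ) : ℝ≥0∞) := by push_cast; rfl
    _ ≤ (limsup (fun m : ℕ => (b m : ℝ≥0∞) / (m : ℝ≥0∞) ^ d) atTop + ε / 2) * (m : ℝ≥0∞) ^ d +
          (ε : ℝ≥0∞) / 2 * (m : ℝ≥0∞) ^ d :=
        add_le_add (hN m (by omega)) (hN' m (by omega))
    _ = (limsup (fun m : ℕ => (b m : ℝ≥0∞) / (m : ℝ≥0∞) ^ d) atTop + ε) * (m : ℝ≥0∞) ^ d := by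
        rw [← add_mul, add_assoc, ENNReal.add_halves]

/-- `c h ≤ b m + O(m^(d-1))` gives the eventual bound. -/
theorem le_of_le_add {d : ℕ} (hd1 : 1 ≤ d) {b : ℕ → ℕ} (C c : ℕ) (hc : 0 < c) {ε : ℝ≥0∞} (hε : 0 < ε) :
    ∃ N : ℕ, ∀ m : ℕ, N ≤ m → ∀ h : ℕ, c * h ≤ b m + C * (m + 1) ^ (d - 1) →
      (h : ℝ≥0∞) ≤ (limsup (fun m : ℕ => (b m : ℝ≥0∞) / (m : ℝ≥0∞) ^ d) atTop / c + ε) * (m : ℝ≥0∞) ^ d := by
  have hε' : (0 : ℝ≥0∞) < ε / 2 := ENNReal.half_pos hε.ne'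
  obtain ⟨N, hN⟩ := ev_le_limsup (d := d) b hε'
  obtain ⟨N', hN'⟩ := ev_le hd1 C hε'
  refine ⟨max N N', fun m hm h hh => ?_⟩
  have hc0 : (c : ℝ≥0∞) ≠ 0 := by exact_mod_cast hc.ne'
  have hct : (c : ℝ≥0∞) ≠ ⊤ := ENNReal.natCast_ne_top c
  have h1 : (h : ℝ≥0∞) * c ≤ (limsup (fun m : ℕ => (b m : ℝ≥0∞) / (m : ℝ≥0∞) ^ d) atTop + ε) * (m : ℝ≥0∞) ^ d := by
    calc (h : ℝ≥0∞) * (c : ℝ≥0∞) = ((c * h : ℕ) : ℝ≥0∞) := by push_cast; ring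
    _ ≤ ((b m + C * (m + 1) ^ (d - 1) : ℕ) : ℝ≥0∞) := by exact_mod_cast hh
    _ = (b m : ℝ≥0∞) + ((C * (m + 1) ^ (d - 1) : ℕ) : ℝ≥0∞) := by push_cast; rfl
    _ ≤ (limsup (fun m : ℕ => (b m : ℝ≥0∞) / (m : ℝ≥0∞) ^ d) atTop + ε / 2) * (m : ℝ≥0∞) ^ d +
          (ε : ℝ≥0∞) / 2 * (m : ℝ≥0∞) ^ d :=
        add_le_add (hN m (by omega)) (hN' m (by omega))
    _ = (limsup (fun m : ℕ => (b m : ℝ≥0∞) / (m : ℝ≥0∞) ^ d) atTop + ε) * (m : ℝ≥0∞) ^ d := by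
        rw [← add_mul, add_assoc, ENNReal.add_halves]
  have h2 : (h : ℝ≥0∞) ≤ (limsup (fun m : ℕ => (b m : ℝ≥0∞) / (m : ℝ≥0∞) ^ d) atTop + ε) * (m : ℝ≥0∞) ^ d / c := by
    rwa [ENNReal.le_div_iff_mul_le (Or.inl hc0) (Or.inl hct)]
  refine h2.trans ?_
  rw [mul_comm, mul_div_assoc, mul_comm, ENNReal.add_div]
  gcongr
  rw [ENNReal.div_le_iff hc0 hct]
  calc ε = ε * 1 := (mul_one ε).symm
    _ ≤ ε * c := by
      gcongr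
      exact_mod_cast hc

end K436.EnnLim
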