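import Groth.Agent.Variety.K436.PushCls
import Groth.Agent.Variety.K436.EnnLim

/-!
# Sections of multiples of divisors and of their push-forwards
-/

set_option autoImplicit false
set_option linter.style.haveILetI false
universe u

open CategoryTheory CategoryTheory.Limits AlgebraicGeometry TopologicalSpace Opposite Filter
open scoped ENNReal

namespace K436.DivVol

open Groth.Agent.Fdesc.LocGen Groth.Agent.Divis.NormSheaf K436.GVal K436.Frame K436.DivSh K436.SpanSec
open Groth.Agent.Grpsch.PicGrp K436.NormIneq K436.VolAdd K436.PushNorm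

variable (k : Type u) [Field k]

/-- `h⁰` of multiples of a divisor. -/
theorem h0_nsmul {X : Scheme.{u}} [X.Over (Spec (CommRingCat.of k))] [IsIntegral X] [IsLocallyNoetherian X]
    (hX : Pi1.IsNormalScheme X) {D : X → ℤ} (hD : LocPrin D) (m : ℕ) :
    Module.finrank k (Coh.HH X (WDiv.divSh (fun x => (m : ℤ) * D x)) 0) =
      h0 k (mk (WDiv.divSh D) (isInvertible hX hD) ^ m) := by
  rw [← mk_nsmul hX hD m (hD.nsmul m), h0_mk]

variable {k}

/-- **Growth of sections of multiples of a divisor and of its push-forward.** -/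
theorem main [IsAlgClosed k] [CharZero k] {X Y : Scheme.{u}} [X.Over (Spec (CommRingCat.of k))]
    [Y.Over (Spec (CommRingCat.of k))] [IsIntegral X] [IsIntegral Y] [IsLocallyNoetherian X] [IsLocallyNoetherian Y]
    [IsProper (X ↘ Spec (CommRingCat.of k))] [IsProper (Y ↘ Spec (CommRingCat.of k))]
    (hXproj : ∃ A : X.Modules, CohB1.IsAmple A) (hXn : Pi1.IsNormalScheme X) (hYn : Pi1.IsNormalScheme Y)
    (d : ℕ) (hd1 : 1 ≤ d) (hdX : topologicalKrullDim X = d)
    (f : Y ⟶ X) (hf : f ≫ (X ↘ Spec (CommRingCat.of k)) = Y ↘ Spec (CommRingCat.of k)) [IsFinite f]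
    (hdom : f.base (genericPoint Y) = genericPoint X)
    (n : ℕ) (hn : f.residueDegree (genericPoint Y) = n)
    (E : WDiv.Divisor Y ℤ) (D : WDiv.Divisor X ℤ) (hE : LocPrin (fun y => E.1 y)) (hD : LocPrin (fun x => D.1 x))
    (hpush : AlgebraicCycle.map f (fun _ : ↥Y => PUnit.unit.{1}) (fun _ : ↥X => PUnit.unit.{1}) E.1 = D.1) :
    (n : ℝ≥0∞) ^ (d - 1) *
        Filter.limsup (fun m : ℕ => (Module.finrank k
          (Coh.HH Y (WDiv.divSh (fun y : ↥Y => (m : ℤ) * E.1 y)) 0) : ℝ≥0∞) / (m : ℝ≥0∞) ^ d) Filter.atTop ≤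
      Filter.limsup (fun m : ℕ => (Module.finrank k
          (Coh.HH X (WDiv.divSh (fun x : ↥X => (m : ℤ) * D.1 x)) 0) : ℝ≥0∞) / (m : ℝ≥0∞) ^ d) Filter.atTop := by
  haveI : Surjective f := GalZ.surjective_of_pt f (genericPoint Y) hdom
  obtain ⟨A, hA⟩ := hXproj
  obtain ⟨C, hC⟩ := norm_ineq k hA hXn hd1 hdX f hf
  set δ := mk (WDiv.divSh (fun x => D.1 x)) (isInvertible hXn hD) with hδ
  set e := mk (WDiv.divSh (fun y => E.1 y)) (isInvertible hYn hE) with he
  have hnorm : IsNorm f e δ := isNorm f hXn hYn E.1 (fun _ => rfl) hE (fun x => by rw [hpush]) hD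
  obtain ⟨C', hC'⟩ := step_h0 k hA hd1 hdX δ C
  have hdeg : deg f = n := by rw [← residueDegree_eq, hn]
  have key : ∀ m : ℕ, n ^ (d - 1) * h0 k (e ^ m) ≤ h0 k (δ ^ m) + C' * (m + 1) ^ (d - 1) := by
    intro m
    have h1 := hC _ _ (PushNorm.IsNorm.pow f hnorm m)
    rw [hdeg, mul_comm (δ ^ m) C] at h1
    exact h1.trans (hC' m).1
  have h2 := EnnLim.limsup_le_of_le_add hd1 (n ^ (d - 1)) key
  rw [Nat.cast_pow] at h2
  have h3 : ∀ m : ℕ, Module.finrank k (Coh.HH Y (WDiv.divSh (fun y : ↥Y => (m : ℤ) * E.1 y)) 0) = h0 k (e ^ m) :=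
    fun m => h0_nsmul k hYn hE m
  have h4 : ∀ m : ℕ, Module.finrank k (Coh.HH X (WDiv.divSh (fun x : ↥X => (m : ℤ) * D.1 x)) 0) = h0 k (δ ^ m) :=
    fun m => h0_nsmul k hXn hD m
  simp only [h3, h4]
  exact h2

end K436.DivVol
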