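import Groth.Agent.Variety.K436.VolAdd
import Groth.Agent.Pic13.H11.Core
import Groth.Agent.VarietyA.EulerFinite
import Groth.Agent.S2324

/-!
# A twist with sections for all numerically trivial classes
-/

set_option autoImplicit false
universe u
open CategoryTheory CategoryTheory.Limits AlgebraicGeometry

namespace K436.NumPos

open Groth.Agent Groth.Agent.Grpsch.PicGrp Groth.Agent.Fdesc.LocGen K436.VolAdd
open Groth.Agent.Pic13.H945.DegAmple

variable (k : Type u) [Field k] {X : Scheme.{u}} [X.Over (Spec (CommRingCat.of k))] [IsIntegral X]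
  [IsProper (X ↘ Spec (CommRingCat.of k))]

theorem h0_pos_of_gen {L : X.Modules} (hL : PicF.IsInvertible L) (s : Coh.structureModule X ⟶ L) {x : X}
    (hx : x ∈ CohB1.genLocus L s) : 0 < h0 k (mk L hL) := by
  rw [h0_mk]
  have hfin := Groth.Agent.VarietyA.CurveFin.finite_HH k X hL 0
  by_contra h0
  have h1 : Module.finrank k (Coh.HH X L 0) = 0 := by omega
  have h2 : Subsingleton (Coh.HH X L 0) := Module.finrank_zero_iff.1 h1
  have h3 : sec s ⊤ = 0 := by
    apply (Picfga.ChiCech.toSecA (A := k) (M := L) (U := ⊤)).injective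
    obtain ⟨a, ha⟩ := (Picfga.ChiCech.h0Top k L).surjective (Picfga.ChiCech.toSecA (sec s ⊤))
    obtain ⟨b, hb⟩ := (Picfga.ChiCech.h0Top k L).surjective (Picfga.ChiCech.toSecA (0 : Γ(L, ⊤)))
    rw [← ha, ← hb, Subsingleton.elim a b]
  have h4 : IsGen (sec s (CohB1.genLocus L s)) := isGen_sec_genLocus s
  have h5 : sec s (CohB1.genLocus L s) = 0 := by
    have := res_sec s (le_top : CohB1.genLocus L s ≤ ⊤)
    rw [← this, h3, map_zero]
  have h6 : (1 : Γ(X, CohB1.genLocus L s)) = 0 := h4.ext (by rw [one_smul, zero_smul, h5])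
  have : Nonempty ((CohB1.genLocus L s : X.Opens).toScheme) := ⟨⟨x, hx⟩⟩
  exact one_ne_zero h6

theorem exists_pow_pos {A : X.Modules} (hA : CohB1.IsAmple A) (p₀ : ℕ) :
    ∃ p : ℕ, p₀ ≤ p ∧ 0 < h0 k (mk A hA.1 ^ p) := by
  have : CompactSpace X :=
    (quasiCompact_iff_compactSpace (X ↘ (Spec (CommRingCat.of k)))).mp inferInstance
  have : X.IsSeparated := ⟨by
    have h1 : terminal.from X = (X ↘ Spec (CommRingCat.of k)) ≫ terminal.from _ := terminal.hom_ext _ _
    rw [h1]; infer_instance⟩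
  obtain ⟨n, s, hs, -⟩ := S2324.result X A hA {genericPoint X} (Set.finite_singleton _) ⊤ (fun _ _ => trivial)
  have h1 := h0_pos_of_gen k (isInvertible_tensorPow hA.1 (n + 1)) s (hs rfl)
  rw [mk_tensorPow hA.1] at h1
  have h2 : ∀ m : ℕ, 0 < h0 k ((mk A hA.1 ^ (n + 1)) ^ (m + 1)) := by
    intro m
    induction m with
    | zero => simpa using h1
    | succ m ih => rw [pow_succ]; exact h0_mul_pos k ih h1
  refine ⟨(n + 1) * (p₀ + 1), by nlinarith, ?_⟩
  rw [pow_mul]
  exact h2 p₀

theorem exists_num {A : X.Modules} (hA : CohB1.IsAmple A) :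
    ∃ γ : Pic X, ∀ P ∈ num0 k X, 0 < h0 k (γ * P) := by
  obtain ⟨p₀, hp₀⟩ := (Pic13.H11.Core.good (k := k) hA (Coh.structureModule X)
    (Fdesc.StructMod.isCoh_structureModule X)).van
  obtain ⟨p, hp, hpos⟩ := exists_pow_pos k hA p₀
  have hApow := isInvertible_tensorPow hA.1 p
  have hchi := (Pic13.H11.Core.good (k := k) hA (CohB1.tensorPow A p) (Groth.Agent.Fga.HodgeSec.isCoh_of_isInvertible hApow)).chi
  have key : ∀ (N : X.Modules) (hN : PicF.IsInvertible N), Pic13.IsNumEquivZero k X N →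
      (h0 k (mk N hN * mk A hA.1 ^ p) : ℤ) = Curv2.euler k X (CohB1.tensorPow A p) := by
    intro N hN hnum
    have hON := isInvertible_tensorMod (isInvertible_structureModule (X := X)) hN
    have h1 := hp₀ N hN hnum p hp
    have h2 := Groth.Agent.VarietyA.EulerFinite.euler_eq_of_vanish k X _ (fun i hi => h1 i hi)
    have h3 : mk (CohB1.tensorMod (CohB1.tensorMod (Coh.structureModule X) N) (CohB1.tensorPow A p))
        (isInvertible_tensorMod hON hApow) = mk N hN * mk A hA.1 ^ p := by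
      rw [← mk_mul_mk hON hApow, ← mk_mul_mk isInvertible_structureModule hN, ← one_def, one_mul, mk_tensorPow hA.1]
    have h4 : mk (CohB1.tensorMod (CohB1.tensorPow A p) N) (isInvertible_tensorMod hApow hN) =
        mk N hN * mk A hA.1 ^ p := by
      rw [← mk_mul_mk hApow hN, mk_tensorPow hA.1, mul_comm]
    obtain ⟨e⟩ := (mk_eq_iff _ _).1 (h4.trans h3.symm)
    rw [← h3, h0_mk, ← h2, ← Groth.Agent.Fga.HodgePush.euler_congr k X e]
    exact hchi N hN hnum
  have h1 : (h0 k (mk A hA.1 ^ p) : ℤ) = Curv2.euler k X (CohB1.tensorPow A p) := by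
    have h2 := key (Coh.structureModule X) isInvertible_structureModule (one_mem (num0 k X))
    rwa [← one_def, one_mul] at h2
  refine ⟨mk A hA.1 ^ p, fun P hP => ?_⟩
  obtain ⟨N, hN, rfl⟩ := exists_mk P
  have h2 := key N hN hP
  rw [← h1] at h2
  rw [mul_comm]
  exact_mod_cast (by rw [h2]; exact_mod_cast hpos : (0 : ℤ) < (h0 k (mk N hN * mk A hA.1 ^ p) : ℤ))

end K436.NumPos
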