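import Groth.Agent.Variety.K436.DivVol
import Groth.Agent.Variety.K436.NumPos

/-!
# Bounds for sections of divisors with push-forward numerically equivalent to `m D + D'`
-/

set_option autoImplicit false
set_option linter.style.haveILetI false
universe u

open CategoryTheory CategoryTheory.Limits AlgebraicGeometry TopologicalSpace Opposite Filter
open scoped ENNReal

namespace K436.DivVol

open Groth.Agent.Fdesc.LocGen Groth.Agent.Divis.NormSheaf K436.GVal K436.Frame K436.DivSh K436.SpanSec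
open Groth.Agent.Grpsch.PicGrp K436.NormIneq K436.VolAdd K436.PushNorm Groth.Agent.Pic13.H945.DegAmple

theorem mk_congr' {X : Scheme.{u}} [IsIntegral X] [IsLocallyNoetherian X] (hX : Pi1.IsNormalScheme X)
    {D D' : X → ℤ} (h : D = D') (hD : LocPrin D) (hD' : LocPrin D') :
    mk (WDiv.divSh D) (isInvertible hX hD) = mk (WDiv.divSh D') (isInvertible hX hD') := by
  subst h; rfl

variable {k : Type u} [Field k]

theorem main2 [IsAlgClosed k] [CharZero k] {X Y : Scheme.{u}} [X.Over (Spec (CommRingCat.of k))]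
    [Y.Over (Spec (CommRingCat.of k))] [IsIntegral X] [IsIntegral Y] [IsLocallyNoetherian X] [IsLocallyNoetherian Y]
    [IsProper (X ↘ Spec (CommRingCat.of k))] [IsProper (Y ↘ Spec (CommRingCat.of k))]
    (hXproj : ∃ A : X.Modules, CohB1.IsAmple A) (hXn : Pi1.IsNormalScheme X) (hYn : Pi1.IsNormalScheme Y)
    (d : ℕ) (hd1 : 1 ≤ d) (hdX : topologicalKrullDim X = d)
    (f : Y ⟶ X) (hf : f ≫ (X ↘ Spec (CommRingCat.of k)) = Y ↘ Spec (CommRingCat.of k)) [IsFinite f]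
    (hdom : f.base (genericPoint Y) = genericPoint X)
    (n : ℕ) (hn : f.residueDegree (genericPoint Y) = n) (hn0 : 0 < n)
    (D D' : WDiv.Divisor X ℤ) (hD : LocPrin (fun x => D.1 x)) (hD' : LocPrin (fun x => D'.1 x)) :
    ∀ ε : ℝ≥0∞, 0 < ε → ∃ m₀ : ℕ, ∀ m : ℕ, m₀ ≤ m → ∀ E : WDiv.Divisor Y ℤ,
      LocPrin (fun y => E.1 y) →
      LocPrin (fun x => AlgebraicCycle.map f (fun _ : ↥Y => PUnit.unit.{1}) (fun _ : ↥X => PUnit.unit.{1}) E.1 x) →
      Pic13.IsNumEquivZero k X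
          (WDiv.divSh (fun x : ↥X => AlgebraicCycle.map f (fun _ : ↥Y => PUnit.unit.{1}) (fun _ : ↥X => PUnit.unit.{1}) E.1 x - (m : ℤ) * D.1 x - D'.1 x)) →
        (Module.finrank k (Coh.HH Y (WDiv.divSh (fun y : ↥Y => E.1 y)) 0) : ℝ≥0∞) ≤
          (Filter.limsup (fun j : ℕ => (Module.finrank k
            (Coh.HH X (WDiv.divSh (fun x : ↥X => (j : ℤ) * D.1 x)) 0) : ℝ≥0∞) / (j : ℝ≥0∞) ^ d) Filter.atTop /
              (n : ℝ≥0∞) ^ (d - 1) + ε) * (m : ℝ≥0∞) ^ d := by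
  intro ε hε
  haveI : Surjective f := GalZ.surjective_of_pt f (genericPoint Y) hdom
  obtain ⟨A, hA⟩ := hXproj
  obtain ⟨C, hC⟩ := norm_ineq k hA hXn hd1 hdX f hf
  obtain ⟨γ, hγ⟩ := NumPos.exists_num k (X := X) hA
  set δ := mk (WDiv.divSh (fun x => D.1 x)) (isInvertible hXn hD) with hδ
  set δ' := mk (WDiv.divSh (fun x => D'.1 x)) (isInvertible hXn hD') with hδ'
  obtain ⟨C', hC'⟩ := step_h0 k hA hd1 hdX δ (γ * δ' * C)
  obtain ⟨N, hN⟩ := EnnLim.le_of_le_add (b := fun m => h0 k (δ ^ m)) hd1 C' (n ^ (d - 1)) (pow_pos hn0 _) hε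
  have hdeg : deg f = n := by rw [← residueDegree_eq, hn]
  refine ⟨N, fun m hm E hE hF hnum => ?_⟩
  have h4 : ∀ j : ℕ, Module.finrank k (Coh.HH X (WDiv.divSh (fun x : ↥X => (j : ℤ) * D.1 x)) 0) = h0 k (δ ^ j) :=
    fun j => h0_nsmul k hXn hD j
  simp only [h4]
  set F : X → ℤ := fun x =>
    AlgebraicCycle.map f (fun _ : ↥Y => PUnit.unit.{1}) (fun _ : ↥X => PUnit.unit.{1}) E.1 x with hFdef
  set e := mk (WDiv.divSh (fun y => E.1 y)) (isInvertible hYn hE) with he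
  set ν := mk (WDiv.divSh F) (isInvertible hXn hF) with hν
  have hnorm : IsNorm f e ν := isNorm f hXn hYn E.1 (fun _ => rfl) hE (fun x => rfl) hF
  -- the numerically trivial part
  have hR : LocPrin (fun x => F x - (m : ℤ) * D.1 x - D'.1 x) := by
    have h1 := (hF.add ((hD.nsmul m).zsmul (-1))).add (hD'.zsmul (-1))
    have h2 : (fun x => F x + -1 * ((m : ℤ) * D.1 x) + -1 * D'.1 x) =
        fun x => F x - (m : ℤ) * D.1 x - D'.1 x := by
      funext x; ring
    rwa [h2] at h1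
  set P := mk (WDiv.divSh (fun x => F x - (m : ℤ) * D.1 x - D'.1 x)) (isInvertible hXn hR) with hP
  have hPnum : P ∈ num0 k X := (isNumEquivZero_iff_mem k X (isInvertible hXn hR)).1 hnum
  have hνeq : ν = δ ^ m * δ' * P := by
    have hs := (hD.nsmul m).add hD'
    have hs2 := hs.add hR
    rw [hδ, hδ', hP, ← mk_nsmul hXn hD m (hD.nsmul m), ← mk_add hXn (hD.nsmul m) hD' hs, ← mk_add hXn hs hR hs2]
    refine mk_congr' hXn ?_ hF hs2
    funext x; ring
  have h5 : n ^ (d - 1) * h0 k e ≤ h0 k (δ ^ m) + C' * (m + 1) ^ (d - 1) := by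
    have h1 := hC _ _ hnorm
    rw [hdeg] at h1
    refine h1.trans (((h0_le_mul k (hγ _ (inv_mem hPnum)) (ν * C)).trans (le_of_eq ?_)).trans (hC' m).1)
    congr 1
    rw [hνeq]
    calc γ * P⁻¹ * (δ ^ m * δ' * P * C) = γ * δ' * C * δ ^ m * (P⁻¹ * P) := by ac_rfl
      _ = γ * δ' * C * δ ^ m := by rw [inv_mul_cancel, mul_one]
  have h6 := hN m hm (h0 k e) h5
  rw [Nat.cast_pow] at h6
  rw [← h0_mk k (isInvertible hYn hE)]
  exact h6

end K436.DivVol
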