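import Groth.Agent.Variety.K436.Chart
import Groth.Agent.Ega2.AmpleSec

/-!
# A power of an ample module has all exponents of the cube `{0,1}^d`
-/

set_option autoImplicit false
universe u
open CategoryTheory CategoryTheory.Limits AlgebraicGeometry Opposite TopologicalSpace IsLocalRing
open Groth.Agent.Fdesc.LocGen Groth.Agent.Picfga.ChiCech

namespace K436.AmpleCube

open K436.GermExp K436.Chart

/-! ### products of sections -/

/-- The product of `n` sections of `B`, a section of `B^n`. -/
noncomputable def prodSec {X : Scheme.{u}} {B : X.Modules} {U : X.Opens} :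
    (n : ℕ) → (Fin n → Γ(B, U)) → Γ(CohB1.tensorPow B n, U)
  | 0, _ => one U
  | n + 1, w => tmul (prodSec n (fun i => w i.castSucc)) (w (Fin.last n))

theorem res_prodSec {X : Scheme.{u}} {B : X.Modules} {U V : X.Opens} (h : V ≤ U) (n : ℕ) (w : Fin n → Γ(B, U)) :
    res (CohB1.tensorPow B n) h (prodSec n w) = prodSec n (fun i => res B h (w i)) := by
  induction n with
  | zero => exact res_one h
  | succ n ih =>
    change res (CohB1.tensorMod (CohB1.tensorPow B n) B) h (tmul _ _) = _
    rw [res_tmul, ih]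
    rfl

theorem prodSec_smul {X : Scheme.{u}} {B : X.Modules} {U : X.Opens} (e : Γ(B, U)) (n : ℕ) (c : Fin n → Γ(X, U)) :
    prodSec n (fun i => c i • e) = (∏ i, c i) • pow e n := by
  induction n with
  | zero => rw [Finset.univ_eq_empty, Finset.prod_empty, one_smul]; rfl
  | succ n ih =>
    change tmul (prodSec n fun i => c i.castSucc • e) (c (Fin.last n) • e) = _
    rw [ih, smul_tmul, tmul_smul, smul_smul, Fin.prod_univ_castSucc]
    rfl

/-! ### local parameters on affine neighbourhoods -/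

theorem exists_params {X : Scheme.{u}} [IsLocallyNoetherian X] {x : X} {U : X.Opens} (hU : IsAffineOpen U)
    (hx : x ∈ U) {d : ℕ} [IsRegularLocalRing (X.presheaf.stalk x)] (hd : ringKrullDim (X.presheaf.stalk x) = d) :
    ∃ a : Fin d → Γ(X, U), Ideal.span (Set.range fun i => X.presheaf.germ U x hx (a i)) =
      maximalIdeal (X.presheaf.stalk x) := by
  have hN : IsNoetherianRing Γ(X, U) := IsLocallyNoetherian.component_noetherian ⟨U, hU⟩
  let : Algebra Γ(X, U) (X.presheaf.stalk x) := TopCat.Presheaf.algebra_section_stalk X.presheaf ⟨x, hx⟩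
  have hloc : IsLocalization.AtPrime (X.presheaf.stalk x) (hU.primeIdealOf ⟨x, hx⟩).asIdeal :=
    hU.isLocalization_stalk ⟨x, hx⟩
  set p := (hU.primeIdealOf ⟨x, hx⟩).asIdeal with hp
  obtain ⟨S, hS⟩ := (isNoetherianRing_iff_ideal_fg _).mp hN p
  have h1 : p.map (algebraMap Γ(X, U) (X.presheaf.stalk x)) = maximalIdeal (X.presheaf.stalk x) :=
    IsLocalization.AtPrime.map_eq_maximalIdeal p (X.presheaf.stalk x)
  rw [← hS, Ideal.map_span] at h1
  have h2 : Ideal.span (Set.range (fun s : S => algebraMap Γ(X, U) (X.presheaf.stalk x) s.1)) =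
      maximalIdeal (X.presheaf.stalk x) := by
    rw [← h1]
    congr 1
    ext z
    simp
  have h3 := (IsRegularLocalRing.iff_finrank_cotangentSpace (X.presheaf.stalk x)).mp inferInstance
  rw [hd] at h3
  obtain ⟨σ, hσ⟩ := Groth.Agent.Lefpen.H705.ClosedPoint.exists_subfamily _ h2 d (by exact_mod_cast h3)
  exact ⟨fun i => (σ i).1, hσ⟩

theorem lexOrder_monomial {k : Type*} [Field k] {d : ℕ} (e : Fin d →₀ ℕ) :
    MvPowerSeries.lexOrder (MvPowerSeries.monomial e (1 : k)) = toLex e := by
  classical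
  apply le_antisymm
  · refine MvPowerSeries.lexOrder_le_of_coeff_ne_zero ?_
    rw [MvPowerSeries.coeff_monomial_same]
    exact one_ne_zero
  · rw [MvPowerSeries.le_lexOrder_iff]
    intro e' he'
    rw [MvPowerSeries.coeff_monomial, if_neg]
    rintro rfl
    exact lt_irrefl _ he'

theorem prod_X_eq {k : Type*} [Field k] {d : ℕ} (ν : Fin d →₀ ℕ) (hν : ∀ i, ν i = 0 ∨ ν i = 1) :
    (∏ i, if ν i = 0 then (1 : MvPowerSeries (Fin d) k) else MvPowerSeries.X i) = MvPowerSeries.monomial ν 1 := by
  have h1 : ∀ i, (if ν i = 0 then (1 : MvPowerSeries (Fin d) k) else MvPowerSeries.X i) =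
      MvPowerSeries.monomial (Finsupp.single i (ν i)) 1 := by
    intro i
    rcases hν i with h | h
    · rw [if_pos h, h, Finsupp.single_zero]; rfl
    · rw [if_neg (by omega), h]; rfl
  rw [Finset.prod_congr rfl fun i _ => h1 i]
  have h2 : ∀ s : Finset (Fin d), ∏ i ∈ s, MvPowerSeries.monomial (Finsupp.single i (ν i)) (1 : k) =
      MvPowerSeries.monomial (∑ i ∈ s, Finsupp.single i (ν i)) 1 := by
    intro s
    classical
    induction s using Finset.induction_on with
    | empty => simp
    | insert i s hi ih => rw [Finset.prod_insert hi, ih, Finset.sum_insert hi, MvPowerSeries.monomial_mul_monomial, one_mul]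
  rw [h2, Finsupp.univ_sum_single]

variable (k : Type u) [Field k] [IsAlgClosed k] (X : Scheme.{u}) [X.Over (Spec (CommRingCat.of k))]

/-- On an integral scheme of finite type with an ample module there are a chart at a regular closed point and an
invertible module (a power of the ample one) whose exponent set contains the cube. -/
theorem exists_cube [IsIntegral X] [LocallyOfFiniteType (X ↘ Spec (CommRingCat.of k))] [QuasiSeparatedSpace X]
    {A : X.Modules} (hA : CohB1.IsAmple A) {d : ℕ} (hd : topologicalKrullDim X = d) :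
    ∃ (x : X) (j : X.presheaf.stalk x →+* MvPowerSeries (Fin d) k) (hj : IsChart k x j) (n : ℕ)
      (V : X.Opens) (hx : x ∈ V) (m : Γ(CohB1.tensorPow (CohB1.tensorPow A n) d, V)) (hm : IsGen m),
      0 < n ∧ ∀ ν ∈ BrunnMink.cube d, ν ∈ expSet hj hx hm := by
  classical
  have hNoeth : IsLocallyNoetherian X := LocallyOfFiniteType.isLocallyNoetherian (X ↘ Spec (CommRingCat.of k))
  obtain ⟨x, -, hxc, hreg, hdx⟩ := exists_regular_point k hd ⊤ ⟨genericPoint X, trivial⟩
  -- finite sets of parameters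
  have hC : ∀ U : X.Opens, ∃ C : Set Γ(X, U), C.Finite ∧ (IsAffineOpen U → ∀ hx : x ∈ U,
      ∃ a : Fin d → Γ(X, U), (∀ i, a i ∈ C) ∧
        Ideal.span (Set.range fun i => X.presheaf.germ U x hx (a i)) = maximalIdeal (X.presheaf.stalk x)) := by
    intro U
    by_cases h : IsAffineOpen U ∧ x ∈ U
    · obtain ⟨a, ha⟩ := exists_params h.1 h.2 hdx
      exact ⟨Set.range a, Set.finite_range a, fun _ _ => ⟨a, fun i => ⟨i, rfl⟩, ha⟩⟩
    · exact ⟨∅, Set.finite_empty, fun h1 h2 => (h ⟨h1, h2⟩).elim⟩
  choose C hCf hC using hC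
  obtain ⟨ι, _, U, hcov, hUaff, n₀, hn₀⟩ := Groth.Agent.Ega2.AmpleSec.exists_ample_sections hA C (fun U _ => hCf U)
  obtain ⟨i, hxi⟩ : ∃ i, x ∈ U i := by
    have : x ∈ ⨆ i, U i := by rw [hcov]; trivial
    simpa using this
  obtain ⟨a, haC, haspan⟩ := hC (U i) (hUaff i) hxi
  obtain ⟨v, hv, hw⟩ := hn₀ (n₀ + 1) (Nat.le_succ _) i
  choose w hw using fun l => hw (a l) (haC l)
  obtain ⟨j, hj, hjX⟩ := exists_chart k x hxc (fun l => X.presheaf.germ (U i) x hxi (a l)) haspan hdx
  have hvgen : IsGen (sec v (U i)) := (le_genLocus_iff v (U i)).mp hv.ge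
  refine ⟨x, j, hj, n₀ + 1, U i, hxi, pow (sec v (U i)) d, hvgen.pow d, Nat.succ_pos _, ?_⟩
  intro ν hν
  rw [BrunnMink.mem_cube] at hν
  rw [mem_expSet]
  refine ⟨prodSec d (fun l => if ν l = 0 then sec v ⊤ else sec (w l) ⊤), ?_⟩
  have h1 : (∏ l, if ν l = 0 then (1 : Γ(X, U i)) else a l) • pow (sec v (U i)) d =
      res (CohB1.tensorPow (CohB1.tensorPow A (n₀ + 1)) d) le_top
        (prodSec d (fun l => if ν l = 0 then sec v ⊤ else sec (w l) ⊤)) := by
    rw [res_prodSec, ← prodSec_smul]
    congr 1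
    funext l
    split_ifs with h
    · rw [one_smul, res_sec]
    · rw [res_sec, hw]
  rw [expo_apply hj hxi (hvgen.pow d) _ _ h1]
  have h2 : j (X.presheaf.germ (U i) x hxi (∏ l, if ν l = 0 then (1 : Γ(X, U i)) else a l)) =
      ∏ l, if ν l = 0 then (1 : MvPowerSeries (Fin d) k) else MvPowerSeries.X l := by
    rw [map_prod, map_prod]
    refine Finset.prod_congr rfl fun l _ => ?_
    split_ifs with h
    · rw [map_one, map_one]
    · exact hjX l
  rw [h2, prod_X_eq ν hν, lexOrder_monomial]

end K436.AmpleCube
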