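import Mathlib.Analysis.MeanInequalities
import Mathlib.MeasureTheory.Integral.IntervalIntegral.Basic
import Mathlib.Algebra.Group.Pointwise.Finset.Basic
import Mathlib.Data.Finset.Max

/-!
# Discrete Brunn–Minkowski inequality

For finite nonempty `A B ⊆ ℤ^d` (`d ≥ 1`): `|A|^(1/d) + |B|^(1/d) ≤ |A + B + {0,1}^d|^(1/d)`.
-/

set_option autoImplicit false

open Finset MeasureTheory
open scoped Pointwise

namespace K436.BrunnMink

/-- The one dimensional case. -/
theorem card_add_card_le (A B : Finset ℤ) (hA : A.Nonempty) (hB : B.Nonempty) :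
    A.card + B.card ≤ (A + B + {0, 1}).card := by
  classical
  -- `A + min B` and `max A + 1 + B`
  let b := B.min' hB
  let a := A.max' hA
  have h1 : (A.image (fun x => x + b)) ∪ (B.image (fun y => a + y + 1)) ⊆ A + B + {0, 1} := by
    intro z hz
    rcases Finset.mem_union.mp hz with h | h
    · obtain ⟨x, hx, rfl⟩ := Finset.mem_image.mp h
      have : x + b + 0 ∈ A + B + {0, 1} :=
        Finset.add_mem_add (Finset.add_mem_add hx (B.min'_mem hB)) (by simp)
      simpa using this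
    · obtain ⟨y, hy, rfl⟩ := Finset.mem_image.mp h
      exact Finset.add_mem_add (Finset.add_mem_add (A.max'_mem hA) hy) (by simp)
  have h2 : Disjoint (A.image (fun x => x + b)) (B.image (fun y => a + y + 1)) := by
    rw [Finset.disjoint_left]
    intro z hz hz'
    obtain ⟨x, hx, rfl⟩ := Finset.mem_image.mp hz
    obtain ⟨y, hy, h⟩ := Finset.mem_image.mp hz'
    have h3 := A.le_max' x hx
    have h4 := B.min'_le y hy
    change x ≤ a at h3
    change b ≤ y at h4
    omega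
  calc A.card + B.card = (A.image (fun x => x + b)).card + (B.image (fun y => a + y + 1)).card := by
        rw [Finset.card_image_of_injective _ (fun _ _ h => by simpa using h),
          Finset.card_image_of_injective _ (fun _ _ h => by simpa using h)]
    _ = ((A.image (fun x => x + b)) ∪ (B.image (fun y => a + y + 1))).card :=
        (Finset.card_union_of_disjoint h2).symm
    _ ≤ _ := Finset.card_le_card h1

theorem setIntegral_level (x : ℝ) (h0 : 0 ≤ x) (h1 : x ≤ 1) :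
    ∫ l in Set.Ioc (0:ℝ) 1, (Set.Iic x).indicator (fun _ => (1:ℝ)) l = x := by
  rw [setIntegral_indicator measurableSet_Iic]
  have : Set.Ioc (0:ℝ) 1 ∩ Set.Iic x = Set.Ioc 0 x := by
    ext y
    simp only [Set.mem_inter_iff, Set.mem_Ioc, Set.mem_Iic]
    constructor
    · rintro ⟨⟨a, b⟩, c⟩; exact ⟨a, c⟩
    · rintro ⟨a, b⟩; exact ⟨⟨a, b.trans h1⟩, b⟩
  rw [this]
  simp [h0]

theorem card_filter_eq {I : Type*} (s : Finset I) (x : I → ℝ) (l : ℝ) :
    ((s.filter (fun i => l ≤ x i)).card : ℝ) = ∑ i ∈ s, (Set.Iic (x i)).indicator (fun _ => (1:ℝ)) l := by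
  classical
  rw [Finset.card_filter]
  push_cast
  refine Finset.sum_congr rfl fun i _ => ?_
  simp [Set.indicator, Set.mem_Iic]

theorem setIntegral_card {I : Type*} (s : Finset I) (x : I → ℝ) (hx : ∀ i ∈ s, 0 ≤ x i ∧ x i ≤ 1) :
    ∫ l in Set.Ioc (0:ℝ) 1, ((s.filter (fun i => l ≤ x i)).card : ℝ) = ∑ i ∈ s, x i := by
  simp_rw [card_filter_eq]
  rw [integral_finsetSum]
  · exact Finset.sum_congr rfl fun i hi => setIntegral_level _ (hx i hi).1 (hx i hi).2
  · intro i _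
    exact (integrable_const _).indicator measurableSet_Iic

theorem integrable_card {I : Type*} (s : Finset I) (x : I → ℝ) :
    Integrable (fun l : ℝ => ((s.filter (fun i => l ≤ x i)).card : ℝ)) (volume.restrict (Set.Ioc (0:ℝ) 1)) := by
  simp_rw [card_filter_eq]
  exact integrable_finsetSum _ fun i _ => (integrable_const _).indicator measurableSet_Iic

/-- Layer cake comparison for finite families. -/
theorem sum_le_of_level {I J K : Type*} (s : Finset I) (t : Finset J) (r : Finset K) (x : I → ℝ) (y : J → ℝ)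
    (z : K → ℝ) (hx : ∀ i ∈ s, 0 ≤ x i ∧ x i ≤ 1) (hy : ∀ i ∈ t, 0 ≤ y i ∧ y i ≤ 1) (hz : ∀ i ∈ r, 0 ≤ z i)
    (h : ∀ l : ℝ, 0 < l → l ≤ 1 → (s.filter (fun i => l ≤ x i)).card + (t.filter (fun i => l ≤ y i)).card ≤
      (r.filter (fun i => l ≤ z i)).card) : ∑ i ∈ s, x i + ∑ i ∈ t, y i ≤ ∑ i ∈ r, z i := by
  have h1 : ∑ i ∈ s, x i + ∑ i ∈ t, y i ≤ ∑ i ∈ r, min (z i) 1 := by
    rw [← setIntegral_card s x hx, ← setIntegral_card t y hy,
      ← setIntegral_card r (fun i => min (z i) 1) (fun i hi => ⟨le_min (hz i hi) zero_le_one, min_le_right _ _⟩),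
      ← integral_add (integrable_card s x) (integrable_card t y)]
    refine setIntegral_mono_on ((integrable_card s x).add (integrable_card t y)) (integrable_card r _)
      measurableSet_Ioc ?_
    rintro l ⟨hl0, hl1⟩
    have h2 := h l hl0 hl1
    have h3 : r.filter (fun i => l ≤ min (z i) 1) = r.filter (fun i => l ≤ z i) :=
      Finset.filter_congr fun i _ => by simp [hl1]
    rw [h3]
    exact_mod_cast h2
  exact h1.trans (Finset.sum_le_sum fun i _ => min_le_left _ _)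

/-! ### slices -/

section
variable {G : Type*} [DecidableEq G]

/-- The slice of a finite set of `ℤ × G` at height `s`. -/
def sl (A : Finset (ℤ × G)) (s : ℤ) : Finset G := (A.filter (fun p => p.1 = s)).image Prod.snd

theorem mem_sl {A : Finset (ℤ × G)} {s : ℤ} {g : G} : g ∈ sl A s ↔ (s, g) ∈ A := by
  simp only [sl, Finset.mem_image, Finset.mem_filter]
  constructor
  · rintro ⟨⟨a, b⟩, ⟨h, rfl⟩, rfl⟩; exact h
  · intro h; exact ⟨(s, g), ⟨h, rfl⟩, rfl⟩

theorem card_sl (A : Finset (ℤ × G)) (s : ℤ) : (sl A s).card = (A.filter (fun p => p.1 = s)).card := by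
  refine Finset.card_image_of_injOn ?_
  rintro ⟨a, b⟩ h ⟨a', b'⟩ h' h2
  simp only [Finset.coe_filter, Set.mem_ofPred_eq] at h h'
  simp_all

theorem sum_card_sl (A : Finset (ℤ × G)) : ∑ s ∈ A.image Prod.fst, (sl A s).card = A.card := by
  simp_rw [card_sl]
  exact (Finset.card_eq_sum_card_image Prod.fst A).symm

/-- The property: the Brunn–Minkowski inequality with exponent `1/p` and thickening `Q`. -/
def BM [AddCommMonoid G] (Q : Finset G) (p : ℕ) : Prop :=
  ∀ A B : Finset G, A.Nonempty → B.Nonempty →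
    (A.card : ℝ) ^ (1 / (p : ℝ)) + (B.card : ℝ) ^ (1 / (p : ℝ)) ≤ ((A + B + Q).card : ℝ) ^ (1 / (p : ℝ))

theorem holder_step (p : ℕ) (hp : 1 ≤ p) (a b α β c : ℝ) (ha : 0 ≤ a) (hb : 0 ≤ b) (hα : 0 < α) (hβ : 0 < β)
    (hc : 0 ≤ c)
    (h : a / α + b / β ≤ c / (α ^ (1 / (p : ℝ)) + β ^ (1 / (p : ℝ))) ^ p) :
    a ^ (1 / ((p + 1 : ℕ) : ℝ)) + b ^ (1 / ((p + 1 : ℕ) : ℝ)) ≤ c ^ (1 / ((p + 1 : ℕ) : ℝ)) := by
  have hp0 : (0 : ℝ) < p := by exact_mod_cast hp
  have hp1 : (0 : ℝ) < ((p + 1 : ℕ) : ℝ) := by positivity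
  set γ : ℝ := α ^ (1 / (p : ℝ)) + β ^ (1 / (p : ℝ)) with hγ
  have hγ0 : 0 < γ := by positivity
  have hconj : (((p + 1 : ℕ) : ℝ) / p).HolderConjugate ((p + 1 : ℕ) : ℝ) := by
    rw [Real.holderConjugate_iff]
    push_cast
    constructor
    · rw [one_lt_div hp0]; linarith
    · field_simp
  let x : Fin 2 → ℝ := ![α ^ (1 / ((p + 1 : ℕ) : ℝ)), β ^ (1 / ((p + 1 : ℕ) : ℝ))]
  let y : Fin 2 → ℝ := ![(a / α) ^ (1 / ((p + 1 : ℕ) : ℝ)), (b / β) ^ (1 / ((p + 1 : ℕ) : ℝ))]
  have H := Real.inner_le_Lp_mul_Lq Finset.univ x y hconj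
  simp only [Fin.sum_univ_two, x, y, Matrix.cons_val_zero, Matrix.cons_val_one] at H
  have e1 : α ^ (1 / ((p + 1 : ℕ) : ℝ)) * (a / α) ^ (1 / ((p + 1 : ℕ) : ℝ)) = a ^ (1 / ((p + 1 : ℕ) : ℝ)) := by
    rw [← Real.mul_rpow hα.le (by positivity), mul_div_cancel₀ _ hα.ne']
  have e2 : β ^ (1 / ((p + 1 : ℕ) : ℝ)) * (b / β) ^ (1 / ((p + 1 : ℕ) : ℝ)) = b ^ (1 / ((p + 1 : ℕ) : ℝ)) := by
    rw [← Real.mul_rpow hβ.le (by positivity), mul_div_cancel₀ _ hβ.ne']
  have e3 : |α ^ (1 / ((p + 1 : ℕ) : ℝ))| ^ (((p + 1 : ℕ) : ℝ) / p) = α ^ (1 / (p : ℝ)) := by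
    rw [abs_of_nonneg (by positivity), ← Real.rpow_mul hα.le]
    congr 1; field_simp
  have e4 : |β ^ (1 / ((p + 1 : ℕ) : ℝ))| ^ (((p + 1 : ℕ) : ℝ) / p) = β ^ (1 / (p : ℝ)) := by
    rw [abs_of_nonneg (by positivity), ← Real.rpow_mul hβ.le]
    congr 1; field_simp
  have e5 : |(a / α) ^ (1 / ((p + 1 : ℕ) : ℝ))| ^ ((p + 1 : ℕ) : ℝ) = a / α := by
    rw [abs_of_nonneg (by positivity), ← Real.rpow_mul (by positivity), one_div_mul_cancel hp1.ne', Real.rpow_one]
  have e6 : |(b / β) ^ (1 / ((p + 1 : ℕ) : ℝ))| ^ ((p + 1 : ℕ) : ℝ) = b / β := by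
    rw [abs_of_nonneg (by positivity), ← Real.rpow_mul (by positivity), one_div_mul_cancel hp1.ne', Real.rpow_one]
  rw [e1, e2, e3, e4, e5, e6] at H
  refine H.trans ?_
  calc (α ^ (1 / (p : ℝ)) + β ^ (1 / (p : ℝ))) ^ (1 / (((p + 1 : ℕ) : ℝ) / p)) *
        (a / α + b / β) ^ (1 / ((p + 1 : ℕ) : ℝ))
      ≤ γ ^ (1 / (((p + 1 : ℕ) : ℝ) / p)) * (c / γ ^ p) ^ (1 / ((p + 1 : ℕ) : ℝ)) := by
        gcongr
    _ = c ^ (1 / ((p + 1 : ℕ) : ℝ)) := by
        have : γ ^ (1 / (((p + 1 : ℕ) : ℝ) / p)) = (γ ^ p) ^ (1 / ((p + 1 : ℕ) : ℝ)) := by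
          rw [← Real.rpow_natCast γ p, ← Real.rpow_mul hγ0.le]
          congr 1; field_simp
        rw [this, ← Real.mul_rpow (by positivity) (by positivity), mul_div_cancel₀ _ (by positivity)]

theorem BM.step [AddCommMonoid G] {Q : Finset G} {p : ℕ} (hp : 1 ≤ p) (hQ : Q.Nonempty) (h : BM Q p) :
    BM (({0, 1} : Finset ℤ) ×ˢ Q) (p + 1) := by
  classical
  intro A B hA hB
  have hp0 : (0 : ℝ) < p := by exact_mod_cast hp
  set C := A + B + ({0, 1} : Finset ℤ) ×ˢ Q with hC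
  obtain ⟨s0, hs0, hmaxA⟩ := Finset.exists_max_image (A.image Prod.fst) (fun s => (sl A s).card) (hA.image _)
  obtain ⟨t0, ht0, hmaxB⟩ := Finset.exists_max_image (B.image Prod.fst) (fun s => (sl B s).card) (hB.image _)
  set α : ℝ := ((sl A s0).card : ℝ) with hα
  set β : ℝ := ((sl B t0).card : ℝ) with hβ
  have hα0 : 0 < α := by
    rw [hα, Nat.cast_pos, Finset.card_pos]
    obtain ⟨⟨s, g⟩, hp, rfl⟩ := Finset.mem_image.mp hs0
    exact ⟨g, mem_sl.mpr hp⟩
  have hβ0 : 0 < β := by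
    rw [hβ, Nat.cast_pos, Finset.card_pos]
    obtain ⟨⟨s, g⟩, hp, rfl⟩ := Finset.mem_image.mp ht0
    exact ⟨g, mem_sl.mpr hp⟩
  set γ : ℝ := α ^ (1 / (p : ℝ)) + β ^ (1 / (p : ℝ)) with hγ
  have hγ0 : 0 < γ := by positivity
  have key : ∀ l : ℝ, 0 < l → l ≤ 1 →
      ((A.image Prod.fst).filter (fun s => l ≤ ((sl A s).card : ℝ) / α)).card +
      ((B.image Prod.fst).filter (fun s => l ≤ ((sl B s).card : ℝ) / β)).card ≤
      ((C.image Prod.fst).filter (fun s => l ≤ ((sl C s).card : ℝ) / γ ^ p)).card := by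
    intro l hl0 hl1
    refine (card_add_card_le _ _ ⟨s0, ?_⟩ ⟨t0, ?_⟩).trans (Finset.card_le_card ?_)
    · rw [Finset.mem_filter]; exact ⟨hs0, by rw [← hα, div_self hα0.ne']; exact hl1⟩
    · rw [Finset.mem_filter]; exact ⟨ht0, by rw [← hβ, div_self hβ0.ne']; exact hl1⟩
    · intro u hu
      obtain ⟨w, hw, e, he, rfl⟩ := Finset.mem_add.mp hu
      obtain ⟨s, hs, t, ht, rfl⟩ := Finset.mem_add.mp hw
      rw [Finset.mem_filter] at hs ht
      have hsub : sl A s + sl B t + Q ⊆ sl C (s + t + e) := by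
        intro g hg
        obtain ⟨g1, hg1, q, hq, rfl⟩ := Finset.mem_add.mp hg
        obtain ⟨ga, hga, gb, hgb, rfl⟩ := Finset.mem_add.mp hg1
        rw [mem_sl] at hga hgb ⊢
        exact Finset.add_mem_add (Finset.add_mem_add hga hgb) (Finset.mk_mem_product he hq)
      have hneA : (sl A s).Nonempty := by
        obtain ⟨⟨s, g⟩, hp, rfl⟩ := Finset.mem_image.mp hs.1
        exact ⟨g, mem_sl.mpr hp⟩
      have hneB : (sl B t).Nonempty := by
        obtain ⟨⟨s, g⟩, hp, rfl⟩ := Finset.mem_image.mp ht.1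
        exact ⟨g, mem_sl.mpr hp⟩
      have h1 := h _ _ hneA hneB
      have h2 : ((sl A s + sl B t + Q).card : ℝ) ≤ ((sl C (s + t + e)).card : ℝ) := by
        exact_mod_cast Finset.card_le_card hsub
      have h3 : l * α ≤ ((sl A s).card : ℝ) := (le_div_iff₀ hα0).mp hs.2
      have h4 : l * β ≤ ((sl B t).card : ℝ) := (le_div_iff₀ hβ0).mp ht.2
      have h5 : l ^ (1 / (p : ℝ)) * γ ≤ ((sl C (s + t + e)).card : ℝ) ^ (1 / (p : ℝ)) := by
        calc l ^ (1 / (p : ℝ)) * γ = (l * α) ^ (1 / (p : ℝ)) + (l * β) ^ (1 / (p : ℝ)) := by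
              rw [hγ, Real.mul_rpow hl0.le hα0.le, Real.mul_rpow hl0.le hβ0.le, mul_add]
          _ ≤ ((sl A s).card : ℝ) ^ (1 / (p : ℝ)) + ((sl B t).card : ℝ) ^ (1 / (p : ℝ)) := by gcongr
          _ ≤ _ := h1
          _ ≤ _ := by gcongr
      have h6 : l * γ ^ p ≤ ((sl C (s + t + e)).card : ℝ) := by
        have h7 := pow_le_pow_left₀ (by positivity) h5 p
        rw [mul_pow, ← Real.rpow_natCast (l ^ _), ← Real.rpow_mul hl0.le, one_div_mul_cancel hp0.ne', Real.rpow_one,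
          ← Real.rpow_natCast (_ ^ (1 / (p : ℝ))) p, ← Real.rpow_mul (Nat.cast_nonneg _), one_div_mul_cancel hp0.ne',
          Real.rpow_one] at h7
        exact h7
      rw [Finset.mem_filter]
      refine ⟨?_, (le_div_iff₀ (by positivity)).mpr h6⟩
      obtain ⟨g, hg⟩ := (hneA.add hneB).add hQ
      exact Finset.mem_image.mpr ⟨_, mem_sl.mp (hsub hg), rfl⟩
  have hsum := sum_le_of_level (A.image Prod.fst) (B.image Prod.fst) (C.image Prod.fst)
    (fun s => ((sl A s).card : ℝ) / α) (fun s => ((sl B s).card : ℝ) / β) (fun s => ((sl C s).card : ℝ) / γ ^ p)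
    (fun s hs => ⟨by positivity, (div_le_one hα0).mpr (by rw [hα]; exact_mod_cast hmaxA s hs)⟩)
    (fun s hs => ⟨by positivity, (div_le_one hβ0).mpr (by rw [hβ]; exact_mod_cast hmaxB s hs)⟩)
    (fun s hs => by positivity) key
  rw [← Finset.sum_div, ← Finset.sum_div, ← Finset.sum_div, ← Nat.cast_sum, ← Nat.cast_sum, ← Nat.cast_sum,
    sum_card_sl, sum_card_sl, sum_card_sl] at hsum
  exact holder_step p hp _ _ α β _ (by positivity) (by positivity) hα0 hβ0 (by positivity) hsum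

theorem BM.of_injective {G G' : Type*} [AddCommMonoid G] [DecidableEq G] [AddCommMonoid G'] [DecidableEq G']
    (φ : G' →+ G) (hφ : Function.Injective φ) {Q : Finset G} {Q' : Finset G'} (hQ : Q'.image φ = Q) {p : ℕ}
    (h : BM Q p) : BM Q' p := by
  intro A B hA hB
  have h1 := h (A.image φ) (B.image φ) (hA.image _) (hB.image _)
  rw [← hQ, ← Finset.image_add, ← Finset.image_add, Finset.card_image_of_injective _ hφ,
    Finset.card_image_of_injective _ hφ, Finset.card_image_of_injective _ hφ] at h1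
  exact h1

theorem BM_int : BM ({0, 1} : Finset ℤ) 1 := by
  intro A B hA hB
  have := card_add_card_le A B hA hB
  simp only [Nat.cast_one, div_one, Real.rpow_one]
  exact_mod_cast this

/-- The cube `{0,1}^d` in `ℤ^d`. -/
def cubeZ (d : ℕ) : Finset (Fin d → ℤ) := Fintype.piFinset (fun _ => {0, 1})

theorem BM_cubeZ (d : ℕ) : BM (cubeZ (d + 1)) (d + 1) := by
  induction d with
  | zero =>
    refine BM.of_injective (G := ℤ) (Q := {0, 1}) (Pi.evalAddMonoidHom (fun _ : Fin 1 => ℤ) 0) ?_ ?_ BM_int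
    · intro x y h
      funext i
      rw [Subsingleton.elim i 0]
      exact h
    · ext z
      simp only [cubeZ, Finset.mem_image, Fintype.mem_piFinset]
      constructor
      · rintro ⟨a, ha, rfl⟩; exact ha 0
      · intro hz
        exact ⟨fun _ => z, fun _ => hz, rfl⟩
  | succ d ih =>
    let φ : (Fin (d + 1 + 1) → ℤ) →+ ℤ × (Fin (d + 1) → ℤ) :=
      { toFun := fun x => (x 0, fun i => x i.succ)
        map_zero' := rfl
        map_add' := fun _ _ => rfl }
    refine BM.of_injective φ ?_ ?_ (BM.step (by omega) ?_ ih)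
    · intro x y h
      have h1 : x 0 = y 0 := congrArg Prod.fst h
      have h2 : (fun i : Fin (d + 1) => x i.succ) = fun i => y i.succ := congrArg Prod.snd h
      funext i
      refine Fin.cases h1 (fun j => congrFun h2 j) i
    · ext ⟨z, g⟩
      simp only [cubeZ, Finset.mem_image, Fintype.mem_piFinset, Finset.mem_product, φ, AddMonoidHom.coe_mk,
        ZeroHom.coe_mk, Prod.mk.injEq]
      constructor
      · rintro ⟨a, ha, rfl, rfl⟩; exact ⟨ha 0, fun i => ha i.succ⟩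
      · rintro ⟨hz, hg⟩
        refine ⟨Fin.cons z g, fun i => ?_, rfl, rfl⟩
        refine Fin.cases hz (fun j => hg j) i
    · exact ⟨fun _ => 0, by simp [cubeZ]⟩

/-- The cube `{0,1}^d` in `ℕ^d` (as finitely supported functions). -/
noncomputable def cube (d : ℕ) : Finset (Fin d →₀ ℕ) :=
  (Fintype.piFinset (fun _ : Fin d => ({0, 1} : Finset ℕ))).image (Finsupp.equivFunOnFinite : (Fin d →₀ ℕ) ≃ (Fin d → ℕ)).symm

theorem mem_cube {d : ℕ} {e : Fin d →₀ ℕ} : e ∈ cube d ↔ ∀ i, e i = 0 ∨ e i = 1 := by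
  simp only [cube, Finset.mem_image, Fintype.mem_piFinset, Finset.mem_insert, Finset.mem_singleton]
  constructor
  · rintro ⟨a, ha, rfl⟩; exact ha
  · intro h
    exact ⟨e, h, Finsupp.equivFunOnFinite_symm_coe e⟩

/-- **Discrete Brunn–Minkowski** in `ℕ^d`, `d ≥ 1`. -/
theorem BM_cube (d : ℕ) (hd : 1 ≤ d) : BM (cube d) d := by
  obtain ⟨d, rfl⟩ : ∃ e, d = e + 1 := ⟨d - 1, by omega⟩
  let φ : (Fin (d + 1) →₀ ℕ) →+ (Fin (d + 1) → ℤ) :=
    { toFun := fun x i => (x i : ℤ)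
      map_zero' := by funext i; simp
      map_add' := fun x y => by funext i; simp }
  refine BM.of_injective φ ?_ ?_ (BM_cubeZ d)
  · intro x y h
    ext i
    have h2 : ((x i : ℕ) : ℤ) = (y i : ℕ) := congrFun h i
    exact_mod_cast h2
  · ext z
    simp only [Finset.mem_image, mem_cube, cubeZ, Fintype.mem_piFinset, Finset.mem_insert, Finset.mem_singleton]
    constructor
    · rintro ⟨a, ha, rfl⟩ i
      rcases ha i with h | h
      · left; simp [φ, h]
      · right; simp [φ, h]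
    · intro h
      refine ⟨(Finsupp.equivFunOnFinite : (Fin (d + 1) →₀ ℕ) ≃ (Fin (d + 1) → ℕ)).symm (fun i => (z i).toNat), fun i => ?_, ?_⟩
      · rcases h i with h | h <;> simp [h]
      · funext i
        rcases h i with h | h <;> simp [φ, h]

end

end K436.BrunnMink
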