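import Groth.Agent.Variety.K436.GermExp
import Groth.Agent.Lefpen.H705.ClosedPoint
import Groth.Agent.Lefpen.H705.Completion
import Groth.Agent.VarietyB.DimSch
import Groth.Agent.VarietyA.RegPoint

/-!
# Power series charts at regular closed points over an algebraically closed field
-/

set_option autoImplicit false
universe u
open CategoryTheory CategoryTheory.Limits AlgebraicGeometry Opposite TopologicalSpace IsLocalRing
open Groth.Agent.Fdesc.LocGen Groth.Agent.Picfga.ChiCech

namespace K436.Chart

open K436.GermExp

variable (k : Type u) [Field k] [IsAlgClosed k] {X : Scheme.{u}} [X.Over (Spec (CommRingCat.of k))]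

/-- A regular system of parameters at a closed point gives a chart with `t i ↦ X i`. -/
theorem exists_chart [LocallyOfFiniteType (X ↘ Spec (CommRingCat.of k))] (x : X) (hx : IsClosed ({x} : Set X))
    [IsRegularLocalRing (X.presheaf.stalk x)] {d : ℕ} (t : Fin d → X.presheaf.stalk x)
    (ht : Ideal.span (Set.range t) = maximalIdeal (X.presheaf.stalk x))
    (hd : ringKrullDim (X.presheaf.stalk x) = d) :
    ∃ j : X.presheaf.stalk x →+* MvPowerSeries (Fin d) k, IsChart k x j ∧ ∀ i, j (t i) = MvPowerSeries.X i := by
  obtain ⟨e, he1, he2, -⟩ := Groth.Agent.Lefpen.H705.Completion.exists_completion_equiv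
    (LefPen.toStalk k (X ↘ Spec (CommRingCat.of k)) x)
    (Groth.Agent.Lefpen.H705.ClosedPoint.exists_sub_toStalk_mem (X ↘ Spec (CommRingCat.of k)) x hx) d t ht hd
  refine ⟨(e : _ →+* _).comp (algebraMap (X.presheaf.stalk x) (AdicCompletion (maximalIdeal (X.presheaf.stalk x))
    (X.presheaf.stalk x))), ⟨?_, ?_⟩, he2⟩
  · refine e.injective.comp ?_
    exact AdicCompletion.of_injective (maximalIdeal (X.presheaf.stalk x)) (X.presheaf.stalk x)
  · intro c
    have h : X.presheaf.germ ⊤ x trivial (str (X := X) k ⊤ c) =
        LefPen.toStalk k (X ↘ Spec (CommRingCat.of k)) x c := by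
      exact congrArg (X.presheaf.germ ⊤ x trivial).hom
        (ores_refl (U := (⊤ : X.Opens)) (show Γ(X, ⊤) from Coh.toGlobal (X ↘ Spec (CommRingCat.of k)) c))
    rw [h]
    exact he1 c

/-- On an integral scheme of dimension `d`, locally of finite type over an algebraically closed field, every
nonempty open contains a closed point with regular local ring of dimension `d`. -/
theorem exists_regular_point [LocallyOfFiniteType (X ↘ Spec (CommRingCat.of k))] [IsIntegral X] {d : ℕ}
    (hd : topologicalKrullDim X = d) (U : X.Opens) (hU : (U : Set X).Nonempty) :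
    ∃ x ∈ U, IsClosed ({x} : Set X) ∧ IsRegularLocalRing (X.presheaf.stalk x) ∧
      ringKrullDim (X.presheaf.stalk x) = d := by
  obtain ⟨x, hxU, hx, hreg⟩ := Groth.Agent.VarietyA.RegPoint.exists_regular_closedPoint k
    (X ↘ Spec (CommRingCat.of k)) U hU
  refine ⟨x, hxU, hx, hreg, ?_⟩
  have h1 := Groth.Agent.VarietyB.DimSch.localDim_eq k x
  rw [Groth.Agent.VarietyB.DimSch.trd_eq_zero_of_isClosed k hx,
    Groth.Agent.VarietyB.DimSch.localDim_eq_of_irreducible k x,
    ← Groth.Agent.VarietyB.DimSch.topologicalKrullDim_eq_trd k, hd, Nat.cast_zero, add_zero] at h1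
  exact h1.symm

end K436.Chart
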