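import Groth.Agent.Variety.K436.GVal
import Groth.Agent.Ega4late.H535.CutOut
import Groth.Prelude.Def_WeilDiv

/-!
# The divisorial sheaf of a function on points, through rational functions: part one

`kap x : K_{X,x} → K(X)` the comparison map; sections of the sheaf of meromorphic functions over a non-empty open of an
integral scheme are the elements of `K(X)` (`vl`, `sec`).
-/

set_option autoImplicit false
universe u

open CategoryTheory AlgebraicGeometry TopologicalSpace Opposite

namespace K436.DivSh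

open Groth.Agent.Fdesc.LocGen Groth.Agent.Divis.NormSheaf K436.GVal
open Groth.Agent.CurvesA.UfdStalk Groth.Agent.Ega4late.H535.CutOut

variable {X : Scheme.{u}} [IsIntegral X]

/-- The map from the local ring to the function field. -/
noncomputable abbrev al (x : X) : X.presheaf.stalk x →+* X.functionField := algebraMap (X.presheaf.stalk x) X.functionField

theorem al_germ {U : X.Opens} (x : X) (hx : x ∈ U) (hη : genericPoint X ∈ U) (g : Γ(X, U)) :
    al x (X.presheaf.germ U x hx g) = gg hη g :=
  sp_germ (W := U) (genericPoint_specializes x) hx g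

theorem al_injective (x : X) : Function.Injective (al x) :=
  IsFractionRing.injective (X.presheaf.stalk x) X.functionField

/-- Every nonzero section is regular. -/
theorem mem_regSub {U : X.Opens} (hη : genericPoint X ∈ U) {f : Γ(X, U)} (hf : f ≠ 0) : f ∈ Mero.regSub X U := by
  intro x
  apply mem_nonZeroDivisors_of_ne_zero
  intro h0
  apply hf
  apply gg_injective hη
  rw [← al_germ x.1 x.2 hη f, h0, map_zero, map_zero]

theorem mem_regStalk {x : X} {g : X.presheaf.stalk x} (hg : g ≠ 0) : g ∈ Mero.regStalk X x := by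
  obtain ⟨U, hx, f, rfl⟩ := TopCat.Presheaf.exists_germ_eq X.presheaf g
  exact ⟨U, hx, f, mem_regSub (genericPoint_mem ⟨x, hx⟩) (fun h => hg (by rw [h, map_zero])), rfl⟩

theorem isUnit_al {x : X} (s : Mero.regStalk X x) : IsUnit (al x s.1) := by
  apply IsUnit.mk0
  intro h
  have := Mero.regStalk_le_nonZeroDivisors x s.2
  exact nonZeroDivisors.ne_zero this (al_injective x (by rw [h, map_zero]))

/-- Comparison of the ring of meromorphic germs with the function field. -/
noncomputable def kap (x : X) : Mero.KStalk X x →+* X.functionField :=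
  IsLocalization.lift (M := Mero.regStalk X x) (g := al x) isUnit_al

theorem kap_algebraMap (x : X) (a : X.presheaf.stalk x) :
    kap x (algebraMap _ (Mero.KStalk X x) a) = al x a :=
  IsLocalization.lift_eq _ a

theorem kap_smul (x : X) (r : X.presheaf.stalk x) (t : Mero.KStalk X x) :
    kap x (r • t) = al x r * kap x t := by
  rw [Algebra.smul_def, map_mul, kap_algebraMap]

theorem kap_injective (x : X) : Function.Injective (kap x) := by
  unfold kap
  rw [IsLocalization.lift_injective_iff]
  intro a b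
  rw [(Mero.algebraMap_KStalk_injective x).eq_iff, (al_injective x).eq_iff]

theorem kap_surjective (x : X) : Function.Surjective (kap x) := by
  intro φ
  obtain ⟨a, b, hb, rfl⟩ := IsFractionRing.div_surjective (A := X.presheaf.stalk x) φ
  have hb0 : b ≠ 0 := nonZeroDivisors.ne_zero hb
  refine ⟨IsLocalization.mk' (Mero.KStalk X x) a ⟨b, mem_regStalk hb0⟩, ?_⟩
  rw [kap, IsLocalization.lift_mk'_spec, mul_div_cancel₀]
  exact fun h => hb0 (al_injective x (by rw [h, map_zero]))

theorem mk_spec {x : X} (a : X.presheaf.stalk x) (s : Mero.regStalk X x) :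
    s.1 • (LocalizedModule.mk a s : Mero.KStalk X x) = algebraMap _ (Mero.KStalk X x) a := by
  rw [LocalizedModule.smul'_mk]
  exact LocalizedModule.mk_eq.mpr ⟨1, by
    simp only [Submonoid.smul_def, OneMemClass.coe_one, one_smul, smul_eq_mul]
    rfl⟩

theorem kap_mk {x : X} (a : X.presheaf.stalk x) (s : Mero.regStalk X x) :
    al x s.1 * kap x (LocalizedModule.mk a s : Mero.KStalk X x) = al x a := by
  rw [← kap_smul, mk_spec, kap_algebraMap]

/-- All values of a section of the sheaf of meromorphic functions agree. -/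
theorem kap_eq {U : X.Opens} (f : ∀ x : U, Mero.KStalk X x.1) (hf : (Mero.kLoc X).pred f) (x : U)
    (hη : genericPoint X ∈ U) :
    kap x.1 (f x) = kap (genericPoint X) (f ⟨genericPoint X, hη⟩) := by
  obtain ⟨V, hx, i, a, b, h⟩ := hf x
  have hV : genericPoint X ∈ V := genericPoint_mem ⟨x.1, hx⟩
  have key : ∀ y : V, gg hV b.1 * kap y.1 (f (i y)) = gg hV a := fun y => by
    have h1 := h y
    dsimp only at h1
    rw [h1, ← al_germ y.1 y.2 hV a, ← al_germ y.1 y.2 hV b.1]
    exact kap_mk (x := y.1) (X.presheaf.germ V y.1 y.2 a) (Mero.regGerm y b)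
  have hb : gg hV b.1 ≠ 0 := by
    have := isUnit_al (X := X) (x := x.1) (Mero.regGerm (X := X) (U := V) ⟨x.1, hx⟩ b)
    rw [← al_germ x.1 hx hV b.1]
    exact this.ne_zero
  apply mul_left_cancel₀ hb
  exact (key ⟨x.1, hx⟩).trans (key ⟨genericPoint X, hV⟩).symm

/-- The family with a given value. -/
noncomputable def fam (U : X.Opens) (φ : X.functionField) : ∀ x : U, Mero.KStalk X x.1 :=
  fun x => (kap_surjective x.1 φ).choose

theorem kap_fam (U : X.Opens) (φ : X.functionField) (x : U) : kap x.1 (fam U φ x) = φ :=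
  (kap_surjective x.1 φ).choose_spec

theorem fam_pred (U : X.Opens) (φ : X.functionField) : (Mero.kLoc X).pred (fam U φ) := by
  intro x
  obtain ⟨a, b, hb, hab⟩ := IsFractionRing.div_surjective (A := X.presheaf.stalk x.1) φ
  have hb0 : b ≠ 0 := nonZeroDivisors.ne_zero hb
  obtain ⟨V, hx, a', rfl⟩ := TopCat.Presheaf.exists_germ_eq X.presheaf a
  obtain ⟨W, hx', b', rfl⟩ := TopCat.Presheaf.exists_germ_eq X.presheaf b
  have hT : x.1 ∈ (V ⊓ W) ⊓ U := ⟨⟨hx, hx'⟩, x.2⟩
  have hη : genericPoint X ∈ (V ⊓ W) ⊓ U := genericPoint_mem ⟨x.1, hT⟩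
  have hV : genericPoint X ∈ V := hη.1.1
  have hW : genericPoint X ∈ W := hη.1.2
  rw [al_germ x.1 hx hV, al_germ x.1 hx' hW] at hab
  have hb1 : gg hW b' ≠ 0 := fun h => hb0 (al_injective x.1 (by rw [al_germ x.1 hx' hW, h, map_zero]))
  have hle1 : (V ⊓ W) ⊓ U ≤ V := inf_le_left.trans inf_le_left
  have hle2 : (V ⊓ W) ⊓ U ≤ W := inf_le_left.trans inf_le_right
  refine ⟨(V ⊓ W) ⊓ U, hT, homOfLE inf_le_right, ores hle1 a', ⟨ores hle2 b', mem_regSub hη (fun h => hb1 (by
    rw [← gg_ores hle2 hη, h, map_zero]))⟩, fun y => ?_⟩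
  apply kap_injective
  refine (kap_fam U φ _).trans ?_
  apply mul_left_cancel₀ hb1
  have h1 := kap_mk (x := y.1) (X.presheaf.germ _ y.1 y.2 (ores hle1 a'))
    (Mero.regGerm y ⟨ores hle2 b', mem_regSub hη (fun h => hb1 (by rw [← gg_ores hle2 hη, h, map_zero]))⟩)
  change al y.1 (X.presheaf.germ _ y.1 y.2 (ores hle2 b')) * _ = _ at h1
  rw [al_germ y.1 y.2 hη, al_germ y.1 y.2 hη] at h1
  have h2 : gg hη (ores hle2 b') = gg hW b' := gg_ores hle2 hη b'
  have h3 : gg hη (ores hle1 a') = gg hV a' := gg_ores hle1 hη a'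
  have h4 := (congrArg (fun t => t * kap y.1 _) h2).symm.trans (h1.trans h3)
  rw [← hab, mul_div_cancel₀ _ hb1]
  exact h4.symm

/-! ### Order conditions -/

/-- The order condition in terms of the function field. -/
theorem ordGE_kap {x : X} {m : ℤ} {t : Mero.KStalk X x} :
    WDiv.OrdGE (X.presheaf.stalk x) (Mero.KStalk X x) m t ↔
      WDiv.OrdGE (X.presheaf.stalk x) X.functionField m (kap x t) := by
  unfold WDiv.OrdGE
  refine forall₂_congr fun a ha => ?_
  simp only [IsLocalization.coeSubmodule, Submodule.mem_map, Algebra.linearMap_apply]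
  constructor
  · rintro ⟨y, hy, h⟩
    refine ⟨y, hy, ?_⟩
    rw [Algebra.smul_def, ← kap_smul, ← h, kap_algebraMap]
  · rintro ⟨y, hy, h⟩
    refine ⟨y, hy, kap_injective x ?_⟩
    rw [kap_algebraMap, kap_smul]
    rw [Algebra.smul_def] at h
    exact h

variable (D : X → ℤ)

/-- The rational functions in the divisorial sheaf over an open. -/
def Mem (U : X.Opens) (φ : X.functionField) : Prop :=
  ∀ x : X, x ∈ U → WDiv.IsCodimOnePt x → WDiv.OrdGE (X.presheaf.stalk x) X.functionField (-(D x)) φ

variable {D}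

/-- The value of a section of the divisorial sheaf. -/
noncomputable def vl {U : X.Opens} (hη : genericPoint X ∈ U) (s : Γ(WDiv.divSh D, U)) : X.functionField :=
  kap (genericPoint X) (s.1 ⟨genericPoint X, hη⟩)

theorem kap_val {U : X.Opens} (hη : genericPoint X ∈ U) (s : Γ(WDiv.divSh D, U)) (x : U) :
    kap x.1 (s.1 x) = vl hη s := kap_eq s.1 s.2.1 x hη

theorem vl_mem {U : X.Opens} (hη : genericPoint X ∈ U) (s : Γ(WDiv.divSh D, U)) : Mem D U (vl hη s) := by
  intro x hx h1
  rw [← kap_val hη s ⟨x, hx⟩, ← ordGE_kap]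
  exact s.2.2 ⟨x, hx⟩ h1

theorem vl_injective {U : X.Opens} (hη : genericPoint X ∈ U) :
    Function.Injective (vl (D := D) hη) := by
  intro s t h
  apply Subtype.ext
  funext x
  apply kap_injective
  rw [kap_val hη s x, kap_val hη t x, h]

/-- The section with a given value. -/
noncomputable def sec {U : X.Opens} (φ : X.functionField) (h : Mem D U φ) : Γ(WDiv.divSh D, U) :=
  ⟨fam U φ, fam_pred U φ, fun x h1 => by
    rw [ordGE_kap, kap_fam]
    exact h x.1 x.2 h1⟩

theorem sec_val {U : X.Opens} (φ : X.functionField) (h : Mem D U φ) (x : U) :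
    (sec φ h).1 x = fam U φ x := rfl

theorem vl_sec {U : X.Opens} (hη : genericPoint X ∈ U) (φ : X.functionField) (h : Mem D U φ) :
    vl hη (sec φ h) = φ := by
  unfold vl
  rw [sec_val]
  exact kap_fam U φ ⟨genericPoint X, hη⟩

theorem vl_smul {U : X.Opens} (hη : genericPoint X ∈ U) (a : Γ(X, U)) (s : Γ(WDiv.divSh D, U)) :
    vl hη (a • s) = gg hη a * vl hη s := by
  unfold vl
  rw [show (a • s).1 ⟨genericPoint X, hη⟩ = X.presheaf.germ U _ hη a • s.1 ⟨genericPoint X, hη⟩ from rfl,
    kap_smul, al_germ _ hη hη]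

theorem vl_res {U V : X.Opens} (hη : genericPoint X ∈ V) (h : V ≤ U) (s : Γ(WDiv.divSh D, U)) :
    vl hη (res (WDiv.divSh D) h s) = vl (h hη) s := by
  have h1 := Mero.modOf_map_apply (WDiv.divLoc X D) (homOfLE h) s ⟨genericPoint X, hη⟩
  exact congrArg (kap (genericPoint X)) h1

end K436.DivSh
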