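import Groth.Agent.Variety.K436.GVal
import Groth.Agent.Grpsch.PicGrp
import Groth.Agent.Picfga.LineHom

/-!
# Frames of classes in the Picard group of an integral scheme

`IsFr c W θ`: the class `c` is represented by an invertible module with generators `e i` on `W i` whose generic values
are `θ i`.
-/

set_option autoImplicit false
set_option linter.style.haveILetI false
universe u v

open CategoryTheory AlgebraicGeometry TopologicalSpace Opposite

namespace K436.Frame

open Groth.Agent.Fdesc.LocGen Groth.Agent.Divis.NormSheaf K436.GVal Groth.Agent.Grpsch.PicGrp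

variable {Z : Scheme.{u}} [IsIntegral Z] {ι : Type v}

/-- Generators of a representative with prescribed generic values. -/
def IsFr (c : Pic Z) (W : ι → Z.Opens) (θ : ι → Z.functionField) : Prop :=
  (∀ i, genericPoint Z ∈ W i) ∧ ∃ (M : Z.Modules) (hM : PicF.IsInvertible M), c = mk M hM ∧
    ∃ (G : GenPt M) (e : ∀ i, Γ(M, W i)), (∀ i, IsGen (e i)) ∧
      ∀ (i : ι) (h : genericPoint Z ∈ W i), G.val h (e i) = θ i

variable {W : ι → Z.Opens} {c c' : Pic Z} {θ θ' : ι → Z.functionField}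

theorem IsFr.congr (h : IsFr c W θ) (h' : ∀ i, θ i = θ' i) : IsFr c W θ' := by
  have : θ = θ' := funext h'
  rwa [← this]

theorem IsFr.congr_opens (h : IsFr c W θ) {W' : ι → Z.Opens} (h' : ∀ i, W i = W' i) : IsFr c W' θ := by
  have : W = W' := funext h'
  rwa [← this]

theorem IsFr.ne_zero (h : IsFr c W θ) (i : ι) : θ i ≠ 0 := by
  obtain ⟨hη, M, hM, -, G, e, he, hv⟩ := h
  rw [← hv i (hη i)]
  exact G.val_ne_zero_of_isGen (hη i) (he i)

theorem IsFr.mul (h : IsFr c W θ) (h' : IsFr c' W θ') : IsFr (c * c') W (fun i => θ i * θ' i) := by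
  obtain ⟨hη, M, hM, rfl, G, e, he, hv⟩ := h
  obtain ⟨-, M', hM', rfl, G', e', he', hv'⟩ := h'
  refine ⟨hη, _, isInvertible_tensorMod hM hM', mk_mul_mk hM hM', G.tmul G', fun i => tmul (e i) (e' i),
    fun i => (he i).tmul (he' i), fun i hi => ?_⟩
  rw [GenPt.val_tmul, hv, hv']

theorem isFr_one (hW : ∀ i, genericPoint Z ∈ W i) : IsFr (1 : Pic Z) W (fun _ => 1) := by
  refine ⟨hW, _, isInvertible_structureModule, rfl, GVal.one, fun i => Groth.Agent.Fdesc.LocGen.one (W i),
    fun i => isGen_one _, fun i hi => ?_⟩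
  have h1 := (GVal.one (Z := Z)).val_res hi (le_top : W i ≤ ⊤) (Groth.Agent.Fdesc.LocGen.one ⊤)
  rw [res_one] at h1
  rw [h1]
  exact (GVal.one (Z := Z)).val_gen

theorem IsFr.prod {κ : Type*} (s : Finset κ) {c : κ → Pic Z} {θ : κ → ι → Z.functionField}
    (hW : ∀ i, genericPoint Z ∈ W i) (h : ∀ a ∈ s, IsFr (c a) W (θ a)) :
    IsFr (∏ a ∈ s, c a) W (fun i => ∏ a ∈ s, θ a i) := by
  classical
  induction s using Finset.induction_on with
  | empty => simpa using isFr_one hW
  | insert a s ha ih =>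
    rw [Finset.prod_insert ha]
    refine ((h a (Finset.mem_insert_self _ _)).mul (ih fun b hb => h b (Finset.mem_insert_of_mem hb))).congr ?_
    intro i
    rw [Finset.prod_insert ha]

theorem IsFr.pow (h : IsFr c W θ) (n : ℕ) : IsFr (c ^ n) W (fun i => θ i ^ n) := by
  have h1 := IsFr.prod (Finset.range n) (c := fun _ => c) (θ := fun _ => θ) h.1 (fun _ _ => h)
  simpa using h1

theorem IsFr.pull (h : IsFr c W θ) {T : Scheme.{u}} [IsIntegral T] (π : T ⟶ Z) [Surjective π] :
    IsFr (pull π c) (fun i => π ⁻¹ᵁ W i) (fun i => ff π (θ i)) := by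
  obtain ⟨hη, M, hM, rfl, G, e, he, hv⟩ := h
  refine ⟨fun i => mem_preimage π (hη i), _, isInvertible_pullback π hM, pull_mk π hM, G.pull π,
    fun i => pullSec π (e i), fun i => (he i).pullSec π, fun i hi => ?_⟩
  have h1 := G.val_pull π (hη i) (e i)
  rw [hv i (hη i)] at h1
  exact h1

/-- Restriction to a smaller cover, reindexed. -/
theorem IsFr.refine {κ : Type*} (h : IsFr c W θ) (W' : κ → Z.Opens) (hη' : ∀ j, genericPoint Z ∈ W' j) (p : κ → ι)
    (hp : ∀ j, W' j ≤ W (p j)) : IsFr c W' (fun j => θ (p j)) := by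
  obtain ⟨hη, M, hM, rfl, G, e, he, hv⟩ := h
  refine ⟨hη', M, hM, rfl, G, fun j => res M (hp j) (e (p j)), fun j => (he _).res _, fun j hj => ?_⟩
  rw [GenPt.val_res, hv]

/-- Classes with proportional frames over a cover are equal. -/
theorem IsFr.unique (h : IsFr c W θ) (h' : IsFr c' W θ') (hcov : ∀ z : Z, ∃ i, z ∈ W i)
    (t : Z.functionField) (ht : ∀ i, θ' i = t * θ i) : c = c' := by
  obtain ⟨hη, M, hM, rfl, G, e, he, hv⟩ := h
  obtain ⟨-, M', hM', rfl, G', e', he', hv'⟩ := h'
  have hU : ⨆ i, W i = ⊤ := top_le_iff.1 fun z _ => Opens.mem_iSup.2 (hcov z)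
  obtain ⟨φ, -⟩ := Groth.Agent.Picfga.LineHom.exists_iso (L := M) (N := M') hU he
    (Groth.Agent.Picfga.LineHom.trans_of_inf he fun i j => by
      obtain ⟨a, ha⟩ := ((he j).res (inf_le_right : W i ⊓ W j ≤ W j)).exists_eq
        (res M (inf_le_left : W i ⊓ W j ≤ W i) (e i))
      obtain ⟨b, hb⟩ := ((he' j).res (inf_le_right : W i ⊓ W j ≤ W j)).exists_eq
        (res M' (inf_le_left : W i ⊓ W j ≤ W i) (e' i))
      have hij : genericPoint Z ∈ W i ⊓ W j := mi (hη i) (hη j)
      have h1 := congrArg (G.val hij) ha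
      have h2 := congrArg (G'.val hij) hb
      rw [GenPt.val_smul, GenPt.val_res, GenPt.val_res, hv, hv] at h1
      rw [GenPt.val_smul, GenPt.val_res, GenPt.val_res, hv', hv', ht, ht, h1] at h2
      have hj := G'.val_ne_zero_of_isGen (hη j) (he' j)
      rw [hv', ht] at hj
      have h3 : gg hij a = gg hij b := by
        apply mul_right_cancel₀ hj
        rw [← h2]
        ring
      have h4 : a = b := gg_injective hij h3
      exact ⟨a, ha, by rw [h4]; exact hb⟩) he'
  exact (mk_eq_iff hM hM').2 ⟨φ⟩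

/-- Existence of frames with respect to given generators. -/
theorem exists_isFr {M : Z.Modules} (hM : PicF.IsInvertible M) (hη : ∀ i, genericPoint Z ∈ W i)
    (e : ∀ i, Γ(M, W i)) (he : ∀ i, IsGen (e i)) :
    ∃ θ : ι → Z.functionField, IsFr (mk M hM) W θ := by
  obtain ⟨G⟩ := exists_genPt hM
  exact ⟨fun i => G.val (hη i) (e i), hη, M, hM, rfl, G, e, he, fun _ _ => rfl⟩

end K436.Frame
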