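import Groth.Agent.Variety.K436.DivShA
import Groth.Agent.Variety.K436.Frame

/-!
# The divisorial sheaf of a locally principal divisor on a normal integral scheme

If `D` is the divisor of `φ` over `U`, then `φ⁻¹` generates `O_X(D)` over `U`.
-/

set_option autoImplicit false
universe u v

open CategoryTheory AlgebraicGeometry TopologicalSpace Opposite

namespace K436.DivSh

open Groth.Agent.Fdesc.LocGen Groth.Agent.Divis.NormSheaf K436.GVal K436.Frame
open Groth.Agent.CurvesA.UfdStalk Groth.Agent.Ega4late.H535.CutOut Groth.Agent.Ega4dB.CDivNormal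
open Groth.Agent.Ega4dB.CDivAffine Groth.Agent.Ega4late.H535.PicPrincipal Groth.Agent.CurvesA.UfdExtend
open Groth.Agent.Grpsch.PicGrp

variable {X : Scheme.{u}} [IsIntegral X]

theorem isCodimOnePt_iff (x : X) : WDiv.IsCodimOnePt x ↔ Order.coheight x = 1 := by
  unfold WDiv.IsCodimOnePt
  rw [AlgebraicGeometry.ringKrullDim_stalk_eq_coheight]
  exact_mod_cast Iff.rfl

variable [IsLocallyNoetherian X]

theorem mem_range_iff (x : X) [IsDiscreteValuationRing (X.presheaf.stalk x)] {φ : X.functionField}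
    (hφ : φ ≠ 0) : φ ∈ Set.range (al x) ↔ 0 ≤ Scheme.ord φ x := by
  constructor
  · exact ord_nonneg_of_mem_range x φ hφ
  · intro h
    by_contra hn
    exact absurd (ord_neg_of_not_mem_range x φ hφ hn) (not_lt.2 h)

theorem al_ne_zero {x : X} {a : X.presheaf.stalk x} (h : a ≠ 0) : al x a ≠ 0 :=
  fun h0 => h (al_injective x (by rw [h0, map_zero]))

theorem ordGE_iff (x : X) [IsDiscreteValuationRing (X.presheaf.stalk x)] {m : ℤ} {φ : X.functionField}
    (hφ : φ ≠ 0) : WDiv.OrdGE (X.presheaf.stalk x) X.functionField m φ ↔ m ≤ Scheme.ord φ x := by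
  obtain ⟨ϖ, hϖ⟩ := IsDiscreteValuationRing.exists_irreducible (X.presheaf.stalk x)
  have hmax := (IsDiscreteValuationRing.irreducible_iff_uniformizer ϖ).1 hϖ
  have hord := ord_uniformizer x ϖ hmax
  have h0 : al x ϖ ≠ 0 := al_ne_zero hϖ.ne_zero
  have hp : ∀ n : ℕ, IsLocalRing.maximalIdeal (X.presheaf.stalk x) ^ n = Ideal.span {ϖ ^ n} := fun n => by
    rw [hmax, Ideal.span_singleton_pow]
  have h1 : m ≤ Scheme.ord φ x ↔ φ * al x ϖ ^ (-m) ∈ Set.range (al x) := by
    rw [mem_range_iff x (mul_ne_zero hφ (zpow_ne_zero _ h0)), Scheme.ord_mul hφ (zpow_ne_zero _ h0),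
      ord_zpow x _ h0]
    change _ ↔ 0 ≤ Scheme.ord φ x + -m * Scheme.ord (algebraMap _ _ ϖ) x
    rw [hord]
    omega
  rw [h1]
  have h2 : al x ϖ ^ (-m) * al x ϖ ^ m.toNat = al x ϖ ^ (-m).toNat := by
    rw [← zpow_natCast, ← zpow_natCast, ← zpow_add₀ h0]
    congr 1
    omega
  unfold WDiv.OrdGE
  simp only [IsLocalization.coeSubmodule, Submodule.mem_map, Algebra.linearMap_apply, hp,
    Ideal.mem_span_singleton']
  constructor
  · intro h
    obtain ⟨y, ⟨b, rfl⟩, hy⟩ := h (ϖ ^ (-m).toNat) ⟨1, one_mul _⟩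
    refine ⟨b, ?_⟩
    apply mul_right_cancel₀ (pow_ne_zero m.toNat h0)
    rw [mul_assoc, h2, ← map_pow, ← map_mul]
    refine hy.trans ?_
    rw [Algebra.smul_def, map_pow, mul_comm]
  · rintro ⟨b, hb⟩ a ⟨c, rfl⟩
    refine ⟨c * b * ϖ ^ m.toNat, ⟨c * b, rfl⟩, ?_⟩
    rw [Algebra.smul_def, map_mul, map_mul, map_mul, map_pow, map_pow]
    change al x c * al x b * al x ϖ ^ m.toNat = al x c * al x ϖ ^ (-m).toNat * φ
    rw [hb, ← h2]
    ring

theorem dvr (hX : Pi1.IsNormalScheme X) {x : X} (h : Order.coheight x = 1) :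
    IsDiscreteValuationRing (X.presheaf.stalk x) :=
  isDiscreteValuationRing_of_coheight x (hX x).2 h

variable {D : X → ℤ} {U : X.Opens} {φ : X.functionField}

/-- The rational functions in `O_X(D)` where `D` is principal. -/
theorem mem_iff (hX : Pi1.IsNormalScheme X) (hφ : φ ≠ 0) (hD : ∀ x ∈ U, D x = WDiv.divFun X φ x) {V : X.Opens}
    (hV : V ≤ U) (hη : genericPoint X ∈ V) (t : X.functionField) :
    Mem D V t ↔ ∃ a : Γ(X, V), gg hη a = t * φ := by
  by_cases ht : t = 0
  · subst ht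
    simp only [zero_mul]
    exact ⟨fun _ => ⟨0, map_zero _⟩, fun _ x _ _ => WDiv.ordGE_zero _⟩
  have htφ : t * φ ≠ 0 := mul_ne_zero ht hφ
  have key : ∀ x ∈ V, Order.coheight x = 1 →
      (WDiv.OrdGE (X.presheaf.stalk x) X.functionField (-(D x)) t ↔ 0 ≤ Scheme.ord (t * φ) x) := by
    intro x hx h1
    have := dvr hX h1
    rw [ordGE_iff x ht, Scheme.ord_mul ht hφ, hD x (hV hx)]
    change -(Scheme.ord φ x) ≤ _ ↔ _
    omega
  constructor
  · intro h
    refine exists_section_of_regPt (genPt_top X) (W := V) le_top hη (t * φ) (fun y hy =>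
      regPt_of_ord_nonneg (fun x => (hX x).2) y _ htφ (fun z hz hz1 => ?_))
    have hzV : z ∈ V := hz.mem_open V.2 hy
    exact (key z hzV hz1).1 (h z hzV ((isCodimOnePt_iff z).2 hz1))
  · rintro ⟨a, ha⟩ x hx h1
    rw [isCodimOnePt_iff] at h1
    rw [key x hx h1]
    exact ord_nonneg_of_mem_range x _ htφ ⟨X.presheaf.germ V x hx a, by
      rw [← ha]
      exact al_germ x hx hη a⟩

theorem mem_inv (hX : Pi1.IsNormalScheme X) (hφ : φ ≠ 0) (hD : ∀ x ∈ U, D x = WDiv.divFun X φ x)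
    (hη : genericPoint X ∈ U) : Mem D U φ⁻¹ :=
  (mem_iff hX hφ hD le_rfl hη _).2 ⟨1, by rw [map_one, inv_mul_cancel₀ hφ]⟩

theorem isGen_sec (hX : Pi1.IsNormalScheme X) (hφ : φ ≠ 0) (hD : ∀ x ∈ U, D x = WDiv.divFun X φ x)
    (hη : genericPoint X ∈ U) : IsGen (sec φ⁻¹ (mem_inv hX hφ hD hη)) := by
  intro V hV
  by_cases hne : (V : Set X).Nonempty
  · have hηV : genericPoint X ∈ V := genericPoint_mem hne
    constructor
    · intro a b hab
      have h1 := congrArg (vl hηV) hab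
      dsimp only at h1
      rw [vl_smul, vl_smul, vl_res, vl_sec] at h1
      exact gg_injective hηV (mul_right_cancel₀ (inv_ne_zero hφ) h1)
    · intro s
      obtain ⟨a, ha⟩ := (mem_iff hX hφ hD hV hηV _).1 (vl_mem hηV s)
      refine ⟨a, vl_injective hηV ?_⟩
      dsimp only
      rw [vl_smul, vl_res, vl_sec, ha, mul_inv_cancel_right₀ hφ]
  · have hV0 : V = ⊥ := by
      ext x
      simp only [SetLike.mem_coe]
      exact ⟨fun hx => absurd ⟨x, hx⟩ hne, fun hx => hx.elim⟩
    subst hV0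
    constructor
    · intro a b _
      have : Subsingleton Γ(X, (⊥ : X.Opens)) := CommRingCat.subsingleton_of_isTerminal X.sheaf.isTerminalOfEmpty
      exact Subsingleton.elim _ _
    · intro s
      refine ⟨0, ?_⟩
      apply Subtype.ext
      funext x
      exact absurd ⟨x.1, x.2⟩ hne

end K436.DivSh
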