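import Groth.Agent.Variety.K436.DivShB
import Groth.Agent.Variety.K436.VolAdd

/-!
# Classes of divisorial sheaves of locally principal divisors
-/

set_option autoImplicit false
universe u v

open CategoryTheory AlgebraicGeometry TopologicalSpace Opposite

namespace K436.Frame

open Groth.Agent.Fdesc.LocGen Groth.Agent.Divis.NormSheaf K436.GVal Groth.Agent.Grpsch.PicGrp

variable {Z : Scheme.{u}} [IsIntegral Z] {ι : Type v}
variable {W : ι → Z.Opens} {c c' : Pic Z} {θ θ' : ι → Z.functionField}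

theorem exists_gg (t : Z.functionField) : ∃ (V : Z.Opens) (hη : genericPoint Z ∈ V) (a : Γ(Z, V)), gg hη a = t := by
  obtain ⟨V, hV, a, ha⟩ := TopCat.Presheaf.exists_germ_eq Z.presheaf t
  exact ⟨V, hV, a, ha⟩

/-- Change of the reference generator. -/
theorem exists_scale {M : Z.Modules} (G : GenPt M) {t : Z.functionField} (ht : t ≠ 0) :
    ∃ G' : GenPt M, ∀ {V : Z.Opens} (hV : genericPoint Z ∈ V) (m : Γ(M, V)), G'.val hV m = t * G.val hV m := by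
  obtain ⟨V₁, h₁, a, ha⟩ := exists_gg t⁻¹
  obtain ⟨V₂, h₂, b, hb⟩ := exists_gg t
  have hT : genericPoint Z ∈ V₁ ⊓ V₂ ⊓ G.V := mi (mi h₁ h₂) G.mem
  have hl1 : V₁ ⊓ V₂ ⊓ G.V ≤ V₁ := inf_le_left.trans inf_le_left
  have hl2 : V₁ ⊓ V₂ ⊓ G.V ≤ V₂ := inf_le_left.trans inf_le_right
  have hab : ores hl1 a * ores hl2 b = 1 := by
    apply gg_injective hT
    rw [map_mul, map_one, gg_ores, gg_ores, ha, hb, inv_mul_cancel₀ ht]
  have hu : IsUnit (ores hl1 a) := IsUnit.of_mul_eq_one _ hab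
  refine ⟨⟨V₁ ⊓ V₂ ⊓ G.V, hT, ores hl1 a • res M inf_le_right G.e, (G.gen.res _).unit_smul hu⟩, ?_⟩
  intro V hV m
  obtain ⟨c, hc, hc'⟩ := G.exists_val hV m
  have hTV : genericPoint Z ∈ V ⊓ (V₁ ⊓ V₂ ⊓ G.V) := mi hV hT
  have hle : V ⊓ (V₁ ⊓ V₂ ⊓ G.V) ≤ V ⊓ G.V := inf_le_inf_left _ inf_le_right
  have hle' : V ⊓ (V₁ ⊓ V₂ ⊓ G.V) ≤ V₁ ⊓ V₂ ⊓ G.V := inf_le_right
  refine (GenPt.val_eq _ hV hTV inf_le_left inf_le_right m
    (ores hle c * ores hle' (ores hl2 b)) ?_).trans ?_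
  · have h1 := congrArg (res M hle) hc
    simp only [res_res, res_smul] at h1 ⊢
    rw [h1, smul_smul, mul_assoc, ← map_mul, mul_comm (ores hl2 b), hab, map_one, mul_one]
  · rw [map_mul, gg_ores, gg_ores, gg_ores, hb, hc', mul_comm]

theorem IsFr.scale (h : IsFr c W θ) {t : Z.functionField} (ht : t ≠ 0) : IsFr c W (fun i => t * θ i) := by
  obtain ⟨hη, M, hM, rfl, G, e, he, hv⟩ := h
  obtain ⟨G', hG'⟩ := exists_scale G ht
  exact ⟨hη, M, hM, rfl, G', e, he, fun i hi => by rw [hG', hv]⟩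

end K436.Frame

namespace K436.DivSh

open Groth.Agent.Fdesc.LocGen Groth.Agent.Divis.NormSheaf K436.GVal K436.Frame
open Groth.Agent.Grpsch.PicGrp

variable {X : Scheme.{u}} [IsIntegral X] [IsLocallyNoetherian X]

/-- `φ i` are local equations of `D` on the cover `U i`. -/
structure IsEq {ι : Type v} (D : X → ℤ) (U : ι → X.Opens) (φ : ι → X.functionField) : Prop where
  ne_zero : ∀ i, φ i ≠ 0
  eq : ∀ i, ∀ x ∈ U i, D x = WDiv.divFun X (φ i) x

/-- Locally principal functions on points. -/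
def LocPrin (D : X → ℤ) : Prop :=
  ∀ x : X, ∃ U : X.Opens, x ∈ U ∧ ∃ φ : X.functionField, φ ≠ 0 ∧ ∀ x' : X, x' ∈ U → D x' = WDiv.divFun X φ x'

variable {ι : Type v} {D D' : X → ℤ} {U : ι → X.Opens} {φ φ' : ι → X.functionField}

theorem IsEq.add (h : IsEq D U φ) (h' : IsEq D' U φ') : IsEq (fun x => D x + D' x) U (fun i => φ i * φ' i) where
  ne_zero i := mul_ne_zero (h.ne_zero i) (h'.ne_zero i)
  eq i x hx := by
    rw [h.eq i x hx, h'.eq i x hx]
    exact (Scheme.ord_mul (h.ne_zero i) (h'.ne_zero i)).symm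

theorem IsEq.zsmul (h : IsEq D U φ) (m : ℤ) : IsEq (fun x => m * D x) U (fun i => φ i ^ m) where
  ne_zero i := zpow_ne_zero _ (h.ne_zero i)
  eq i x hx := by
    rw [h.eq i x hx]
    exact (Groth.Agent.Ega4late.H535.PicPrincipal.ord_zpow x _ (h.ne_zero i) m).symm

theorem IsEq.nsmul (h : IsEq D U φ) (m : ℕ) : IsEq (fun x => (m : ℤ) * D x) U (fun i => φ i ^ m) := by
  have := h.zsmul m
  simpa only [zpow_natCast] using this

theorem IsEq.locPrin (h : IsEq D U φ) (hcov : ∀ x : X, ∃ i, x ∈ U i) : LocPrin D := fun x => by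
  obtain ⟨i, hi⟩ := hcov x
  exact ⟨U i, hi, φ i, h.ne_zero i, h.eq i⟩

theorem IsEq.congr {D' : X → ℤ} (h : IsEq D U φ) (h' : ∀ x, D x = D' x) : IsEq D' U φ := by
  have : D = D' := funext h'
  rwa [← this]

theorem IsEq.refine {κ : Type*} (h : IsEq D U φ) (U' : κ → X.Opens) (p : κ → ι)
    (hp : ∀ j, U' j ≤ U (p j)) : IsEq D U' (fun j => φ (p j)) :=
  ⟨fun j => h.ne_zero _, fun j x hx => h.eq _ x (hp j hx)⟩

theorem LocPrin.exists_isEq (h : LocPrin D) : ∃ (U : X → X.Opens) (φ : X → X.functionField),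
    (∀ x, x ∈ U x) ∧ IsEq D U φ := by
  choose U hU φ h0 h1 using h
  exact ⟨U, φ, hU, h0, h1⟩

/-- Two locally principal functions have equations on a common cover. -/
theorem LocPrin.exists_isEq₂ (h : LocPrin D) (h' : LocPrin D') : ∃ (U : X → X.Opens) (φ φ' : X → X.functionField),
    (∀ x, x ∈ U x) ∧ IsEq D U φ ∧ IsEq D' U φ' := by
  obtain ⟨U, φ, hU, h1⟩ := h.exists_isEq
  obtain ⟨U', φ', hU', h1'⟩ := h'.exists_isEq
  exact ⟨fun x => U x ⊓ U' x, φ, φ', fun x => ⟨hU x, hU' x⟩, h1.refine _ id (fun _ => inf_le_left),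
    h1'.refine _ id (fun _ => inf_le_right)⟩

theorem LocPrin.nsmul (h : LocPrin D) (m : ℕ) : LocPrin (fun x => (m : ℤ) * D x) := by
  obtain ⟨U, φ, hU, h1⟩ := h.exists_isEq
  exact (h1.nsmul m).locPrin fun x => ⟨x, hU x⟩

theorem LocPrin.zsmul (h : LocPrin D) (m : ℤ) : LocPrin (fun x => m * D x) := by
  obtain ⟨U, φ, hU, h1⟩ := h.exists_isEq
  exact (h1.zsmul m).locPrin fun x => ⟨x, hU x⟩

theorem LocPrin.add (h : LocPrin D) (h' : LocPrin D') : LocPrin (fun x => D x + D' x) := by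
  obtain ⟨U, φ, φ', hU, h1, h2⟩ := h.exists_isEq₂ h'
  exact (h1.add h2).locPrin fun x => ⟨x, hU x⟩

theorem isInvertible (hX : Pi1.IsNormalScheme X) (h : LocPrin D) : PicF.IsInvertible (WDiv.divSh D) := by
  rw [isInvertible_iff]
  intro x
  obtain ⟨U, hx, φ, h0, h1⟩ := h x
  exact ⟨U, _, hx, isGen_sec hX h0 h1 (genericPoint_mem ⟨x, hx⟩)⟩

theorem isFr (hX : Pi1.IsNormalScheme X) (hD : LocPrin D) (h : IsEq D U φ) (hη : ∀ i, genericPoint X ∈ U i) :
    IsFr (mk (WDiv.divSh D) (isInvertible hX hD)) U (fun i => (φ i)⁻¹) := by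
  obtain ⟨U₀, hη₀, φ₀, h0, h1⟩ := hD (genericPoint X)
  let G : GenPt (WDiv.divSh D) := ⟨U₀, hη₀, _, isGen_sec hX h0 h1 hη₀⟩
  have hG : ∀ {V : X.Opens} (hV : genericPoint X ∈ V) (s : Γ(WDiv.divSh D, V)), G.val hV s = vl hV s * φ₀ := by
    intro V hV s
    have hV' : genericPoint X ∈ V ⊓ U₀ := mi hV hη₀
    obtain ⟨a, ha⟩ := (mem_iff hX h0 h1 (inf_le_right : V ⊓ U₀ ≤ U₀) hV' _).1
      (vl_mem hV' (res _ (inf_le_left : V ⊓ U₀ ≤ V) s))
    rw [vl_res] at ha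
    rw [← ha]
    refine G.val_eq hV hV' inf_le_left inf_le_right s a (vl_injective hV' ?_)
    change vl hV' _ = vl hV' (a • res (WDiv.divSh D) _ (sec φ₀⁻¹ (mem_inv hX h0 h1 hη₀)))
    rw [vl_smul, vl_res, vl_res, vl_sec, ha, mul_inv_cancel_right₀ h0]
  have h2 : IsFr (mk (WDiv.divSh D) (isInvertible hX hD)) U (fun i => (φ i)⁻¹ * φ₀) :=
    ⟨hη, _, isInvertible hX hD, rfl, G, fun i => sec (φ i)⁻¹ (mem_inv hX (h.ne_zero i) (h.eq i) (hη i)),
      fun i => isGen_sec hX (h.ne_zero i) (h.eq i) (hη i), fun i hi => by rw [hG, vl_sec]⟩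
  refine (h2.scale (t := φ₀⁻¹) (inv_ne_zero h0)).congr fun i => ?_
  rw [mul_comm, mul_assoc, mul_inv_cancel₀ h0, mul_one]

theorem mk_add (hX : Pi1.IsNormalScheme X) (hD : LocPrin D) (hD' : LocPrin D') (h2 : LocPrin (fun x => D x + D' x)) :
    mk (WDiv.divSh (fun x => D x + D' x)) (isInvertible hX h2) =
      mk (WDiv.divSh D) (isInvertible hX hD) * mk (WDiv.divSh D') (isInvertible hX hD') := by
  obtain ⟨U, φ, φ', hU, h3, h4⟩ := hD.exists_isEq₂ hD'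
  have hη : ∀ x, genericPoint X ∈ U x := fun x => genericPoint_mem ⟨x, hU x⟩
  refine (isFr hX h2 (h3.add h4) hη).unique ((isFr hX hD h3 hη).mul (isFr hX hD' h4 hη)) (fun x => ⟨x, hU x⟩) 1
    fun i => ?_
  rw [one_mul, mul_inv]

theorem mk_nsmul (hX : Pi1.IsNormalScheme X) (hD : LocPrin D) (m : ℕ) (h2 : LocPrin (fun x => (m : ℤ) * D x)) :
    mk (WDiv.divSh (fun x => (m : ℤ) * D x)) (isInvertible hX h2) =
      mk (WDiv.divSh D) (isInvertible hX hD) ^ m := by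
  obtain ⟨U, φ, hU, h3⟩ := hD.exists_isEq
  have hη : ∀ x, genericPoint X ∈ U x := fun x => genericPoint_mem ⟨x, hU x⟩
  refine (isFr hX h2 (h3.nsmul m) hη).unique ((isFr hX hD h3 hη).pow m) (fun x => ⟨x, hU x⟩) 1
    fun i => ?_
  rw [one_mul, inv_pow]

end K436.DivSh
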