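import Groth.Agent.Divis.NormSheaf
import Groth.Agent.Fdesc.LocGenTensor
import Groth.Agent.Fdesc.LocGenPullback
import Groth.Agent.Picfga.LineHom

/-!
# Sections of invertible modules on integral schemes as rational functions

`Z` integral, `M` an `O_Z`-module with a generator `e` over an open `V` containing the generic point (`GenPt M`).
`G.val hW m : K(Z)` : the rational function `θ` with `m = θ e` at the generic point.
-/

set_option autoImplicit false
universe u

open CategoryTheory AlgebraicGeometry TopologicalSpace Opposite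

namespace K436.GVal

open Groth.Agent.Fdesc.LocGen Groth.Agent.Divis.NormSheaf

variable {Z : Scheme.{u}} [IsIntegral Z]

theorem mi {X : Scheme.{u}} {x : X} {U V : X.Opens} (hU : x ∈ U) (hV : x ∈ V) : x ∈ U ⊓ V := ⟨hU, hV⟩

theorem mt (Z : Scheme.{u}) [IsIntegral Z] : genericPoint Z ∈ (⊤ : Z.Opens) := trivial

/-- A generator near the generic point. -/
structure GenPt (M : Z.Modules) where
  V : Z.Opens
  mem : genericPoint Z ∈ V
  e : Γ(M, V)
  gen : IsGen e

variable {M N : Z.Modules}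

theorem exists_genPt (hM : PicF.IsInvertible M) : Nonempty (GenPt M) := by
  rw [isInvertible_iff] at hM
  obtain ⟨V, e, hx, he⟩ := hM (genericPoint Z)
  exact ⟨⟨V, hx, e, he⟩⟩

/-- The value of a section at the generic point. -/
noncomputable def GenPt.val (G : GenPt M) {W : Z.Opens} (hW : genericPoint Z ∈ W) (m : Γ(M, W)) :
    Z.functionField :=
  gg (V := W ⊓ G.V) (mi hW G.mem)
    ((G.gen.res (inf_le_right : W ⊓ G.V ≤ G.V)).exists_eq (res M (inf_le_left : W ⊓ G.V ≤ W) m)).choose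

theorem GenPt.val_eq (G : GenPt M) {W T : Z.Opens} (hW : genericPoint Z ∈ W) (hT : genericPoint Z ∈ T)
    (h1 : T ≤ W) (h2 : T ≤ G.V) (m : Γ(M, W)) (a : Γ(Z, T)) (ha : res M h1 m = a • res M h2 G.e) :
    G.val hW m = gg hT a := by
  unfold GenPt.val
  have hs := ((G.gen.res (inf_le_right : W ⊓ G.V ≤ G.V)).exists_eq
    (res M (inf_le_left : W ⊓ G.V ≤ W) m)).choose_spec
  set b := ((G.gen.res (inf_le_right : W ⊓ G.V ≤ G.V)).exists_eq
    (res M (inf_le_left : W ⊓ G.V ≤ W) m)).choose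
  have h3 := congrArg (res M (le_inf h1 h2 : T ≤ W ⊓ G.V)) hs
  simp only [res_res, res_smul] at h3
  have h4 : ores (le_inf h1 h2 : T ≤ W ⊓ G.V) b = a :=
    (G.gen.res h2).ext (by rw [← ha, ← h3])
  rw [← h4, gg_ores]

theorem GenPt.exists_val (G : GenPt M) {W : Z.Opens} (hW : genericPoint Z ∈ W) (m : Γ(M, W)) :
    ∃ a : Γ(Z, W ⊓ G.V), res M (inf_le_left : W ⊓ G.V ≤ W) m = a • res M inf_le_right G.e ∧
      G.val hW m = gg (V := W ⊓ G.V) (mi hW G.mem) a := by
  obtain ⟨a, ha⟩ := (G.gen.res (inf_le_right : W ⊓ G.V ≤ G.V)).exists_eq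
    (res M (inf_le_left : W ⊓ G.V ≤ W) m)
  exact ⟨a, ha, G.val_eq hW _ _ _ m a ha⟩

theorem GenPt.val_smul (G : GenPt M) {W : Z.Opens} (hW : genericPoint Z ∈ W) (a : Γ(Z, W)) (m : Γ(M, W)) :
    G.val hW (a • m) = gg hW a * G.val hW m := by
  obtain ⟨b, hb, hb'⟩ := G.exists_val hW m
  rw [hb', G.val_eq hW (T := W ⊓ G.V) (mi hW G.mem) inf_le_left inf_le_right (a • m)
    (ores (inf_le_left : W ⊓ G.V ≤ W) a * b) (by rw [res_smul, hb, smul_smul]), map_mul, gg_ores]

theorem GenPt.val_add (G : GenPt M) {W : Z.Opens} (hW : genericPoint Z ∈ W) (m n : Γ(M, W)) :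
    G.val hW (m + n) = G.val hW m + G.val hW n := by
  obtain ⟨b, hb, hb'⟩ := G.exists_val hW m
  obtain ⟨c, hc, hc'⟩ := G.exists_val hW n
  rw [hb', hc', G.val_eq hW (T := W ⊓ G.V) (mi hW G.mem) inf_le_left inf_le_right (m + n) (b + c)
    (by rw [map_add, hb, hc, add_smul]), map_add]

/-- `val` as an additive map. -/
noncomputable def GenPt.valHom (G : GenPt M) {W : Z.Opens} (hW : genericPoint Z ∈ W) :
    Γ(M, W) →+ Z.functionField where
  toFun := G.val hW
  map_add' := G.val_add hW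
  map_zero' := by
    have := G.val_smul hW (0 : Γ(Z, W)) 0
    rw [zero_smul, map_zero, zero_mul] at this
    exact this

theorem GenPt.val_zero (G : GenPt M) {W : Z.Opens} (hW : genericPoint Z ∈ W) : G.val hW (0 : Γ(M, W)) = 0 :=
  (G.valHom hW).map_zero

theorem GenPt.val_sum (G : GenPt M) {W : Z.Opens} (hW : genericPoint Z ∈ W) {ι : Type*} (s : Finset ι)
    (f : ι → Γ(M, W)) : G.val hW (∑ i ∈ s, f i) = ∑ i ∈ s, G.val hW (f i) :=
  map_sum (G.valHom hW) f s

theorem GenPt.val_sub (G : GenPt M) {W : Z.Opens} (hW : genericPoint Z ∈ W) (m n : Γ(M, W)) :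
    G.val hW (m - n) = G.val hW m - G.val hW n :=
  (G.valHom hW).map_sub m n

theorem GenPt.val_res (G : GenPt M) {W T : Z.Opens} (hT : genericPoint Z ∈ T) (h : T ≤ W) (m : Γ(M, W)) :
    G.val hT (res M h m) = G.val (h hT) m := by
  obtain ⟨b, hb, hb'⟩ := G.exists_val (h hT) m
  have h1 : T ⊓ G.V ≤ W ⊓ G.V := inf_le_inf_right _ h
  rw [hb', G.val_eq hT (T := T ⊓ G.V) (mi hT G.mem) inf_le_left inf_le_right (res M h m) (ores h1 b)
    (by
      have h2 := congrArg (res M h1) hb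
      simp only [res_res, res_smul] at h2 ⊢
      exact h2), gg_ores]

theorem GenPt.val_gen (G : GenPt M) : G.val G.mem G.e = 1 := by
  rw [G.val_eq G.mem G.mem le_rfl le_rfl G.e 1 (by rw [one_smul]), map_one]

/-- Sections of invertible modules are determined by their generic value. -/
theorem GenPt.val_injective (G : GenPt M) (hM : PicF.IsInvertible M) {W : Z.Opens} (hW : genericPoint Z ∈ W) :
    Function.Injective (G.val (M := M) hW) := by
  intro m n hmn
  rw [isInvertible_iff] at hM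
  choose U f hU hf using hM
  refine res_ext M (V := W) (fun x : W => W ⊓ U x.1) (fun _ => inf_le_left)
    (fun x hx => Opens.mem_iSup.2 ⟨⟨x, hx⟩, hx, hU x⟩) fun x => ?_
  have hg : genericPoint Z ∈ W ⊓ U x.1 := genericPoint_mem ⟨x.1, x.2, hU x.1⟩
  obtain ⟨a, ha⟩ := ((hf x.1).res (inf_le_right : W ⊓ U x.1 ≤ U x.1)).exists_eq
    (res M (inf_le_left : W ⊓ U x.1 ≤ W) m)
  obtain ⟨b, hb⟩ := ((hf x.1).res (inf_le_right : W ⊓ U x.1 ≤ U x.1)).exists_eq
    (res M (inf_le_left : W ⊓ U x.1 ≤ W) n)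
  have h1 := G.val_res hg inf_le_left m
  have h2 := G.val_res hg inf_le_left n
  rw [ha, G.val_smul] at h1
  rw [hb, G.val_smul] at h2
  -- the value of a generator is nonzero
  have h3 : G.val hg (res M (inf_le_right : W ⊓ U x.1 ≤ U x.1) (f x.1)) ≠ 0 := by
    intro h0
    obtain ⟨c, hc, hc'⟩ := G.exists_val hg (res M (inf_le_right : W ⊓ U x.1 ≤ U x.1) (f x.1))
    rw [h0] at hc'
    have hc0 : c = 0 := gg_injective (V := W ⊓ U x.1 ⊓ G.V) (mi hg G.mem) (by rw [← hc', map_zero])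
    rw [hc0, zero_smul] at hc
    have h4 := (((hf x.1).res (inf_le_right : W ⊓ U x.1 ≤ U x.1)).res
      (inf_le_left : W ⊓ U x.1 ⊓ G.V ≤ W ⊓ U x.1))
    have h5 : (1 : Γ(Z, W ⊓ U x.1 ⊓ G.V)) = 0 := h4.ext (by rw [one_smul, zero_smul, hc])
    have h6 := congrArg (gg (V := W ⊓ U x.1 ⊓ G.V) (mi hg G.mem)) h5
    rw [map_one, map_zero] at h6
    exact one_ne_zero h6
  have h7 : gg hg a = gg hg b := by
    apply mul_right_cancel₀ h3
    rw [h1, h2]
    exact hmn
  rw [ha, hb, gg_injective hg h7]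

theorem GenPt.val_ne_zero_of_isGen (G : GenPt M) {W : Z.Opens} (hW : genericPoint Z ∈ W) {m : Γ(M, W)}
    (hm : IsGen m) : G.val hW m ≠ 0 := by
  intro h0
  obtain ⟨c, hc, hc'⟩ := G.exists_val hW m
  rw [h0] at hc'
  have hc0 : c = 0 := gg_injective (V := W ⊓ G.V) (mi hW G.mem) (by rw [← hc', map_zero])
  rw [hc0, zero_smul] at hc
  have h5 : (1 : Γ(Z, W ⊓ G.V)) = 0 := (hm.res (inf_le_left : W ⊓ G.V ≤ W)).ext (by
    rw [one_smul, zero_smul, hc])
  have h6 := congrArg (gg (V := W ⊓ G.V) (mi hW G.mem)) h5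
  rw [map_one, map_zero] at h6
  exact one_ne_zero h6

/-- A rational function which is locally a regular multiple of the value of a section comes from a section. -/
theorem GenPt.exists_section (G : GenPt M) (hM : PicF.IsInvertible M) {ι : Type*} {U : ι → Z.Opens} {T : Z.Opens}
    (hU : ∀ i, U i ≤ T) (hT : T ≤ ⨆ i, U i)
    (hη : ∀ i, genericPoint Z ∈ U i) (hTη : genericPoint Z ∈ T) (f : ∀ i, Γ(M, U i)) (θ : Z.functionField)
    (h : ∀ i, ∃ b : Γ(Z, U i), θ = gg (hη i) b * G.val (hη i) (f i)) :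
    ∃ m : Γ(M, T), G.val hTη m = θ := by
  choose b hb using h
  obtain ⟨m, hm⟩ := res_glue M U (V := T) hU hT (fun i => b i • f i) (by
    intro i j
    have hij : genericPoint Z ∈ U i ⊓ U j := mi (hη i) (hη j)
    apply G.val_injective hM hij
    rw [G.val_res, G.val_res, G.val_smul, G.val_smul, ← hb, ← hb])
  by_cases hι : Nonempty ι
  · obtain ⟨i⟩ := hι
    refine ⟨m, ?_⟩
    rw [← G.val_res (hη i) (hU i) m, hm i, G.val_smul, ← hb]
  · exfalso
    have := hT hTη
    rw [Opens.mem_iSup] at this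
    obtain ⟨i, -⟩ := this
    exact hι ⟨i⟩

/-! ### Operations -/

/-- The canonical generator of the structure module. -/
noncomputable def one : GenPt (Coh.structureModule Z) := ⟨⊤, mt Z, Groth.Agent.Fdesc.LocGen.one ⊤, isGen_one ⊤⟩

/-- Tensor product. -/
noncomputable def GenPt.tmul (G : GenPt M) (H : GenPt N) : GenPt (CohB1.tensorMod M N) :=
  ⟨G.V ⊓ H.V, (mi G.mem H.mem), Groth.Agent.Fdesc.LocGen.tmul (res M inf_le_left G.e) (res N inf_le_right H.e),
    (G.gen.res _).tmul (H.gen.res _)⟩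

theorem GenPt.val_tmul (G : GenPt M) (H : GenPt N) {W : Z.Opens} (hW : genericPoint Z ∈ W)
    (m : Γ(M, W)) (n : Γ(N, W)) :
    (G.tmul H).val hW (Groth.Agent.Fdesc.LocGen.tmul m n) = G.val hW m * H.val hW n := by
  obtain ⟨a, ha, ha'⟩ := G.exists_val hW m
  obtain ⟨b, hb, hb'⟩ := H.exists_val hW n
  have h1 : W ⊓ (G.V ⊓ H.V) ≤ W ⊓ G.V := inf_le_inf_left _ inf_le_left
  have h2 : W ⊓ (G.V ⊓ H.V) ≤ W ⊓ H.V := inf_le_inf_left _ inf_le_right
  have h3 : res M (inf_le_left : W ⊓ (G.V ⊓ H.V) ≤ W) m =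
      ores h1 a • res M (inf_le_right.trans inf_le_left : W ⊓ (G.V ⊓ H.V) ≤ G.V) G.e := by
    have := congrArg (res M h1) ha
    simpa only [res_res, res_smul] using this
  have h4 : res N (inf_le_left : W ⊓ (G.V ⊓ H.V) ≤ W) n =
      ores h2 b • res N (inf_le_right.trans inf_le_right : W ⊓ (G.V ⊓ H.V) ≤ H.V) H.e := by
    have := congrArg (res N h2) hb
    simpa only [res_res, res_smul] using this
  rw [(G.tmul H).val_eq hW (T := W ⊓ (G.V ⊓ H.V)) (mi hW (mi G.mem H.mem)) inf_le_left inf_le_right _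
    (ores h1 a * ores h2 b) (by
      have h5 := res_tmul (inf_le_right : W ⊓ (G.V ⊓ H.V) ≤ G.V ⊓ H.V)
        (res M (inf_le_left : G.V ⊓ H.V ≤ G.V) G.e) (res N (inf_le_right : G.V ⊓ H.V ≤ H.V) H.e)
      rw [res_res, res_res] at h5
      refine Eq.trans ?_ (congrArg (fun t => (ores h1 a * ores h2 b) • t) h5.symm)
      rw [res_tmul, h3, h4, smul_tmul, tmul_smul, smul_smul]), map_mul, gg_ores,
    gg_ores, ha', hb']

/-- Transport along an isomorphism. -/
noncomputable def GenPt.app (G : GenPt M) (φ : M ≅ N) : GenPt N :=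
  ⟨G.V, G.mem, φ.hom.app G.V G.e, G.gen.app φ.hom⟩

theorem GenPt.val_app (G : GenPt M) (φ : M ≅ N) {W : Z.Opens} (hW : genericPoint Z ∈ W) (m : Γ(M, W)) :
    (G.app φ).val hW (φ.hom.app W m) = G.val hW m := by
  obtain ⟨a, ha, ha'⟩ := G.exists_val hW m
  rw [ha', (G.app φ).val_eq hW (T := W ⊓ G.V) (mi hW G.mem) inf_le_left inf_le_right _ a]
  rw [← app_res, ha, Scheme.Modules.Hom.app_smul, app_res]
  rfl

/-- The value of a power. -/
noncomputable def GenPt.pow (G : GenPt M) (n : ℕ) : GenPt (CohB1.tensorPow M n) :=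
  ⟨G.V, G.mem, Groth.Agent.Fdesc.LocGen.pow G.e n, G.gen.pow n⟩

theorem GenPt.val_pow (G : GenPt M) (n : ℕ) {W : Z.Opens} (hW : genericPoint Z ∈ W) (m : Γ(M, W)) :
    (G.pow n).val hW (Groth.Agent.Fdesc.LocGen.pow m n) = G.val hW m ^ n := by
  obtain ⟨a, ha, ha'⟩ := G.exists_val hW m
  rw [ha', ← map_pow, (G.pow n).val_eq hW (T := W ⊓ G.V) (mi hW G.mem) inf_le_left inf_le_right _ (a ^ n)]
  have h5 := res_pow (inf_le_right : W ⊓ G.V ≤ G.V) G.e n
  refine Eq.trans ?_ (congrArg (fun t => (a ^ n) • t) h5.symm)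
  rw [res_pow, ha, smul_pow]

section Pull

variable {Y : Scheme.{u}} [IsIntegral Y] (π : Z ⟶ Y) [Surjective π]

/-- Pull-back of a generator at the generic point. -/
noncomputable def GenPt.pull {E : Y.Modules} (G : GenPt E) : GenPt ((Scheme.Modules.pullback π).obj E) :=
  ⟨π ⁻¹ᵁ G.V, mem_preimage π G.mem, pullSec π G.e, G.gen.pullSec π⟩

theorem GenPt.val_pull {E : Y.Modules} (G : GenPt E) {W : Y.Opens} (hW : genericPoint Y ∈ W) (m : Γ(E, W)) :
    (G.pull π).val (mem_preimage π hW) (pullSec π m) = ff π (G.val hW m) := by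
  obtain ⟨a, ha, ha'⟩ := G.exists_val hW m
  have h0 : genericPoint Y ∈ W ⊓ G.V := mi hW G.mem
  rw [ha', ff_gg π h0]
  refine (G.pull π).val_eq (mem_preimage π hW) (T := π ⁻¹ᵁ (W ⊓ G.V)) (mem_preimage π h0)
    (π.preimage_mono inf_le_left) (π.preimage_mono inf_le_right) _ (π.app (W ⊓ G.V) a) ?_
  have h5 := res_pullSec π (inf_le_right : W ⊓ G.V ≤ G.V) G.e
  refine Eq.trans ?_ (congrArg (fun t => (π.app (W ⊓ G.V) a : Γ(Z, π ⁻¹ᵁ (W ⊓ G.V))) • t) h5.symm)
  rw [res_pullSec π (inf_le_left : W ⊓ G.V ≤ W), ha, pullSec_smul]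

end Pull

end K436.GVal
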