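import Groth.Agent.Divis.NormSheaf
import Groth.Agent.CycB.ImageInt
import Mathlib.AlgebraicGeometry.Morphisms.Finite
import Mathlib.RingTheory.Norm.Basic
import Mathlib.FieldTheory.IsAlgClosed.AlgebraicClosure

/-!
# A finite integral cover through which all conjugates factor

For `f : Y ⟶ X` finite surjective of integral schemes with separable extension of function fields there are
`g : Z ⟶ X` finite surjective, `Z` integral, and morphisms `π σ : Z ⟶ Y` over `X`, one for every embedding `σ` of
`K(Y)` into an algebraic closure of `K(X)`, with `g^#(Nm φ) = ∏ σ, (π σ)^# φ`.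
-/

set_option autoImplicit false
set_option linter.style.haveILetI false
universe u

open CategoryTheory CategoryTheory.Limits AlgebraicGeometry TopologicalSpace Opposite

namespace K436.GalZ

open Groth.Agent.Divis.NormSheaf

/-- The morphism of function fields, as a morphism of commutative rings. -/
noncomputable def ffm {X Z : Scheme.{u}} [IsIntegral X] [IsIntegral Z] (g : Z ⟶ X) [Surjective g] :
    X.functionField ⟶ Z.functionField :=
  X.presheaf.stalkSpecializes (specializes_of_eq (map_genericPoint g)) ≫ g.stalkMap (genericPoint Z)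

theorem ffm_hom {X Z : Scheme.{u}} [IsIntegral X] [IsIntegral Z] (g : Z ⟶ X) [Surjective g] :
    (ffm g).hom = ff g := rfl

theorem fromSpecStalk_comp {X Z : Scheme.{u}} [IsIntegral X] [IsIntegral Z] (g : Z ⟶ X) [Surjective g] :
    Z.fromSpecStalk (genericPoint Z) ≫ g = Spec.map (ffm g) ≫ X.fromSpecStalk (genericPoint X) := by
  rw [ffm, Spec.map_comp, Category.assoc, Scheme.SpecMap_stalkSpecializes_fromSpecStalk,
    Scheme.SpecMap_stalkMap_fromSpecStalk]

theorem ff_comp {X Y Z : Scheme.{u}} [IsIntegral X] [IsIntegral Y] [IsIntegral Z] (π : Z ⟶ Y) [Surjective π]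
    (f : Y ⟶ X) [Surjective f] (g : Z ⟶ X) [Surjective g] (h : π ≫ f = g) (a : X.functionField) :
    ff π (ff f a) = ff g a := by
  have h1 : Spec.map (ffm f ≫ ffm π) = Spec.map (ffm g) := by
    rw [← cancel_mono (X.fromSpecStalk (genericPoint X)), Spec.map_comp, Category.assoc,
      ← fromSpecStalk_comp f, ← Category.assoc, ← fromSpecStalk_comp π, Category.assoc, h,
      ← fromSpecStalk_comp g]
  have h2 := Spec.map_injective h1
  exact congr($(h2).hom a)

section step

variable {Ω : Type u} [Field Ω]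

/-- A geometric point over the generic point. -/
noncomputable def pt {Z : Scheme.{u}} [IsIntegral Z] (τ : Z.functionField ⟶ CommRingCat.of Ω) :
    Spec (CommRingCat.of Ω) ⟶ Z :=
  Spec.map τ ≫ Z.fromSpecStalk (genericPoint Z)

theorem pt_injective {Z : Scheme.{u}} [IsIntegral Z] {τ τ' : Z.functionField ⟶ CommRingCat.of Ω}
    (h : pt τ = pt τ') : τ = τ' := by
  unfold pt at h
  rw [cancel_mono] at h
  exact Spec.map_injective h

theorem pt_comp {X Z : Scheme.{u}} [IsIntegral X] [IsIntegral Z] (g : Z ⟶ X) [Surjective g]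
    (τ : Z.functionField ⟶ CommRingCat.of Ω) : pt τ ≫ g = pt (ffm g ≫ τ) := by
  unfold pt
  rw [Category.assoc, fromSpecStalk_comp, Spec.map_comp, Category.assoc]

theorem pt_apply {Z : Scheme.{u}} [IsIntegral Z] (τ : Z.functionField ⟶ CommRingCat.of Ω)
    (x : Spec (CommRingCat.of Ω)) : pt τ x = genericPoint Z := by
  unfold pt
  rw [Scheme.Hom.comp_apply]
  have h1 : Spec.map τ x = IsLocalRing.closedPoint (Z.presheaf.stalk (genericPoint Z)) := by
    have : Subsingleton (PrimeSpectrum Z.functionField) := inferInstance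
    exact Subsingleton.elim (α := PrimeSpectrum Z.functionField) _ _
  rw [h1]
  exact Scheme.fromSpecStalk_closedPoint

theorem exists_pt {Z : Scheme.{u}} [IsIntegral Z] (q : Spec (CommRingCat.of Ω) ⟶ Z)
    (hq : q (IsLocalRing.closedPoint Ω) = genericPoint Z) :
    ∃ τ : Z.functionField ⟶ CommRingCat.of Ω, pt τ = q := by
  refine ⟨Z.presheaf.stalkSpecializes (specializes_of_eq hq) ≫ Scheme.stalkClosedPointTo q, ?_⟩
  unfold pt
  rw [Spec.map_comp, Category.assoc, Scheme.SpecMap_stalkSpecializes_fromSpecStalk]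
  exact Scheme.Spec_stalkClosedPointTo_fromSpecStalk q

theorem surjective_of_pt {X Z : Scheme.{u}} [IsIntegral X] (g : Z ⟶ X) [IsFinite g]
    (z : Z) (hz : g z = genericPoint X) : Surjective g := by
  refine ⟨fun x => ?_⟩
  have hcl := g.isClosedMap.isClosed_range
  have h1 : closure {genericPoint X} ⊆ Set.range g :=
    hcl.closure_subset_iff.2 (by rintro _ rfl; exact ⟨z, hz⟩)
  rw [genericPoint_closure] at h1
  exact h1 trivial

/-- One step of the construction. -/
theorem exists_step {X Y Z : Scheme.{u}} [IsIntegral X] [IsIntegral Y] [IsIntegral Z] [QuasiSeparatedSpace Z]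
    (g : Z ⟶ X) [IsFinite g] [Surjective g] (f : Y ⟶ X) [IsFinite f] [Surjective f]
    (τ : Z.functionField ⟶ CommRingCat.of Ω) (σ : Y.functionField ⟶ CommRingCat.of Ω)
    (h : ffm g ≫ τ = ffm f ≫ σ) :
    ∃ (Z' : Scheme.{u}) (_ : IsIntegral Z') (_ : QuasiSeparatedSpace Z') (p : Z' ⟶ Z) (_ : IsFinite p)
      (_ : Surjective p) (π : Z' ⟶ Y) (τ' : Z'.functionField ⟶ CommRingCat.of Ω),
      p ≫ g = π ≫ f ∧ pt τ' ≫ p = pt τ ∧ pt τ' ≫ π = pt σ := by
  have hc : pt τ ≫ g = pt σ ≫ f := by rw [pt_comp, pt_comp, h]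
  let u : Spec (CommRingCat.of Ω) ⟶ pullback g f := pullback.lift (pt τ) (pt σ) hc
  have hW : QuasiSeparatedSpace ↥(pullback g f) := quasiSeparatedSpace_of_quasiSeparated (pullback.fst g f)
  have hu : QuasiCompact u := inferInstance
  have hint : IsIntegral u.image := Groth.Agent.CycB.ImageInt.isIntegral_image u
  let p : u.image ⟶ Z := u.imageι ≫ pullback.fst g f
  have hp : IsFinite p := inferInstance
  have hup : u.toImage ≫ p = pt τ := by
    rw [← Category.assoc, Scheme.Hom.toImage_imageι, pullback.lift_fst]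
  have hgen : u.toImage (IsLocalRing.closedPoint Ω) = genericPoint u.image := by
    have h1 := Groth.Agent.CycB.ImageInt.toImage_genericPoint u
    have h2 : (genericPoint ↥(Spec (CommRingCat.of Ω))) = IsLocalRing.closedPoint Ω := Subsingleton.elim _ _
    rw [← h2]
    exact h1
  have hs : Surjective p := surjective_of_pt p (u.toImage (IsLocalRing.closedPoint Ω)) (by
    have h1 := congr($hup (IsLocalRing.closedPoint Ω))
    exact h1.trans (pt_apply τ _))
  have hqs : QuasiSeparatedSpace u.image := quasiSeparatedSpace_of_quasiSeparated p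
  obtain ⟨τ', hτ'⟩ := exists_pt u.toImage hgen
  refine ⟨u.image, hint, hqs, p, hp, hs, u.imageι ≫ pullback.snd g f, τ', ?_, ?_, ?_⟩
  · rw [Category.assoc, Category.assoc, pullback.condition]
  · rw [hτ', hup]
  · rw [hτ', ← Category.assoc, Scheme.Hom.toImage_imageι, pullback.lift_snd]

/-- The whole construction for a finite list of embeddings. -/
theorem exists_list {X Y : Scheme.{u}} [IsIntegral X] [IsIntegral Y] [QuasiSeparatedSpace X]
    (f : Y ⟶ X) [IsFinite f] [Surjective f] (ω : X.functionField ⟶ CommRingCat.of Ω)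
    (l : List (Y.functionField ⟶ CommRingCat.of Ω)) (hl : ∀ σ ∈ l, ffm f ≫ σ = ω) :
    ∃ (Z : Scheme.{u}) (_ : IsIntegral Z) (_ : QuasiSeparatedSpace Z) (g : Z ⟶ X) (_ : IsFinite g)
      (_ : Surjective g) (τ : Z.functionField ⟶ CommRingCat.of Ω), ffm g ≫ τ = ω ∧
      ∀ σ ∈ l, ∃ π : Z ⟶ Y, π ≫ f = g ∧ pt τ ≫ π = pt σ := by
  induction l with
  | nil =>
    refine ⟨X, inferInstance, inferInstance, 𝟙 X, inferInstance, inferInstance, ω, ?_, by simp⟩
    apply pt_injective
    rw [← pt_comp, Category.comp_id]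
  | cons σ l ih =>
    obtain ⟨Z, hZ, hZq, g, hg, hgs, τ, hτ, H⟩ := ih (fun σ hσ => hl σ (List.mem_cons_of_mem _ hσ))
    obtain ⟨Z', hZ', hZq', p, hp, hps, π, τ', h1, h2, h3⟩ := exists_step g f τ σ
      (hτ.trans (hl σ List.mem_cons_self).symm)
    refine ⟨Z', hZ', hZq', p ≫ g, inferInstance, inferInstance, τ', ?_, ?_⟩
    · apply pt_injective
      rw [← pt_comp, ← Category.assoc, h2, pt_comp, hτ]
    · intro ρ hρ
      rcases List.mem_cons.1 hρ with rfl | hρ
      · exact ⟨π, h1.symm, h3⟩
      · obtain ⟨π', h4, h5⟩ := H ρ hρ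
        exact ⟨p ≫ π', by rw [Category.assoc, h4], by rw [← Category.assoc, h2, h5]⟩

theorem surjective_of_pt' {Y Z : Scheme.{u}} [IsIntegral Y] [IsIntegral Z] {π : Z ⟶ Y} [IsFinite π]
    {τ : Z.functionField ⟶ CommRingCat.of Ω} {σ : Y.functionField ⟶ CommRingCat.of Ω} (h : pt τ ≫ π = pt σ) :
    Surjective π := by
  refine surjective_of_pt π (pt τ (IsLocalRing.closedPoint Ω)) ?_
  have h1 := congr($h (IsLocalRing.closedPoint Ω))
  exact h1.trans (pt_apply σ _)

end step

/-- **The cover through which all conjugates factor.** -/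
theorem exists_cover {X Y : Scheme.{u}} [IsIntegral X] [IsIntegral Y] [QuasiSeparatedSpace X]
    (f : Y ⟶ X) [IsFinite f] [Surjective f]
    (hsep : letI := alg f; Algebra.IsSeparable X.functionField Y.functionField) :
    ∃ (Z : Scheme.{u}) (_ : IsIntegral Z) (_ : QuasiSeparatedSpace Z) (g : Z ⟶ X) (_ : IsFinite g)
      (_ : Surjective g) (n : ℕ) (π : Fin n → (Z ⟶ Y)) (_ : ∀ i, IsFinite (π i)) (_ : ∀ i, Surjective (π i)),
      (letI := alg f; n = Module.finrank X.functionField Y.functionField) ∧ (∀ i, π i ≫ f = g) ∧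
      ∀ φ : Y.functionField, ff g (nm f φ) = ∏ i, ff (π i) φ := by
  letI := alg f
  haveI : Algebra.IsSeparable X.functionField Y.functionField := hsep
  haveI := finite_functionField f
  let Ω := AlgebraicClosure X.functionField
  let ω : X.functionField ⟶ CommRingCat.of Ω := CommRingCat.ofHom (algebraMap X.functionField Ω)
  let E := Y.functionField →ₐ[X.functionField] Ω
  letI : Fintype E := minpoly.AlgHom.fintype X.functionField Y.functionField Ω
  let s : E → (Y.functionField ⟶ CommRingCat.of Ω) := fun e => CommRingCat.ofHom e.toRingHom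
  have hs : ∀ e, ffm f ≫ s e = ω := by
    intro e
    ext a
    exact e.commutes a
  obtain ⟨Z, hZ, hZq, g, hg, hgs, τ, hτ, H⟩ := exists_list f ω
    ((Finset.univ : Finset E).toList.map s) (by
      intro σ hσ
      obtain ⟨e, -, rfl⟩ := List.mem_map.1 hσ
      exact hs e)
  have H' : ∀ e : E, ∃ π : Z ⟶ Y, π ≫ f = g ∧ pt τ ≫ π = pt (s e) := fun e =>
    H (s e) (List.mem_map.2 ⟨e, by simp, rfl⟩)
  choose π hπ hπ' using H'
  have hfin : ∀ e, IsFinite (π e) := fun e => by
    have : IsFinite (π e ≫ f) := by rw [hπ e]; exact hg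
    exact MorphismProperty.of_postcomp (W' := @IsSeparated) @IsFinite (π e) f inferInstance this
  have hsur : ∀ e, Surjective (π e) := fun e => surjective_of_pt' (hπ' e)
  let c := (Fintype.equivFin E).symm
  refine ⟨Z, hZ, hZq, g, hg, hgs, Fintype.card E, fun i => π (c i), fun i => hfin _, fun i => hsur _, ?_,
    fun i => hπ _, fun φ => ?_⟩
  · exact AlgHom.card X.functionField Y.functionField Ω
  · have hτi : Function.Injective τ.hom := τ.hom.injective
    apply hτi
    have h1 : τ.hom (ff g (nm f φ)) = algebraMap X.functionField Ω (Algebra.norm X.functionField φ) :=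
      congr($(hτ).hom (nm f φ))
    rw [h1, Algebra.norm_eq_prod_embeddings, map_prod]
    refine (Equiv.prod_comp c (fun σ : E => σ φ)).symm.trans ?_
    refine Finset.prod_congr rfl fun i _ => ?_
    have h2 : ffm (π (c i)) ≫ τ = s (c i) := pt_injective (by rw [← pt_comp, hπ'])
    exact congr($(h2).hom φ).symm

end K436.GalZ
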