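import Mathlib.RingTheory.MvPowerSeries.LexOrder
import Mathlib.LinearAlgebra.FiniteDimensional.Lemmas
import Mathlib.LinearAlgebra.Dimension.Constructions
import Mathlib.Data.Set.Card

/-!
# Leading exponents of a finite dimensional space of power series

The number of lexicographic leading exponents of the nonzero elements of a finite dimensional space `W` of power
series is the dimension of `W`.
-/

set_option autoImplicit false

open MvPowerSeries

namespace K436.LexCount

variable {k : Type*} [Field k] {d : ℕ}

/-- Leading exponents of the elements of `W`. -/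
def lexSet (W : Submodule k (MvPowerSeries (Fin d) k)) : Set (Fin d →₀ ℕ) :=
  {e | ∃ f ∈ W, lexOrder f = toLex e}

theorem linearIndependent_of_lexOrder {ι : Type*} (e : ι → (Fin d →₀ ℕ)) (he : Function.Injective e)
    (f : ι → MvPowerSeries (Fin d) k) (hf : ∀ i, lexOrder (f i) = toLex (e i)) : LinearIndependent k f := by
  classical
  rw [linearIndependent_iff']
  intro s g hg i hi
  by_contra hne
  -- minimal exponent among those with nonzero coefficient
  obtain ⟨i0, hi0, hmin⟩ := Finset.exists_min_image (s.filter (fun i => g i ≠ 0)) (fun i => toLex (e i))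
    ⟨i, Finset.mem_filter.mpr ⟨hi, hne⟩⟩
  rw [Finset.mem_filter] at hi0
  have h1 : coeff (e i0) (∑ i ∈ s, g i • f i) = 0 := by rw [hg, map_zero]
  rw [map_sum, Finset.sum_eq_single_of_mem i0 hi0.1] at h1
  · rw [coeff_smul] at h1
    exact (mul_ne_zero hi0.2 (coeff_ne_zero_of_lexOrder (hf i0).symm)) h1
  · intro j hj hji
    rw [coeff_smul]
    by_cases hgj : g j = 0
    · rw [hgj, zero_mul]
    · have h2 := hmin j (Finset.mem_filter.mpr ⟨hj, hgj⟩)
      have h3 : toLex (e i0) < toLex (e j) := lt_of_le_of_ne h2 (fun h => hji (he (toLex.injective h).symm))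
      rw [coeff_eq_zero_of_lt_lexOrder (by rw [hf j]; exact_mod_cast h3), mul_zero]

theorem card_le (W : Submodule k (MvPowerSeries (Fin d) k)) [FiniteDimensional k W]
    (S : Finset (Fin d →₀ ℕ)) (hS : (S : Set (Fin d →₀ ℕ)) ⊆ lexSet W) : S.card ≤ Module.finrank k W := by
  choose f hf hf' using fun e : S => hS e.2
  have h1 : LinearIndependent k f := linearIndependent_of_lexOrder (fun e : S => e.1) Subtype.val_injective f hf'
  have h2 : LinearIndependent k (fun e : S => (⟨f e, hf e⟩ : W)) := by
    have : f = W.subtype ∘ (fun e : S => (⟨f e, hf e⟩ : W)) := rfl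
    rw [this] at h1
    exact h1.of_comp W.subtype
  simpa using h2.fintype_card_le_finrank

theorem finite_lexSet (W : Submodule k (MvPowerSeries (Fin d) k)) [FiniteDimensional k W] : (lexSet W).Finite := by
  by_contra h
  obtain ⟨S, hS, hc⟩ := Set.Infinite.exists_subset_card_eq h (Module.finrank k W + 1)
  have := card_le W S hS
  omega

theorem finrank_le (W : Submodule k (MvPowerSeries (Fin d) k)) (S : Finset (Fin d →₀ ℕ)) (hS : lexSet W ⊆ S) :
    Module.finrank k W ≤ S.card := by
  let φ : W →ₗ[k] (S → k) :=
    { toFun := fun f e => coeff e.1 (f : MvPowerSeries (Fin d) k)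
      map_add' := fun f g => by funext e; simp
      map_smul' := fun c f => by funext e; simp }
  have hφ : Function.Injective φ := by
    rw [injective_iff_map_eq_zero]
    intro f hf
    by_contra hne
    have hne' : (f : MvPowerSeries (Fin d) k) ≠ 0 := fun h => hne (Subtype.ext h)
    obtain ⟨e, he⟩ := exists_finsupp_eq_lexOrder_of_ne_zero hne'
    have he' : e ∈ S := hS ⟨f, f.2, he⟩
    exact coeff_ne_zero_of_lexOrder he.symm (congrFun hf ⟨e, he'⟩)
  have := LinearMap.finrank_le_finrank_of_injective hφ
  simpa using this

/-- The leading exponents are as many as the dimension. -/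
theorem ncard_lexSet (W : Submodule k (MvPowerSeries (Fin d) k)) [FiniteDimensional k W] :
    (finite_lexSet W).toFinset.card = Module.finrank k W :=
  le_antisymm (card_le W _ (by simp)) (finrank_le W _ (by simp))

end K436.LexCount
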