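import Groth.Agent.Picfga.ChiCech
import Groth.Agent.Fdesc.CurveMap
import Groth.Agent.Fdesc.LocGenTensor
import Groth.Agent.Variety.K436.LexCount
import Groth.Agent.Variety.K436.BrunnMink

/-!
# Leading exponents of sections of invertible modules at a point, and Brunn–Minkowski for `h⁰`

`X` integral over a field `k`, `x : X`, `j : O_{X,x} → k[[t_1, …, t_d]]` an injective `k`-algebra map.  For a
generator `e` of an invertible module `L` near `x` the map `expo` sends a global section `s = f e` to `j f`; it is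
linear and injective, and multiplicative for tensor products.  Hence the set `Γ(L)` of lexicographic leading
exponents has `h⁰(L)` elements and `Γ(L) + Γ(L') ⊆ Γ(L ⊗ L')`.
-/

set_option autoImplicit false
universe u
open CategoryTheory CategoryTheory.Limits AlgebraicGeometry Opposite TopologicalSpace
open Groth.Agent.Fdesc.LocGen Groth.Agent.Picfga.ChiCech
open scoped Pointwise

namespace K436.GermExp

variable {X : Scheme.{u}}

/-- The coefficient of a section with respect to a generator. -/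
noncomputable def coef {L : X.Modules} {U : X.Opens} {e : Γ(L, U)} (he : IsGen e) : Γ(L, U) ≃ₗ[Γ(X, U)] Γ(X, U) :=
  (LinearEquiv.ofBijective (LinearMap.toSpanSingleton Γ(X, U) Γ(L, U) e) he.bijective).symm

theorem coef_smul {L : X.Modules} {U : X.Opens} {e : Γ(L, U)} (he : IsGen e) (s : Γ(L, U)) : coef he s • e = s :=
  (LinearEquiv.ofBijective (LinearMap.toSpanSingleton Γ(X, U) Γ(L, U) e) he.bijective).apply_symm_apply s

theorem coef_eq {L : X.Modules} {U : X.Opens} {e : Γ(L, U)} (he : IsGen e) (s : Γ(L, U)) (a : Γ(X, U))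
    (h : a • e = s) : coef he s = a :=
  he.ext ((coef_smul he s).trans h.symm)

variable (k : Type u) [Field k] [X.Over (Spec (CommRingCat.of k))] {d : ℕ} (x : X)
  (j : X.presheaf.stalk x →+* MvPowerSeries (Fin d) k)

/-- `j` is an injective `k`-algebra map from the local ring to a power series ring. -/
structure IsChart : Prop where
  inj : Function.Injective j
  lin : ∀ c : k, j (X.presheaf.germ ⊤ x trivial (str k ⊤ c)) = MvPowerSeries.C c

variable {k x j}

theorem IsChart.lin' (hj : IsChart k x j) {U : X.Opens} (hx : x ∈ U) (c : k) :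
    j (X.presheaf.germ U x hx (str (X := X) k U c)) = MvPowerSeries.C c := by
  rw [← hj.lin c]
  have h1 : (X.presheaf.map (homOfLE (le_top : U ≤ ⊤)).op).hom (str (X := X) k ⊤ c) = str (X := X) k U c :=
    ores_str (X := X) k (le_top : U ≤ ⊤) c
  rw [← h1]
  congr 1
  exact TopCat.Presheaf.germ_res_apply X.presheaf (homOfLE le_top) x hx _

/-- The power series of a global section. -/
noncomputable def expo (hj : IsChart k x j) {L : X.Modules} {U : X.Opens} (hx : x ∈ U) {e : Γ(L, U)} (he : IsGen e) :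
    SecA k L ⊤ →ₗ[k] MvPowerSeries (Fin d) k where
  toFun s := j (X.presheaf.germ U x hx (coef he (res L le_top (toSecA.symm s))))
  map_add' s t := by
    rw [map_add, map_add, map_add, map_add, map_add]
  map_smul' c s := by
    have h1 : res L (le_top : U ≤ ⊤) (toSecA.symm (c • s)) =
        str (X := X) k U c • res L (le_top : U ≤ ⊤) (toSecA.symm s) := by
      change res L (le_top : U ≤ ⊤) (str (X := X) k ⊤ c • (toSecA.symm s : Γ(L, ⊤))) = _
      rw [res_smul, ores_str]
    rw [h1, map_smul, smul_eq_mul, map_mul, map_mul, hj.lin' hx, RingHom.id_apply, MvPowerSeries.smul_eq_C_mul]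

theorem expo_apply (hj : IsChart k x j) {L : X.Modules} {U : X.Opens} (hx : x ∈ U) {e : Γ(L, U)} (he : IsGen e)
    (s : Γ(L, ⊤)) (a : Γ(X, U)) (h : a • e = res L le_top s) :
    expo hj hx he (toSecA s) = j (X.presheaf.germ U x hx a) := by
  change j (X.presheaf.germ U x hx (coef he (res L le_top s))) = _
  rw [coef_eq he _ a h]

theorem expo_injective [IsIntegral X] (hj : IsChart k x j) {L : X.Modules} (hL : PicF.IsInvertible L) {U : X.Opens}
    (hx : x ∈ U) {e : Γ(L, U)} (he : IsGen e) : Function.Injective (expo hj hx he) := by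
  intro s t h
  have h1 := hj.inj h
  have h2 := germ_injective_of_isIntegral X x hx h1
  have h3 := (coef he).injective h2
  exact toSecA.symm.injective (Groth.Agent.Fdesc.CurveMap.res_injective hL le_top ⟨x, hx⟩ h3)

theorem expo_tmul (hj : IsChart k x j) {L M : X.Modules} {U : X.Opens}
    (hx : x ∈ U) {e : Γ(L, U)} (he : IsGen e) {f : Γ(M, U)} (hf : IsGen f) (s : Γ(L, ⊤)) (t : Γ(M, ⊤)) :
    expo hj hx (he.tmul hf) (toSecA (tmul s t)) = expo hj hx he (toSecA s) * expo hj hx hf (toSecA t) := by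
  have h1 := coef_smul he (res L le_top s)
  have h2 := coef_smul hf (res M le_top t)
  rw [expo_apply hj hx he s _ h1, expo_apply hj hx hf t _ h2, ← map_mul, ← map_mul]
  refine expo_apply hj hx _ _ _ ?_
  rw [res_tmul, ← h1, ← h2, smul_tmul, tmul_smul, smul_smul, h1, h2]

/-- The exponent set. -/
noncomputable def expSet (hj : IsChart k x j) {L : X.Modules} {U : X.Opens} (hx : x ∈ U) {e : Γ(L, U)}
    (he : IsGen e) : Set (Fin d →₀ ℕ) :=
  LexCount.lexSet (LinearMap.range (expo hj hx he))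

theorem mem_expSet (hj : IsChart k x j) {L : X.Modules} {U : X.Opens} (hx : x ∈ U) {e : Γ(L, U)}
    (he : IsGen e) {ν : Fin d →₀ ℕ} :
    ν ∈ expSet hj hx he ↔ ∃ s : Γ(L, ⊤), MvPowerSeries.lexOrder (expo hj hx he (toSecA s)) = toLex ν := by
  constructor
  · rintro ⟨_, ⟨s, rfl⟩, h⟩
    exact ⟨toSecA.symm s, h⟩
  · rintro ⟨s, h⟩
    exact ⟨_, ⟨toSecA s, rfl⟩, h⟩

theorem add_mem_expSet (hj : IsChart k x j) {L M : X.Modules} {U : X.Opens}
    (hx : x ∈ U) {e : Γ(L, U)} (he : IsGen e) {f : Γ(M, U)} (hf : IsGen f) {ν μ : Fin d →₀ ℕ}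
    (hν : ν ∈ expSet hj hx he) (hμ : μ ∈ expSet hj hx hf) : ν + μ ∈ expSet hj hx (he.tmul hf) := by
  rw [mem_expSet] at hν hμ ⊢
  obtain ⟨s, hs⟩ := hν
  obtain ⟨t, ht⟩ := hμ
  refine ⟨tmul s t, ?_⟩
  rw [expo_tmul hj hx he hf, MvPowerSeries.lexOrder_mul, hs, ht]
  rfl

theorem finite_expSet [IsIntegral X] (hj : IsChart k x j) {L : X.Modules} {U : X.Opens}
    (hx : x ∈ U) {e : Γ(L, U)} (he : IsGen e) [Module.Finite k (Coh.HH X L 0)] : (expSet hj hx he).Finite := by
  have : Module.Finite k (SecA k L ⊤) := Module.Finite.equiv (h0Top k L)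
  exact LexCount.finite_lexSet _

theorem card_expSet [IsIntegral X] (hj : IsChart k x j) {L : X.Modules} (hL : PicF.IsInvertible L) {U : X.Opens}
    (hx : x ∈ U) {e : Γ(L, U)} (he : IsGen e) [Module.Finite k (Coh.HH X L 0)] :
    (finite_expSet hj hx he).toFinset.card = Module.finrank k (Coh.HH X L 0) := by
  have : Module.Finite k (SecA k L ⊤) := Module.Finite.equiv (h0Top k L)
  refine (LexCount.ncard_lexSet (LinearMap.range (expo hj hx he))).trans ?_
  rw [LinearMap.finrank_range_of_inj (expo_injective hj hL hx he)]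
  exact (h0Top k L).symm.finrank_eq

/-- **Brunn–Minkowski for `h⁰`.** If the exponent set of `M` contains the cube `{0,1}^d` then
`h⁰(L)^(1/d) + h⁰(L')^(1/d) ≤ h⁰(L ⊗ L' ⊗ M)^(1/d)` for invertible `L`, `L'` with nonzero sections. -/
theorem rpow_add_le [IsIntegral X] (hj : IsChart k x j) (hd : 1 ≤ d) {L L' M : X.Modules} (hL : PicF.IsInvertible L)
    (hL' : PicF.IsInvertible L') (hM : PicF.IsInvertible M) {V : X.Opens} (hxV : x ∈ V) {m : Γ(M, V)} (hm : IsGen m)
    (hcube : ∀ ν ∈ BrunnMink.cube d, ν ∈ expSet hj hxV hm)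
    [Module.Finite k (Coh.HH X L 0)] [Module.Finite k (Coh.HH X L' 0)]
    [Module.Finite k (Coh.HH X (CohB1.tensorMod (CohB1.tensorMod L L') M) 0)]
    (h1 : 0 < Module.finrank k (Coh.HH X L 0)) (h2 : 0 < Module.finrank k (Coh.HH X L' 0)) :
    (Module.finrank k (Coh.HH X L 0) : ℝ) ^ (1 / (d : ℝ)) + (Module.finrank k (Coh.HH X L' 0) : ℝ) ^ (1 / (d : ℝ)) ≤
      (Module.finrank k (Coh.HH X (CohB1.tensorMod (CohB1.tensorMod L L') M) 0) : ℝ) ^ (1 / (d : ℝ)) := by
  classical
  obtain ⟨U₁, e₁, hx₁, he₁⟩ := (isInvertible_iff L).1 hL x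
  obtain ⟨U₂, e₂, hx₂, he₂⟩ := (isInvertible_iff L').1 hL' x
  let U := (U₁ ⊓ U₂) ⊓ V
  have hx : x ∈ U := ⟨⟨hx₁, hx₂⟩, hxV⟩
  have g₁ : IsGen (res L (show U ≤ U₁ from inf_le_left.trans inf_le_left) e₁) := he₁.res _
  have g₂ : IsGen (res L' (show U ≤ U₂ from inf_le_left.trans inf_le_right) e₂) := he₂.res _
  have g₃ : IsGen (res M (show U ≤ V from inf_le_right) m) := hm.res _
  have hcube' : ∀ ν ∈ BrunnMink.cube d, ν ∈ expSet hj hx g₃ := by
    intro ν hν
    have h := hcube ν hν
    rw [mem_expSet] at h ⊢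
    obtain ⟨s, hs⟩ := h
    refine ⟨s, ?_⟩
    rw [← hs]
    congr 1
    have h3 := coef_smul hm (res M le_top s)
    rw [expo_apply hj hxV hm s _ h3]
    have h4 : ores (show U ≤ V from inf_le_right) (coef hm (res M le_top s)) •
        res M (show U ≤ V from inf_le_right) m = res M le_top s := by
      rw [← res_smul, h3, res_res]
    rw [expo_apply hj hx g₃ s _ h4]
    congr 1
    exact TopCat.Presheaf.germ_res_apply X.presheaf (homOfLE _) x hx _
  have hsub : (finite_expSet hj hx g₁).toFinset + (finite_expSet hj hx g₂).toFinset + BrunnMink.cube d ⊆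
      (finite_expSet hj hx ((g₁.tmul g₂).tmul g₃)).toFinset := by
    intro ν hν
    obtain ⟨a, ha, b, hb, rfl⟩ := Finset.mem_add.mp hν
    obtain ⟨a1, ha1, a2, ha2, rfl⟩ := Finset.mem_add.mp ha
    rw [Set.Finite.mem_toFinset] at ha1 ha2 ⊢
    exact add_mem_expSet hj hx _ _ (add_mem_expSet hj hx _ _ ha1 ha2) (hcube' b hb)
  have hbm := BrunnMink.BM_cube d hd (finite_expSet hj hx g₁).toFinset (finite_expSet hj hx g₂).toFinset
    (by rw [← Finset.card_pos, card_expSet hj hL hx g₁]; exact h1)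
    (by rw [← Finset.card_pos, card_expSet hj hL' hx g₂]; exact h2)
  have hle := Finset.card_le_card hsub
  rw [card_expSet hj (isInvertible_tensorMod (isInvertible_tensorMod hL hL') hM) hx] at hle
  rw [card_expSet hj hL hx g₁, card_expSet hj hL' hx g₂] at hbm
  refine hbm.trans ?_
  have : (0 : ℝ) ≤ 1 / (d : ℝ) := by positivity
  exact Real.rpow_le_rpow (by positivity) (by exact_mod_cast hle) this

end K436.GermExp
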