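import Groth.Agent.Variety.K436.GVal
import Groth.Agent.Picfga.ChiCech
import Groth.Agent.VarietyA.CurveFin

/-!
# `k`-linear structure on sections, and rational functions
-/

set_option autoImplicit false
universe u

open CategoryTheory AlgebraicGeometry TopologicalSpace Opposite

namespace K436.KLin

open Groth.Agent.Fdesc.LocGen Groth.Agent.Divis.NormSheaf Groth.Agent.Picfga.ChiCech K436.GVal

variable (k : Type u) [Field k] {Z : Scheme.{u}} [IsIntegral Z] [Z.Over (Spec (CommRingCat.of k))]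

/-- The constants in the function field. -/
noncomputable def kz (Z : Scheme.{u}) [IsIntegral Z] [Z.Over (Spec (CommRingCat.of k))] : k →+* Z.functionField :=
  (gg (mt Z)).comp (str k ⊤)

omit [IsIntegral Z] in
theorem str_app {X : Scheme.{u}} [X.Over (Spec (CommRingCat.of k))] (g : Z ⟶ X)
    (hg : g ≫ (X ↘ Spec (CommRingCat.of k)) = Z ↘ Spec (CommRingCat.of k)) (c : k) (V : X.Opens) :
    (g.app V).hom (str k V c) = str k (g ⁻¹ᵁ V) c := by
  have h0 : ∀ (W : Scheme.{u}) [W.Over (Spec (CommRingCat.of k))], str k (⊤ : W.Opens) c =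
      Coh.toGlobal (W ↘ Spec (CommRingCat.of k)) c := fun W _ => ores_refl _
  have h1 : str k (⊤ : Z.Opens) c = (g.app ⊤).hom (str k (⊤ : X.Opens) c) := by
    rw [h0, h0]
    have h2 : (Z ↘ Spec (CommRingCat.of k)).appTop =
        (X ↘ Spec (CommRingCat.of k)).appTop ≫ g.appTop := by
      rw [← hg, Scheme.Hom.comp_appTop]
    change ((Z ↘ Spec (CommRingCat.of k)).appTop).hom _ = (g.appTop).hom
      (((X ↘ Spec (CommRingCat.of k)).appTop).hom _)
    rw [h2]
    rfl
  have h3 := congr(($(g.naturality (homOfLE (le_top : V ≤ ⊤)).op)).hom (str k (⊤ : X.Opens) c))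
  have h4 : (g.app V).hom (ores (le_top : V ≤ ⊤) (str k (⊤ : X.Opens) c)) =
      ores (le_top : g ⁻¹ᵁ V ≤ ⊤) ((g.app ⊤).hom (str k (⊤ : X.Opens) c)) := h3
  rw [ores_str] at h4
  rw [h4, ← h1, ores_str]

theorem ff_kz {X : Scheme.{u}} [IsIntegral X] [X.Over (Spec (CommRingCat.of k))] (g : Z ⟶ X) [Surjective g]
    (hg : g ≫ (X ↘ Spec (CommRingCat.of k)) = Z ↘ Spec (CommRingCat.of k)) (c : k) :
    ff g (kz k X c) = kz k Z c := by
  change ff g (gg (mt X) (str k ⊤ c)) = gg (mt Z) (str k ⊤ c)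
  rw [ff_gg g (mt X), str_app k g hg]
  rfl

variable {k} {M : Z.Modules}

/-- `val` on global sections, semilinear for constants. -/
theorem val_smul_k (G : GenPt M) (c : k) (s : SecA k M ⊤) :
    G.val (mt Z) (toSecA.symm (c • s)) = kz k Z c * G.val (mt Z) (toSecA.symm s) :=
  G.val_smul (mt Z) (str k ⊤ c) (toSecA.symm s)

variable (k) in
omit [IsIntegral Z] in
theorem finite_secA [IsProper (Z ↘ Spec (CommRingCat.of k))] (hM : PicF.IsInvertible M) :
    Module.Finite k (SecA k M ⊤) := by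
  have := Groth.Agent.VarietyA.CurveFin.finite_HH k Z hM 0
  exact Module.Finite.equiv (h0Top k M)

variable (k) in
omit [IsIntegral Z] in
theorem finrank_secA (M : Z.Modules) : Module.finrank k (SecA k M ⊤) = Module.finrank k (Coh.HH Z M 0) :=
  (h0Top k M).finrank_eq.symm

end K436.KLin
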