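import Groth.Agent.Variety.K436.KLin

/-!
# Lower bound for `h⁰` of a pull-back, twisted by a module with enough sections
-/

set_option autoImplicit false
set_option linter.style.haveILetI false
universe u

open CategoryTheory AlgebraicGeometry TopologicalSpace Opposite

namespace K436.PullBound

open Groth.Agent.Fdesc.LocGen Groth.Agent.Divis.NormSheaf Groth.Agent.Picfga.ChiCech K436.GVal K436.KLin
open Groth.Agent

variable {k : Type u} [Field k] {Y Z : Scheme.{u}} [IsIntegral Y] [IsIntegral Z]
  [Y.Over (Spec (CommRingCat.of k))] [Z.Over (Spec (CommRingCat.of k))]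
  (π : Z ⟶ Y) [Surjective π]

omit [IsIntegral Y] [IsIntegral Z] [Surjective π] in
theorem pullSec_str (hπ : π ≫ (Y ↘ Spec (CommRingCat.of k)) = Z ↘ Spec (CommRingCat.of k)) {E : Y.Modules} (c : k)
    (s : Γ(E, ⊤)) : pullSec π (str k (⊤ : Y.Opens) c • s) = str k (⊤ : Z.Opens) c • pullTop π s := by
  rw [pullSec_smul]
  have h1 := str_app k π hπ c ⊤
  exact congrArg (fun t : Γ(Z, π ⁻¹ᵁ ⊤) => t • pullSec π s) h1

/-- **Pull-back bound.**  If `M` has `r` sections which are linearly independent over `K(Y)` then
`r h⁰(Y, E) ≤ h⁰(Z, π^* E ⊗ M)`. -/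
theorem mul_finrank_le [IsProper (Z ↘ Spec (CommRingCat.of k))]
    (hπ : π ≫ (Y ↘ Spec (CommRingCat.of k)) = Z ↘ Spec (CommRingCat.of k))
    {M : Z.Modules} (hM : PicF.IsInvertible M) (GM : GenPt M) {r : ℕ} (w : Fin r → Γ(M, ⊤))
    (hw : ∀ c : Fin r → Y.functionField, ∑ j, ff π (c j) * GM.val (mt Z) (w j) = 0 → ∀ j, c j = 0)
    {E : Y.Modules} (hE : PicF.IsInvertible E) :
    r * Module.finrank k (Coh.HH Y E 0) ≤
      Module.finrank k (Coh.HH Z (CohB1.tensorMod ((Scheme.Modules.pullback π).obj E) M) 0) := by
  obtain ⟨GE⟩ := exists_genPt hE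
  have hEM := isInvertible_tensorMod (Groth.Agent.Fdesc.LocGen.isInvertible_pullback π hE) hM
  let Φ : (Fin r → SecA k E ⊤) →ₗ[k] SecA k (CohB1.tensorMod ((Scheme.Modules.pullback π).obj E) M) ⊤ :=
    { toFun := fun s => toSecA (∑ j, tmul (pullTop π (toSecA.symm (s j))) (w j))
      map_add' := fun s t => by
        apply toSecA.symm.injective
        have h1 : ∀ j, tmul (pullTop π (toSecA.symm ((s + t) j))) (w j) =
            tmul (pullTop π (toSecA.symm (s j))) (w j) + tmul (pullTop π (toSecA.symm (t j))) (w j) := fun j => by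
          rw [← add_tmul]
          congr 1
          exact pullSec_add π _ _
        have h2 : ∑ j, tmul (pullTop π (toSecA.symm ((s + t) j))) (w j) =
            ∑ j, tmul (pullTop π (toSecA.symm (s j))) (w j) + ∑ j, tmul (pullTop π (toSecA.symm (t j))) (w j) := by
          rw [← Finset.sum_add_distrib]
          exact Finset.sum_congr rfl fun j _ => h1 j
        exact h2
      map_smul' := fun c s => by
        apply toSecA.symm.injective
        have h1 : ∀ j, tmul (pullTop π (toSecA.symm ((c • s) j))) (w j) =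
            str k (⊤ : Z.Opens) c • tmul (pullTop π (toSecA.symm (s j))) (w j) := fun j => by
          rw [← smul_tmul]
          congr 1
          exact pullSec_str π hπ c _
        have h2 : ∑ j, tmul (pullTop π (toSecA.symm ((c • s) j))) (w j) =
            str k (⊤ : Z.Opens) c • ∑ j, tmul (pullTop π (toSecA.symm (s j))) (w j) := by
          rw [Finset.smul_sum]
          exact Finset.sum_congr rfl fun j _ => h1 j
        exact h2 }
  have hΦ : Function.Injective Φ := by
    rw [injective_iff_map_eq_zero]
    intro s hs0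
    have h1 : ∑ j, tmul (pullTop π (toSecA.symm (s j))) (w j) = 0 := hs0
    have h2 := congrArg (((GE.pull π).tmul GM).val (mt Z)) h1
    rw [GenPt.val_zero, GenPt.val_sum] at h2
    have h3 : ∀ j, ((GE.pull π).tmul GM).val (mt Z) (tmul (pullTop π (toSecA.symm (s j))) (w j)) =
        ff π (GE.val (mt Y) (toSecA.symm (s j))) * GM.val (mt Z) (w j) := fun j => by
      rw [GenPt.val_tmul, ← GenPt.val_pull]
      rfl
    simp only [h3] at h2
    funext j
    apply toSecA.symm.injective
    apply GE.val_injective hE (mt Y)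
    rw [hw _ h2 j]
    exact (GE.val_zero (mt Y)).symm
  have f1 := finite_secA k (Z := Z) hEM
  have h2 := LinearMap.finrank_le_finrank_of_injective hΦ
  have f3 : Module.Finite k (Fin r → SecA k E ⊤) := Module.Finite.of_injective Φ hΦ
  by_cases hr : r = 0
  · subst hr; simp
  have f2 : Module.Finite k (SecA k E ⊤) := by
    have : NeZero r := ⟨hr⟩
    exact Module.Finite.of_surjective (LinearMap.proj (0 : Fin r) : (Fin r → SecA k E ⊤) →ₗ[k] SecA k E ⊤)
      (Function.surjective_eval _)
  rw [Module.finrank_pi_fintype] at h2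
  simp only [finrank_secA, Finset.sum_const, Finset.card_univ, Fintype.card_fin, smul_eq_mul] at h2
  exact h2

end K436.PullBound
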