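import Groth.Agent.Variety.K436.GVal
import Groth.Agent.Ega2.AmpleSec
import Groth.Agent.Ega3B.PullTensor
import Groth.Agent.CohqB.AmpGeneric

/-!
# Sections of powers of an ample module forming a basis of a function field extension
-/

set_option autoImplicit false
set_option linter.style.haveILetI false
universe u

open CategoryTheory AlgebraicGeometry TopologicalSpace Opposite

namespace K436.SpanSec

open Groth.Agent.Fdesc.LocGen Groth.Agent.Divis.NormSheaf K436.GVal
open Groth.Agent

variable {X Z : Scheme.{u}} [IsIntegral X] [IsIntegral Z] (g : Z ⟶ X) [Surjective g]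

/-- The degree of the extension of function fields. -/
noncomputable def deg : ℕ :=
  letI := alg g
  Module.finrank X.functionField Z.functionField

/-- Functions on a nonempty affine open forming a basis over `K(X)`. -/
theorem exists_functions [IsFinite g] {U : Z.Opens} (hU : IsAffineOpen U) (hη : genericPoint Z ∈ U) :
    ∃ a : Fin (deg g) → Γ(Z, U), ∀ c : Fin (deg g) → X.functionField,
      ∑ j, ff g (c j) * gg hη (a j) = 0 → ∀ j, c j = 0 := by
  letI := alg g
  haveI := finite_functionField g
  haveI : Nonempty U := ⟨⟨_, hη⟩⟩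
  haveI := functionField_isFractionRing_of_isAffineOpen Z U hU
  change ∃ a : Fin (Module.finrank X.functionField Z.functionField) → Γ(Z, U),
    ∀ c : Fin (Module.finrank X.functionField Z.functionField) → X.functionField,
      ∑ j, ff g (c j) * gg hη (a j) = 0 → ∀ j, c j = 0
  let y := Module.finBasis X.functionField Z.functionField
  obtain ⟨b, hb⟩ := IsLocalization.exist_integer_multiples_of_finite (nonZeroDivisors Γ(Z, U))
    (S := Z.functionField) (fun j => y j)
  choose a ha using hb
  have hb0 : gg hη (b : Γ(Z, U)) ≠ 0 := by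
    intro h0
    exact nonZeroDivisors.coe_ne_zero b (gg_injective hη (by rw [h0, map_zero]))
  refine ⟨a, fun c hc j => ?_⟩
  have h1 : ∀ j, gg hη (a j) = gg hη (b : Γ(Z, U)) * y j := fun j => by
    have := ha j
    rw [Algebra.smul_def] at this
    exact this
  have h2 : ∑ j, c j • y j = 0 := by
    apply mul_left_cancel₀ hb0
    rw [mul_zero, Finset.mul_sum, ← hc]
    refine Finset.sum_congr rfl fun j _ => ?_
    rw [h1, Algebra.smul_def]
    change _ * (ff g (c j) * _) = _
    ring
  exact (Fintype.linearIndependent_iff.1 y.linearIndependent) c h2 j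

/-- **Sections forming a basis.** -/
theorem exists_basis_sections [IsFinite g] [QuasiSeparatedSpace Z] {A : X.Modules} (hA : CohB1.IsAmple A) :
    ∃ n₀ : ℕ, ∀ n, n₀ ≤ n → ∃ w : Fin (deg g) → Γ((Scheme.Modules.pullback g).obj (CohB1.tensorPow A n), ⊤),
      ∀ (G : GenPt ((Scheme.Modules.pullback g).obj (CohB1.tensorPow A n))) (c : Fin (deg g) → X.functionField),
        ∑ j, ff g (c j) * G.val (mt Z) (w j) = 0 → ∀ j, c j = 0 := by
  classical
  have hA' : CohB1.IsAmple ((Scheme.Modules.pullback g).obj A) := Groth.Agent.CohqB.AmpCocycle.isAmple_pullback g hA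
  let P : ∀ U : Z.Opens, Prop := fun U => IsAffineOpen U ∧ genericPoint Z ∈ U
  have ha : ∀ U : Z.Opens, ∃ a : Fin (deg g) → Γ(Z, U), IsAffineOpen U → ∀ hη : genericPoint Z ∈ U,
      ∀ c : Fin (deg g) → X.functionField, ∑ j, ff g (c j) * gg hη (a j) = 0 → ∀ j, c j = 0 := by
    intro U
    by_cases hU : IsAffineOpen U ∧ genericPoint Z ∈ U
    · obtain ⟨a, ha⟩ := exists_functions g hU.1 hU.2
      exact ⟨a, fun _ _ => ha⟩
    · exact ⟨fun _ => 0, fun h1 h2 => (hU ⟨h1, h2⟩).elim⟩
  choose a ha using ha
  obtain ⟨ι, _, U, hcov, hUa, n₀, hn₀⟩ := Ega2.AmpleSec.exists_ample_sections hA' (fun U => Set.range (a U))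
    (fun U _ => Set.finite_range _)
  obtain ⟨i, hi⟩ : ∃ i, genericPoint Z ∈ U i := by
    have : genericPoint Z ∈ ⨆ i, U i := by rw [hcov]; trivial
    exact Opens.mem_iSup.1 this
  refine ⟨n₀, fun n hn => ?_⟩
  obtain ⟨v, hv, hw⟩ := hn₀ n hn i
  choose w hw using fun j => hw (a (U i) j) ⟨j, rfl⟩
  obtain ⟨φ⟩ := Ega3B.PullTensor.nonempty_pullPowIso g hA.1 n
  refine ⟨fun j => φ.inv.app ⊤ (sec (w j) ⊤), fun G c hc j => ?_⟩
  have hgen : IsGen (sec v (U i)) := by
    have := isGen_sec_genLocus v
    rw [hv] at this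
    exact this
  let G' := G.app φ
  have h1 : ∀ j, G.val (mt Z) (φ.inv.app ⊤ (sec (w j) ⊤)) = gg hi (a (U i) j) * G'.val hi (sec v (U i)) := by
    intro j
    have h2 := G.val_app φ (mt Z) (φ.inv.app ⊤ (sec (w j) ⊤))
    have h3 : φ.hom.app ⊤ (φ.inv.app ⊤ (sec (w j) ⊤)) = sec (w j) ⊤ := by
      have := congr(($(φ.inv_hom_id).app ⊤) (sec (w j) ⊤))
      exact this
    rw [← h2, h3, ← G'.val_smul, ← hw j, ← res_sec (w j) (le_top : U i ≤ ⊤), G'.val_res]
  refine ha (U i) (hUa i) hi c ?_ j
  have h0 : G'.val hi (sec v (U i)) ≠ 0 := G'.val_ne_zero_of_isGen hi hgen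
  apply mul_right_cancel₀ h0
  rw [zero_mul, Finset.sum_mul, ← hc]
  refine Finset.sum_congr rfl fun j _ => ?_
  rw [h1, mul_assoc]

/-- Independent elements in full number span. -/
theorem exists_coeff [IsFinite g] (w : Fin (deg g) → Z.functionField)
    (hw : ∀ c : Fin (deg g) → X.functionField, ∑ j, ff g (c j) * w j = 0 → ∀ j, c j = 0) (y : Z.functionField) :
    ∃ c : Fin (deg g) → X.functionField, y = ∑ j, ff g (c j) * w j := by
  letI := alg g
  haveI := finite_functionField g
  have hli : LinearIndependent X.functionField w := by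
    rw [Fintype.linearIndependent_iff]
    intro c hc
    exact hw c (by
      rw [← hc]
      exact Finset.sum_congr rfl fun j _ => (Algebra.smul_def _ _).symm)
  have hcard : Fintype.card (Fin (deg g)) = Module.finrank X.functionField Z.functionField := Fintype.card_fin _
  have hsp := hli.span_eq_top_of_card_eq_finrank' hcard
  have hy : y ∈ Submodule.span X.functionField (Set.range w) := by rw [hsp]; trivial
  obtain ⟨c, hc⟩ := (Submodule.mem_span_range_iff_exists_fun _).1 hy
  refine ⟨c, hc.symm.trans ?_⟩
  exact Finset.sum_congr rfl fun j _ => Algebra.smul_def _ _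

/-- Selecting a basis over an intermediate field. -/
theorem exists_indep {Y : Scheme.{u}} [IsIntegral Y] (π : Z ⟶ Y) [IsFinite π] [Surjective π] (f : Y ⟶ X)
    [Surjective f] [IsFinite g] (hff : ∀ a, ff π (ff f a) = ff g a) (w : Fin (deg g) → Z.functionField)
    (hw : ∀ c : Fin (deg g) → X.functionField, ∑ j, ff g (c j) * w j = 0 → ∀ j, c j = 0) :
    ∃ p : Fin (deg π) → Fin (deg g), ∀ c : Fin (deg π) → Y.functionField,
      ∑ j, ff π (c j) * w (p j) = 0 → ∀ j, c j = 0 := by
  letI := alg π
  haveI := finite_functionField π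
  have hsp : Submodule.span Y.functionField (Set.range w) = ⊤ := by
    rw [eq_top_iff]
    intro y _
    obtain ⟨c, rfl⟩ := exists_coeff g w hw y
    refine Submodule.sum_mem _ fun j _ => ?_
    rw [← hff]
    have : ff π (ff f (c j)) * w j = ff f (c j) • w j := (Algebra.smul_def _ _).symm
    rw [this]
    exact Submodule.smul_mem _ _ (Submodule.subset_span ⟨j, rfl⟩)
  obtain ⟨κ, a, ha, hspan, hli⟩ := exists_linearIndependent' Y.functionField w
  haveI : Fintype κ := Fintype.ofInjective a ha
  rw [hsp] at hspan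
  let b := Module.Basis.mk hli hspan.ge
  have hcard : Fintype.card κ = deg π := (Module.finrank_eq_card_basis b).symm
  let e : Fin (deg π) ≃ κ := (finCongr hcard.symm).trans (Fintype.equivFin κ).symm
  refine ⟨fun j => a (e j), fun c hc j => ?_⟩
  have hli' := hli.comp e e.injective
  rw [Fintype.linearIndependent_iff] at hli'
  refine hli' c ?_ j
  rw [← hc]
  exact Finset.sum_congr rfl fun j _ => Algebra.smul_def _ _

/-- Multiplicativity of degrees. -/
theorem deg_mul {Y : Scheme.{u}} [IsIntegral Y] (π : Z ⟶ Y) [IsFinite π] [Surjective π] (f : Y ⟶ X)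
    [Surjective f] [IsFinite f] (hff : ∀ a, ff π (ff f a) = ff g a) : deg f * deg π = deg g := by
  letI := alg π
  letI := alg f
  letI := alg g
  haveI : IsScalarTower X.functionField Y.functionField Z.functionField :=
    IsScalarTower.of_algebraMap_eq fun a => (hff a).symm
  exact Module.finrank_mul_finrank X.functionField Y.functionField Z.functionField

theorem deg_pos [IsFinite g] : 0 < deg g := by
  letI := alg g
  haveI := finite_functionField g
  exact Module.finrank_pos

end K436.SpanSec
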