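import Groth.Agent.Variety.K436.KLin
import Mathlib.RingTheory.Trace.Basic

/-!
# Comparison of `h⁰` along a finite morphism onto a normal scheme, by traces
-/

set_option autoImplicit false
set_option linter.style.haveILetI false
universe u

open CategoryTheory AlgebraicGeometry TopologicalSpace Opposite

namespace K436.TraceBound

open Groth.Agent.Fdesc.LocGen Groth.Agent.Divis.NormSheaf Groth.Agent.Picfga.ChiCech K436.GVal K436.KLin
open Groth.Agent

theorem exists_trace_alg {A B K L : Type*} [CommRing A] [IsDomain A] [IsIntegrallyClosed A] [CommRing B]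
    [Field K] [Algebra A K] [IsFractionRing A K] [Field L] [Algebra B L] [Algebra K L]
    [FiniteDimensional K L] (φ : A →+* B) (hφ : φ.IsIntegral)
    (h : (algebraMap K L).comp (algebraMap A K) = (algebraMap B L).comp φ) (b : B) :
    ∃ a : A, algebraMap A K a = Algebra.trace K L (algebraMap B L b) := by
  letI : Algebra A B := φ.toAlgebra
  haveI : Algebra.IsIntegral A B := ⟨hφ⟩
  letI : Algebra A L := ((algebraMap K L).comp (algebraMap A K)).toAlgebra
  haveI : IsScalarTower A K L := IsScalarTower.of_algebraMap_eq' rfl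
  haveI : IsScalarTower A B L := IsScalarTower.of_algebraMap_eq' h
  have hb : IsIntegral A (algebraMap B L b) := (Algebra.IsIntegral.isIntegral (R := A) b).algebraMap
  have h1 : IsIntegral A (Algebra.trace K L (algebraMap B L b)) := Algebra.isIntegral_trace hb
  exact IsIntegrallyClosed.isIntegral_iff.1 h1

section

variable {X Z : Scheme.{u}} [IsIntegral X] [IsIntegral Z] (g : Z ⟶ X) [Surjective g]

/-- The trace of function fields. -/
noncomputable def tr : Z.functionField →+ X.functionField :=
  letI := alg g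
  (Algebra.trace X.functionField Z.functionField).toAddMonoidHom

theorem tr_mul (a : X.functionField) (b : Z.functionField) : tr g (ff g a * b) = a * tr g b := by
  letI := alg g
  change Algebra.trace X.functionField Z.functionField (algebraMap X.functionField Z.functionField a * b) =
    a * Algebra.trace X.functionField Z.functionField b
  rw [← Algebra.smul_def, map_smul, smul_eq_mul]

theorem exists_tr [IsFinite g] (hX : Pi1.IsNormalScheme X) {V : X.Opens} (hV : IsAffineOpen V)
    (hη : genericPoint X ∈ V) (b : Γ(Z, g ⁻¹ᵁ V)) :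
    ∃ a : Γ(X, V), gg hη a = tr g (gg (mem_preimage g hη) b) := by
  letI := alg g
  haveI : Nonempty V := ⟨⟨_, hη⟩⟩
  haveI : Nonempty (g ⁻¹ᵁ V) := ⟨⟨_, mem_preimage g hη⟩⟩
  haveI := functionField_isFractionRing_of_isAffineOpen X V hV
  haveI := Ega2.Normal.isIntegrallyClosed_of_isAffineOpen hX hV inferInstance
  haveI := finite_functionField g
  exact exists_trace_alg (A := Γ(X, V)) (B := Γ(Z, g ⁻¹ᵁ V)) (K := X.functionField) (L := Z.functionField)
    (g.app V).hom (IsFinite.finite_app g V hV).to_isIntegral (by ext a; exact ff_gg g hη a) b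

/-- The function field extension is separable. -/
def IsSep : Prop :=
  letI := alg g
  Algebra.IsSeparable X.functionField Z.functionField

theorem eq_zero_of_tr [IsFinite g] (hs : IsSep g) {x : Z.functionField} (h : ∀ y, tr g (x * y) = 0) : x = 0 := by
  letI := alg g
  haveI : Algebra.IsSeparable X.functionField Z.functionField := hs
  haveI := finite_functionField g
  have h1 := traceForm_nondegenerate X.functionField Z.functionField
  exact h1.1 x (fun y => h y)

end

variable {k : Type u} [Field k] {X Z : Scheme.{u}} [IsIntegral X] [IsIntegral Z]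
  [X.Over (Spec (CommRingCat.of k))] [Z.Over (Spec (CommRingCat.of k))]
  (g : Z ⟶ X) [IsFinite g] [Surjective g]

omit [X.Over (Spec (CommRingCat.of k))] [Z.Over (Spec (CommRingCat.of k))] in
/-- The trace of a section of `g^* F` against a section of `g^* A`. -/
theorem exists_trace_section (hX : Pi1.IsNormalScheme X) {F A : X.Modules} (hF : PicF.IsInvertible F)
    (hA : PicF.IsInvertible A) (GF : GenPt F) (GA : GenPt A)
    (s : Γ((Scheme.Modules.pullback g).obj F, ⊤)) (w : Γ((Scheme.Modules.pullback g).obj A, ⊤)) :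
    ∃ t : Γ(CohB1.tensorMod F A, ⊤), (GF.tmul GA).val (mt X) t =
      tr g ((GF.pull g).val (mt Z) s * (GA.pull g).val (mt Z) w) := by
  have hF' := (isInvertible_iff F).1 hF
  have hA' := (isInvertible_iff A).1 hA
  choose U e hU he using hF'
  choose U' e' hU' he' using hA'
  choose V hV hVx hVle using fun x : X => exists_isAffineOpen_mem_and_subset (x := x) (U := U x ⊓ U' x)
    (mi (hU x) (hU' x))
  have hη : ∀ x, genericPoint X ∈ V x := fun x => genericPoint_mem ⟨_, hVx x⟩
  have hV1 : ∀ x, V x ≤ U x := fun x => le_trans (hVle x) inf_le_left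
  have hV2 : ∀ x, V x ≤ U' x := fun x => le_trans (hVle x) inf_le_right
  refine (GF.tmul GA).exists_section (isInvertible_tensorMod hF hA) (U := V) (T := ⊤) (fun _ => le_top)
    (fun x _ => Opens.mem_iSup.2 ⟨x, hVx x⟩) hη (mt X)
    (fun x => tmul (res F (hV1 x) (e x)) (res A (hV2 x) (e' x))) _ fun x => ?_
  have gF : IsGen (res F (hV1 x) (e x)) := (he x).res _
  have gA : IsGen (res A (hV2 x) (e' x)) := (he' x).res _
  obtain ⟨b, hb⟩ := (gF.pullSec g).exists_eq (res _ (le_top : g ⁻¹ᵁ V x ≤ ⊤) s)
  obtain ⟨c, hc⟩ := (gA.pullSec g).exists_eq (res _ (le_top : g ⁻¹ᵁ V x ≤ ⊤) w)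
  have hηZ : genericPoint Z ∈ g ⁻¹ᵁ V x := mem_preimage g (hη x)
  have h1 : (GF.pull g).val (mt Z) s =
      gg hηZ b * ff g (GF.val (hη x) (res F (hV1 x) (e x))) := by
    rw [← GenPt.val_pull, ← GenPt.val_smul, ← hb, GenPt.val_res]
  have h2 : (GA.pull g).val (mt Z) w =
      gg hηZ c * ff g (GA.val (hη x) (res A (hV2 x) (e' x))) := by
    rw [← GenPt.val_pull, ← GenPt.val_smul, ← hc, GenPt.val_res]
  obtain ⟨a, ha⟩ := exists_tr g hX (hV x) (hη x) (b * c)
  refine ⟨a, ?_⟩
  rw [h1, h2, GenPt.val_tmul, ha, map_mul (gg _), show gg hηZ b * ff g (GF.val (hη x) (res F (hV1 x) (e x))) *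
      (gg hηZ c * ff g (GA.val (hη x) (res A (hV2 x) (e' x)))) =
      ff g (GF.val (hη x) (res F (hV1 x) (e x)) * GA.val (hη x) (res A (hV2 x) (e' x))) *
        (gg hηZ b * gg hηZ c) by rw [map_mul]; ring, tr_mul]
  ring

/-- **Trace bound.**  `h⁰(Z, g^* F) ≤ N h⁰(X, F ⊗ A)` as soon as `g^* A` has `N` sections which span `K(Z)` over
`K(X)`. -/
theorem finrank_pullback_le [IsProper (X ↘ Spec (CommRingCat.of k))]
    (hg : g ≫ (X ↘ Spec (CommRingCat.of k)) = Z ↘ Spec (CommRingCat.of k))
    (hX : Pi1.IsNormalScheme X) (hs : IsSep g) {A : X.Modules} (hA : PicF.IsInvertible A) (GA : GenPt A)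
    {N : ℕ} (w : Fin N → Γ((Scheme.Modules.pullback g).obj A, ⊤))
    (hw : ∀ y : Z.functionField, ∃ c : Fin N → X.functionField,
      y = ∑ j, ff g (c j) * (GA.pull g).val (mt Z) (w j))
    {F : X.Modules} (hF : PicF.IsInvertible F) :
    Module.finrank k (Coh.HH Z ((Scheme.Modules.pullback g).obj F) 0) ≤
      N * Module.finrank k (Coh.HH X (CohB1.tensorMod F A) 0) := by
  obtain ⟨GF⟩ := exists_genPt hF
  have hFA := isInvertible_tensorMod hF hA
  choose T hT using fun (j : Fin N) (s : Γ((Scheme.Modules.pullback g).obj F, ⊤)) =>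
    exists_trace_section g hX hF hA GF GA s (w j)
  have hinj := (GF.tmul GA).val_injective hFA (mt X)
  let Φ : SecA k ((Scheme.Modules.pullback g).obj F) ⊤ →ₗ[k] (Fin N → SecA k (CohB1.tensorMod F A) ⊤) :=
    { toFun := fun s j => toSecA (T j (toSecA.symm s))
      map_add' := fun s t => by
        funext j
        apply toSecA.symm.injective
        apply hinj
        change (GF.tmul GA).val (mt X) (T j (toSecA.symm s + toSecA.symm t)) =
          (GF.tmul GA).val (mt X) (T j (toSecA.symm s) + T j (toSecA.symm t))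
        rw [hT, GenPt.val_add, GenPt.val_add, hT, hT, add_mul, map_add]
      map_smul' := fun c s => by
        funext j
        apply toSecA.symm.injective
        apply hinj
        have h1 : (GF.tmul GA).val (mt X) (T j (toSecA.symm (c • s))) =
            (GF.tmul GA).val (mt X)
              (toSecA.symm (c • (toSecA (T j (toSecA.symm s)) : SecA k (CohB1.tensorMod F A) ⊤))) := by
          rw [hT, val_smul_k, val_smul_k, ← ff_kz k g hg, mul_assoc, tr_mul, ← hT]
          rfl
        exact h1 }
  have hΦ : Function.Injective Φ := by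
    rw [injective_iff_map_eq_zero]
    intro s hs0
    apply toSecA.symm.injective
    apply (GF.pull g).val_injective (Groth.Agent.Fdesc.LocGen.isInvertible_pullback g hF) (mt Z)
    change (GF.pull g).val (mt Z) (toSecA.symm s) = (GF.pull g).val (mt Z) 0
    rw [GenPt.val_zero]
    apply eq_zero_of_tr g hs
    intro y
    obtain ⟨c, rfl⟩ := hw y
    rw [Finset.mul_sum, map_sum]
    refine Finset.sum_eq_zero fun j _ => ?_
    rw [show (GF.pull g).val (mt Z) (toSecA.symm s) *
      (ff g (c j) * (GA.pull g).val (mt Z) (w j)) = ff g (c j) *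
        ((GF.pull g).val (mt Z) (toSecA.symm s) * (GA.pull g).val (mt Z) (w j)) by ring,
      tr_mul, ← hT j (toSecA.symm s)]
    have h1 : T j (toSecA.symm s) = 0 := congrFun hs0 j
    rw [h1, GenPt.val_zero, mul_zero]
  have f1 := finite_secA k (Z := X) hFA
  have h2 := LinearMap.finrank_le_finrank_of_injective hΦ
  rw [Module.finrank_pi_fintype] at h2
  simp only [finrank_secA, Finset.sum_const, Finset.card_univ, Fintype.card_fin, smul_eq_mul] at h2
  exact h2

end K436.TraceBound
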