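import Groth.Agent.Variety.K436.VolAdd
import Groth.Agent.Variety.K436.TraceBound
import Groth.Agent.Variety.K436.PullBound
import Groth.Agent.Variety.K436.SpanSec
import Groth.Agent.Variety.K436.Frame
import Groth.Agent.Variety.K436.GalZ
import Groth.Agent.Variety.K426.LinProj

/-!
# The norm inequality

`f : Y ⟶ X` finite surjective of degree `n` between integral projective schemes of dimension `d ≥ 1` over an
algebraically closed field of characteristic zero, `X` normal: there is a class `C` on `X` with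
`n^(d-1) h⁰(Y, E) ≤ h⁰(X, N(E) ⊗ C)` for every invertible `E` on `Y`, `N(E)` the norm of `E`.
-/

set_option autoImplicit false
set_option linter.style.haveILetI false
universe u
open CategoryTheory CategoryTheory.Limits AlgebraicGeometry

namespace K436.NormIneq

open Groth.Agent Groth.Agent.Grpsch.PicGrp Groth.Agent.Fdesc.LocGen Groth.Agent.Divis.NormSheaf
open K436.VolAdd K436.GVal K436.Frame K436.SpanSec K433.Hq

/-- `N` is the norm of `E` along `f`. -/
def IsNorm {X Y : Scheme.{u}} [IsIntegral X] [IsIntegral Y] (f : Y ⟶ X) [IsFinite f] [Surjective f]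
    (E : Pic Y) (N : Pic X) : Prop :=
  ∃ (ι : Type u) (V : ι → X.Opens) (θ : ι → Y.functionField) (t : X.functionField),
    (∀ x : X, ∃ i, x ∈ V i) ∧ IsFr E (fun i => f ⁻¹ᵁ V i) θ ∧ IsFr N V (fun i => t * nm f (θ i))

theorem norm_pull {X Y Z : Scheme.{u}} [IsIntegral X] [IsIntegral Y] [IsIntegral Z] (f : Y ⟶ X) [IsFinite f]
    [Surjective f] (g : Z ⟶ X) [Surjective g] {n : ℕ} (π : Fin n → (Z ⟶ Y)) [∀ i, Surjective (π i)]
    (hπ : ∀ i, π i ≫ f = g) (hN : ∀ φ : Y.functionField, ff g (nm f φ) = ∏ i, ff (π i) φ)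
    {E : Pic Y} {N : Pic X} (h : IsNorm f E N) : pull g N = ∏ i, pull (π i) E := by
  obtain ⟨ι, V, θ, t, hV, hE, hNf⟩ := h
  have h1 := hNf.pull g
  have h2 : IsFr (∏ i, pull (π i) E) (fun j => g ⁻¹ᵁ V j) (fun j => ∏ i, ff (π i) (θ j)) := by
    refine IsFr.prod Finset.univ h1.1 fun i _ => ?_
    refine (hE.pull (π i)).congr_opens fun j => ?_
    rw [← hπ i]
    rfl
  refine (h2.unique h1 (fun z => ?_) (ff g t) fun j => ?_).symm
  · obtain ⟨i, hi⟩ := hV (g z)
    exact ⟨i, hi⟩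
  · rw [map_mul, hN]

variable (k : Type u) [Field k]

/-- Iterated Brunn--Minkowski inequality. -/
theorem bm_fin {Z : Scheme.{u}} [Z.Over (Spec (CommRingCat.of k))] [IsIntegral Z]
    [IsProper (Z ↘ Spec (CommRingCat.of k))] {d : ℕ} {μ : Pic Z}
    (hμ : ∀ c c' : Pic Z, 0 < h0 k c → 0 < h0 k c' →
      (h0 k c : ℝ) ^ (1 / (d : ℝ)) + (h0 k c' : ℝ) ^ (1 / (d : ℝ)) ≤ (h0 k (c * c' * μ) : ℝ) ^ (1 / (d : ℝ)))
    (hd1 : 1 ≤ d) (n : ℕ) (c : Fin (n + 1) → Pic Z) (hc : ∀ i, 0 < h0 k (c i)) :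
    ∑ i, (h0 k (c i) : ℝ) ^ (1 / (d : ℝ)) ≤ (h0 k ((∏ i, c i) * μ ^ n) : ℝ) ^ (1 / (d : ℝ)) ∧
      0 < h0 k ((∏ i, c i) * μ ^ n) := by
  have hd0 : (0 : ℝ) < 1 / (d : ℝ) := by
    have : (0 : ℝ) < d := by exact_mod_cast hd1
    positivity
  have pos : ∀ c c' : Pic Z, 0 < h0 k c → 0 < h0 k c' → 0 < h0 k (c * c' * μ) := by
    intro c c' h h'
    have h1 := hμ c c' h h'
    have h2 : (0 : ℝ) < (h0 k c : ℝ) ^ (1 / (d : ℝ)) := Real.rpow_pos_of_pos (by exact_mod_cast h) _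
    have h3 : (0 : ℝ) < (h0 k c' : ℝ) ^ (1 / (d : ℝ)) := Real.rpow_pos_of_pos (by exact_mod_cast h') _
    by_contra hz
    have h4 : h0 k (c * c' * μ) = 0 := by omega
    rw [h4, Nat.cast_zero, Real.zero_rpow hd0.ne'] at h1
    linarith
  induction n with
  | zero => simpa using hc 0
  | succ n ih =>
    obtain ⟨h1, h2⟩ := ih (fun i => c i.succ) (fun i => hc i.succ)
    have h3 : (∏ i, c i) * μ ^ (n + 1) = c 0 * ((∏ i : Fin (n + 1), c i.succ) * μ ^ n) * μ := by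
      rw [Fin.prod_univ_succ, pow_succ, mul_assoc, mul_assoc, mul_assoc]
    rw [h3, Fin.sum_univ_succ]
    exact ⟨(add_le_add le_rfl h1).trans (hμ _ _ (hc 0) h2), pos _ _ (hc 0) h2⟩

section Dim

variable {X Z : Scheme.{u}} [X.Over (Spec (CommRingCat.of k))] [Z.Over (Spec (CommRingCat.of k))]
  [IsIntegral X] [IsIntegral Z] [IsProper (X ↘ Spec (CommRingCat.of k))] [IsProper (Z ↘ Spec (CommRingCat.of k))]

theorem dim_eq (g : Z ⟶ X) [IsFinite g] [Surjective g]
    (hg : g ≫ (X ↘ Spec (CommRingCat.of k)) = Z ↘ Spec (CommRingCat.of k)) :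
    topologicalKrullDim Z = topologicalKrullDim X := by
  rw [VarietyB.DimSch.topologicalKrullDim_eq_trd k, VarietyB.DimSch.topologicalKrullDim_eq_trd k,
    ← K426.LinProj.trd_eq_of_quasiFinite k g hg, map_genericPoint]

end Dim

theorem charZero_functionField {X : Scheme.{u}} [X.Over (Spec (CommRingCat.of k))] [IsIntegral X] [CharZero k] :
    CharZero X.functionField :=
  charZero_of_injective_ringHom (f := KLin.kz k X) (KLin.kz k X).injective

theorem isSep {X Z : Scheme.{u}} [X.Over (Spec (CommRingCat.of k))] [IsIntegral X] [IsIntegral Z] [CharZero k]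
    (g : Z ⟶ X) [IsFinite g] [Surjective g] : TraceBound.IsSep g := by
  letI := alg g
  haveI := finite_functionField g
  haveI := charZero_functionField k (X := X)
  exact Algebra.IsAlgebraic.isSeparable_of_perfectField

/-- **The norm inequality.** -/
theorem norm_ineq [IsAlgClosed k] [CharZero k] {X Y : Scheme.{u}} [X.Over (Spec (CommRingCat.of k))]
    [Y.Over (Spec (CommRingCat.of k))] [IsIntegral X] [IsIntegral Y] [IsProper (X ↘ Spec (CommRingCat.of k))]
    [IsProper (Y ↘ Spec (CommRingCat.of k))] {A : X.Modules} (hA : CohB1.IsAmple A)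
    (hX : Pi1.IsNormalScheme X) {d : ℕ} (hd1 : 1 ≤ d) (hd : topologicalKrullDim X = d)
    (f : Y ⟶ X) (hf : f ≫ (X ↘ Spec (CommRingCat.of k)) = Y ↘ Spec (CommRingCat.of k)) [IsFinite f]
    [Surjective f] :
    ∃ C : Pic X, ∀ (E : Pic Y) (N : Pic X), IsNorm f E N →
      deg f ^ (d - 1) * h0 k E ≤ h0 k (N * C) := by
  have hqX : QuasiSeparatedSpace X := quasiSeparatedSpace_of_quasiSeparated (X ↘ Spec (CommRingCat.of k))
  obtain ⟨Z, hZ, hZq, g, hg, hgs, n, π, hπf, hπs, hn, hπ, hnorm⟩ := GalZ.exists_cover f (isSep k f)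
  have hn' : n = deg f := hn
  -- structure over `k`
  let iZ : Z.Over (Spec (CommRingCat.of k)) := ⟨g ≫ (X ↘ Spec (CommRingCat.of k))⟩
  have hgk : g ≫ (X ↘ Spec (CommRingCat.of k)) = Z ↘ Spec (CommRingCat.of k) := rfl
  have hZp : IsProper (Z ↘ Spec (CommRingCat.of k)) := by
    rw [← hgk]; infer_instance
  have hπk : ∀ i, π i ≫ (Y ↘ Spec (CommRingCat.of k)) = Z ↘ Spec (CommRingCat.of k) := fun i => by
    rw [← hf, ← Category.assoc, hπ i, hgk]
  have hdZ : topologicalKrullDim Z = d := (dim_eq k g hgk).trans hd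
  have hff : ∀ i a, ff (π i) (ff f a) = ff g a := fun i a => GalZ.ff_comp (π i) f g (hπ i) a
  -- ample classes
  have hAZ : CohB1.IsAmple ((Scheme.Modules.pullback g).obj A) := CohqB.AmpCocycle.isAmple_pullback g hA
  obtain ⟨m, -, hM, HBM⟩ := VolCore.exists_thickening k Z hAZ hd1 hdZ
  let a : Pic X := mk A hA.1
  have hμ : ∀ c c' : Pic Z, 0 < h0 k c → 0 < h0 k c' →
      (h0 k c : ℝ) ^ (1 / (d : ℝ)) + (h0 k c' : ℝ) ^ (1 / (d : ℝ)) ≤
        (h0 k (c * c' * pull g (a ^ (m * d))) : ℝ) ^ (1 / (d : ℝ)) := by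
    intro c c' hc hc'
    rw [h0_rep] at hc hc'
    have h1 := HBM (rep c) (rep c') (rep_inv c) (rep_inv c') hc hc'
    rw [← h0_rep, ← h0_rep, ← h0_mk k (isInvertible_tensorMod (isInvertible_tensorMod (rep_inv c) (rep_inv c')) hM),
      ← mk_mul_mk (isInvertible_tensorMod (rep_inv c) (rep_inv c')) hM, ← mk_mul_mk (rep_inv c) (rep_inv c'),
      mk_rep, mk_rep, mk_tensorPow (isInvertible_tensorPow hAZ.1 m) d, mk_tensorPow hAZ.1 m, ← pull_mk g hA.1,
      ← pow_mul, ← map_pow] at h1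
    exact h1
  -- sections forming a basis
  obtain ⟨n₁, hn₁⟩ := exists_basis_sections g hA
  obtain ⟨w, hw⟩ := hn₁ n₁ le_rfl
  have hAn : PicF.IsInvertible (CohB1.tensorPow A n₁) := isInvertible_tensorPow hA.1 n₁
  have hmkAn : mk (CohB1.tensorPow A n₁) hAn = a ^ n₁ := mk_tensorPow hA.1 n₁
  obtain ⟨GA⟩ := exists_genPt hAn
  -- upper bound
  have up : ∀ F : Pic X, h0 k (pull g F) ≤ deg g * h0 k (F * a ^ n₁) := by
    intro F
    have h1 := TraceBound.finrank_pullback_le g hgk hX (isSep k g) hAn GA w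
      (exists_coeff g _ (hw (GA.pull g))) (rep_inv F)
    rw [← h0_mk k (isInvertible_pullback g (rep_inv F)), ← h0_mk k (isInvertible_tensorMod (rep_inv F) hAn),
      ← mk_mul_mk (rep_inv F) hAn, mk_rep, hmkAn, ← pull_mk g (rep_inv F), mk_rep] at h1
    exact h1
  -- lower bound
  have low : ∀ (i : Fin n) (E : Pic Y), deg (π i) * h0 k E ≤ h0 k (pull (π i) E * pull g (a ^ n₁)) := by
    intro i E
    obtain ⟨p, hp⟩ := exists_indep g (π i) f (hff i) _ (hw (GA.pull g))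
    have h1 := PullBound.mul_finrank_le (π i) (hπk i) (isInvertible_pullback g hAn) (GA.pull g)
      (fun j => w (p j)) hp (rep_inv E)
    rw [← h0_mk k (rep_inv E), ← h0_mk k (isInvertible_tensorMod (isInvertible_pullback (π i) (rep_inv E))
      (isInvertible_pullback g hAn)), ← mk_mul_mk (isInvertible_pullback (π i) (rep_inv E))
      (isInvertible_pullback g hAn), ← pull_mk g hAn, ← pull_mk (π i) (rep_inv E), mk_rep, hmkAn] at h1
    exact h1
  have hdeg : ∀ i, deg f * deg (π i) = deg g := fun i => deg_mul g (π i) f (hff i)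
  have hnpos : 0 < n := by rw [hn']; exact deg_pos f
  obtain ⟨n', rfl⟩ := Nat.exists_eq_succ_of_ne_zero hnpos.ne'
  have hd0 : (0 : ℝ) < 1 / (d : ℝ) := by
    have : (0 : ℝ) < d := by exact_mod_cast hd1
    positivity
  refine ⟨a ^ (n₁ * (n' + 1)) * a ^ (m * d * n') * a ^ n₁, fun E N hEN => ?_⟩
  rcases Nat.eq_zero_or_pos (h0 k E) with hE0 | hE0
  · rw [hE0, mul_zero]; exact Nat.zero_le _
  set r := deg (π 0) with hr
  have hrpos : 0 < r := deg_pos (π 0)
  have hri : ∀ i, deg (π i) = r := fun i => Nat.eq_of_mul_eq_mul_left (deg_pos f) ((hdeg i).trans (hdeg 0).symm)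
  let c : Fin (n' + 1) → Pic Z := fun i => pull (π i) E * pull g (a ^ n₁)
  have hc : ∀ i, r * h0 k E ≤ h0 k (c i) := fun i => by rw [← hri i]; exact low i E
  have hcpos : ∀ i, 0 < h0 k (c i) := fun i => lt_of_lt_of_le (Nat.mul_pos hrpos hE0) (hc i)
  obtain ⟨h1, -⟩ := bm_fin k hμ hd1 n' c hcpos
  have h2 : (∏ i, c i) * pull g (a ^ (m * d)) ^ n' = pull g (N * (a ^ (n₁ * (n' + 1)) * a ^ (m * d * n'))) := by
    rw [map_mul, map_mul, norm_pull f g π hπ hnorm hEN, Finset.prod_mul_distrib]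
    simp only [Finset.prod_const, Finset.card_univ, Fintype.card_fin, ← map_pow, ← pow_mul]
    rw [mul_assoc]
  rw [h2] at h1
  have h3 := up (N * (a ^ (n₁ * (n' + 1)) * a ^ (m * d * n')))
  have h4 : ((n' + 1 : ℕ) : ℝ) * ((r * h0 k E : ℕ) : ℝ) ^ (1 / (d : ℝ)) ≤
      ((deg g * h0 k (N * (a ^ (n₁ * (n' + 1)) * a ^ (m * d * n')) * a ^ n₁) : ℕ) : ℝ) ^ (1 / (d : ℝ)) := by
    refine le_trans ?_ (h1.trans (Real.rpow_le_rpow (Nat.cast_nonneg _) (by exact_mod_cast h3) hd0.le))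
    rw [← nsmul_eq_mul]
    have h5 : (n' + 1) • (((r * h0 k E : ℕ) : ℝ) ^ (1 / (d : ℝ))) =
        ∑ _i : Fin (n' + 1), (((r * h0 k E : ℕ) : ℝ) ^ (1 / (d : ℝ))) := by simp
    rw [h5]
    exact Finset.sum_le_sum fun i _ => Real.rpow_le_rpow (Nat.cast_nonneg _) (by exact_mod_cast hc i) hd0.le
  have h6 : (n' + 1) ^ d * (r * h0 k E) ≤
      deg g * h0 k (N * (a ^ (n₁ * (n' + 1)) * a ^ (m * d * n')) * a ^ n₁) := by
    have h7 := pow_le_pow_left₀ (by positivity) h4 d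
    have hroot : ∀ x : ℕ, (((x : ℝ) ^ (1 / (d : ℝ))) ^ d : ℝ) = x := by
      intro x
      rw [← Real.rpow_natCast, ← Real.rpow_mul (Nat.cast_nonneg x)]
      have : 1 / (d : ℝ) * (d : ℝ) = 1 := by
        have : (d : ℝ) ≠ 0 := by exact_mod_cast (by omega : d ≠ 0)
        field_simp
      rw [this, Real.rpow_one]
    rw [mul_pow, hroot, hroot] at h7
    exact_mod_cast h7
  have h8 : deg g = (n' + 1) * r := by rw [← hdeg 0, ← hn']
  have h9 : (n' + 1) ^ d = (n' + 1) * (n' + 1) ^ (d - 1) := by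
    rw [← pow_succ', Nat.sub_add_cancel hd1]
  rw [h8, h9] at h6
  have h10 : 0 < (n' + 1) * r := Nat.mul_pos (Nat.succ_pos _) hrpos
  rw [← hn']
  refine (Nat.mul_le_mul_left_iff h10).1 ?_
  rw [mul_assoc] at h6
  calc (n' + 1) * r * ((n' + 1) ^ (d - 1) * h0 k E) = (n' + 1) * ((n' + 1) ^ (d - 1) * (r * h0 k E)) := by ring
    _ ≤ (n' + 1) * r * h0 k (N * (a ^ (n₁ * (n' + 1)) * a ^ (m * d * n')) * a ^ n₁) := h6
    _ = (n' + 1) * r * h0 k (N * (a ^ (n₁ * (n' + 1)) * a ^ (m * d * n') * a ^ n₁)) := by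
        rw [mul_assoc N]

end K436.NormIneq
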