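import Groth.Agent.Variety.K436.NumPos
import Groth.Agent.Pic13.H967.DegBaseChange

/-!
# Descent of numerical triviality along field extensions
-/

set_option autoImplicit false
universe u
open CategoryTheory CategoryTheory.Limits AlgebraicGeometry

namespace K436.NumDesc

open Groth.Agent Groth.Agent.Grpsch.PicGrp Groth.Agent.Fdesc.LocGen Groth.Agent.Pic13.H945.DegAmple

/-- Numerically trivial modules have degree zero on every proper curve, reduced or not. -/
theorem curveDeg_eq_zero {k : Type u} [Field k] {X : Scheme.{u}} [X.Over (Spec (CommRingCat.of k))]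
    [IsProper (X ↘ Spec (CommRingCat.of k))] {A : X.Modules} (hA : CohB1.IsAmple A) {L : X.Modules}
    (hL : PicF.IsInvertible L) (h : Pic13.IsNumEquivZero k X L) {Y : Scheme.{u}} (i : Y ⟶ X) [IsClosedImmersion i]
    (hd : topologicalKrullDim Y ≤ 1) :
    Pic13.curveDeg k (i ≫ (X ↘ Spec (CommRingCat.of k))) ((Scheme.Modules.pullback i).obj L) = 0 := by
  let iY : Y.Over (Spec (CommRingCat.of k)) := ⟨i ≫ (X ↘ Spec (CommRingCat.of k))⟩
  have hp : IsProper (Y ↘ Spec (CommRingCat.of k)) := inferInstanceAs (IsProper (i ≫ (X ↘ Spec (CommRingCat.of k))))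
  have hAY : CohB1.IsAmple ((Scheme.Modules.pullback i).obj A) := CohqB.AmpCocycle.isAmple_pullback i hA
  have hLY := isInvertible_pullback i hL
  have hnum : Pic13.IsNumEquivZero k Y ((Scheme.Modules.pullback i).obj L) := by
    rw [isNumEquivZero_iff_mem k Y hLY]
    intro Z j _ hZ hZd
    have h1 := (isNumEquivZero_iff_mem k X hL).1 h
    have h2 := h1 Z (j ≫ i) hZ hZd
    rw [pull_comp, pull_mk i hL, Category.assoc] at h2
    exact h2
  have hchi := (Pic13.H11.Core.good (k := k) hAY (Coh.structureModule Y)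
    (Fdesc.StructMod.isCoh_structureModule Y)).chi _ hLY hnum
  have hY := Fga.HypSec.isNoetherian k Y
  have h3 : ∀ M : Y.Modules, FGA.eulerCharLE k Y M 1 = Curv2.euler k Y M := fun M =>
    Groth.Agent.Fga.EulerLEAdd.eulerCharLE_eq_euler k Y 1 hd M
  obtain ⟨e⟩ := (mk_eq_iff (isInvertible_tensorMod isInvertible_structureModule hLY) hLY).1
    (by rw [← mk_mul_mk isInvertible_structureModule hLY, ← one_def, one_mul])
  change FGA.eulerCharLE k Y ((Scheme.Modules.pullback i).obj L) 1 -
    FGA.eulerCharLE k Y (Coh.structureModule Y) 1 = 0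
  rw [h3, h3, ← hchi, Groth.Agent.Fga.HodgePush.euler_congr k Y e, sub_self]

/-- Numerical triviality descends along field extensions. -/
theorem isNumEquivZero_descend (k : Type u) [Field k] (X : Scheme.{u}) [X.Over (Spec (CommRingCat.of k))]
    [IsProper (X ↘ Spec (CommRingCat.of k))] (k' : Type u) [Field k'] (X' : Scheme.{u})
    [X'.Over (Spec (CommRingCat.of k'))] [IsProper (X' ↘ Spec (CommRingCat.of k'))]
    (g : X' ⟶ X) (s : Spec (CommRingCat.of k') ⟶ Spec (CommRingCat.of k))
    (hpb : IsPullback g (X' ↘ Spec (CommRingCat.of k')) (X ↘ Spec (CommRingCat.of k)) s)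
    {A : X'.Modules} (hA : CohB1.IsAmple A) {L : X.Modules} (hL : PicF.IsInvertible L)
    (h : Pic13.IsNumEquivZero k' X' ((Scheme.Modules.pullback g).obj L)) : Pic13.IsNumEquivZero k X L := by
  intro Y i _ hY hdim
  obtain ⟨Y', i', g', h1, h2, h3, h4, h5⟩ := Pic13.H967.DegBaseChange.exists_curve k X k' X' g s hpb i
  rw [← h5 L (Ega2.QCohLocal.isQCoh_of_isInvertible hL)]
  exact curveDeg_eq_zero hA (isInvertible_pullback g hL) h i' (h4.trans hdim).le

end K436.NumDesc
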