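import Mathlib.Analysis.Normed.Module.FiniteDimension
import Mathlib.Topology.MetricSpace.HausdorffDistance
import Mathlib.Topology.Algebra.Module.ModuleTopology
import Mathlib.LinearAlgebra.FreeModule.Finite.Basic

/-!
# Intersections `K ∩ (x - K)` for a closed salient cone `K`
-/

set_option autoImplicit false

open Metric Topology

namespace K436.PsefTop

/-- Normed version. -/
theorem isCompact_normed {E : Type*} [NormedAddCommGroup E] [NormedSpace ℝ E] [FiniteDimensional ℝ E] {K : Set E}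
    (hK : IsClosed K) (hsmul : ∀ r : ℝ, 0 < r → ∀ y ∈ K, r • y ∈ K) (hs : ∀ y, y ∈ K → -y ∈ K → y = 0) (x : E) :
    IsCompact {y : E | y ∈ K ∧ x - y ∈ K} := by
  have : ProperSpace E := FiniteDimensional.proper_real E
  have hcl : IsClosed {y : E | y ∈ K ∧ x - y ∈ K} :=
    hK.inter (hK.preimage (continuous_const.sub continuous_id))
  refine Metric.isCompact_of_isClosed_isBounded hcl ?_
  by_cases hne : (K ∩ sphere (0 : E) 1).Nonempty
  · have hcomp : IsCompact (K ∩ sphere (0 : E) 1) := (isCompact_sphere (0 : E) 1).inter_left hK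
    obtain ⟨u₀, hu₀, hmin⟩ := hcomp.exists_isMinOn hne
      ((continuous_infDist_pt K).comp continuous_neg).continuousOn
    have hKne : K.Nonempty := ⟨u₀, hu₀.1⟩
    have hm : 0 < infDist (-u₀) K := by
      rw [← hK.notMem_iff_infDist_pos hKne]
      intro h
      have h1 := hs u₀ hu₀.1 h
      have h2 : ‖u₀‖ = 1 := by simpa using hu₀.2
      rw [h1, norm_zero] at h2
      exact zero_ne_one h2
    refine (isBounded_iff_forall_norm_le (E := E)).2 ⟨‖x‖ / infDist (-u₀) K, fun y hy => ?_⟩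
    by_cases hy0 : y = 0
    · subst hy0
      rw [norm_zero]
      positivity
    have hn : 0 < ‖y‖ := norm_pos_iff.2 hy0
    have hu : ‖y‖⁻¹ • y ∈ K ∩ sphere (0 : E) 1 := by
      refine ⟨hsmul _ (inv_pos.2 hn) _ hy.1, ?_⟩
      rw [mem_sphere_zero_iff_norm, norm_smul, norm_inv, norm_norm, inv_mul_cancel₀ hn.ne']
    have h1 : infDist (-u₀) K ≤ infDist (-(‖y‖⁻¹ • y)) K := hmin hu
    have h2 : ‖y‖⁻¹ • (x - y) ∈ K := hsmul _ (inv_pos.2 hn) _ hy.2
    have h3 : infDist (-(‖y‖⁻¹ • y)) K ≤ ‖x‖ / ‖y‖ := by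
      refine (infDist_le_dist_of_mem h2).trans (le_of_eq ?_)
      rw [dist_eq_norm, smul_sub, neg_sub_left, sub_add_cancel, norm_neg, norm_smul, norm_inv, norm_norm,
        div_eq_inv_mul]
    rw [le_div_iff₀ hm, mul_comm, ← le_div_iff₀ hn]
    exact h1.trans h3
  · refine (isBounded_iff_forall_norm_le (E := E)).2 ⟨0, fun y hy => ?_⟩
    by_contra hy0
    have hn : 0 < ‖y‖ := by
      rcases (norm_nonneg y).lt_or_eq with h | h
      · exact h
      · exact absurd h.symm.le hy0
    refine hne ⟨‖y‖⁻¹ • y, hsmul _ (inv_pos.2 hn) _ hy.1, ?_⟩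
    rw [mem_sphere_zero_iff_norm, norm_smul, norm_inv, norm_norm, inv_mul_cancel₀ hn.ne']

/-- Version for real vector spaces with the module topology. -/
theorem isCompact_of_salient {V : Type*} [AddCommGroup V] [Module ℝ V] [TopologicalSpace V] [IsModuleTopology ℝ V]
    [Module.Finite ℝ V] {K : Set V} (hK : IsClosed K) (hsmul : ∀ r : ℝ, 0 < r → ∀ y ∈ K, r • y ∈ K)
    (hs : ∀ y, y ∈ K → -y ∈ K → y = 0) (x : V) : IsCompact {y : V | y ∈ K ∧ x - y ∈ K} := by
  have := IsModuleTopology.toContinuousAdd ℝ V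
  have := IsModuleTopology.toContinuousSMul ℝ V
  let b := Module.finBasis ℝ V
  let e : V ≃ₗ[ℝ] (Fin (Module.finrank ℝ V) → ℝ) := b.equivFun
  have h1 : Continuous e := IsModuleTopology.continuous_of_linearMap e.toLinearMap
  have h2 : Continuous e.symm := IsModuleTopology.continuous_of_linearMap e.symm.toLinearMap
  have h3 : IsClosed (e.symm ⁻¹' K) := hK.preimage h2
  have h4 := isCompact_normed (K := e.symm ⁻¹' K) h3
    (fun r hr y hy => by
      change e.symm (r • y) ∈ K
      rw [map_smul]; exact hsmul r hr _ hy)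
    (fun y hy hy' => by
      have : e.symm y = 0 := hs _ hy (by
        change e.symm (-y) ∈ K at hy'
        rwa [map_neg] at hy')
      exact (LinearEquiv.map_eq_zero_iff _).1 this) (e x)
  have h5 := h4.image h2
  convert h5 using 1
  ext y
  constructor
  · rintro ⟨hy, hy'⟩
    refine ⟨e y, ⟨?_, ?_⟩, e.symm_apply_apply y⟩
    · change e.symm (e y) ∈ K
      rwa [e.symm_apply_apply]
    · change e.symm (e x - e y) ∈ K
      rwa [← map_sub, e.symm_apply_apply]
  · rintro ⟨z, ⟨hz, hz'⟩, rfl⟩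
    refine ⟨hz, ?_⟩
    change e.symm (e x - z) ∈ K at hz'
    rwa [map_sub, e.symm_apply_apply] at hz'

end K436.PsefTop
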