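import Groth.Agent.Surf.K465.ClP
import Groth.Agent.PosLin.K931.Cones
import Groth.Agent.Pic13.H945.DegAmple
import Groth.Agent.Variety.K436.PsefTop
import Mathlib.RingTheory.Flat.TorsionFree

/-!
# Linear functionals on `N¹(X)_ℝ` from additive functions on the Picard group
-/

set_option autoImplicit false
universe u
open CategoryTheory CategoryTheory.Limits AlgebraicGeometry
open scoped TensorProduct

namespace K436.PsefLin

open Groth.Agent.Grpsch.PicGrp Groth.Agent K465.ClP K931.Cones K931.Eff K931.ConeAbs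
open Groth.Agent.Pic13.H945.DegAmple

variable (k : Type u) [Field k] (X : Scheme.{u}) [X.Over (Spec (CommRingCat.of k))] [PicGrp.Law X]

/-- The numerical class. -/
noncomputable def q : Additive (Pic X) →+ NumR.N1 k X := (NumR.toN1 k X).comp (toSet X).toAdditive

variable {k X}

theorem q_mk {L : X.Modules} (hL : PicF.IsInvertible L) : q k X (Additive.ofMul (mk L hL)) = NumR.cl k X L hL := rfl

theorem q_surjective : Function.Surjective (q k X) := by
  intro x
  obtain ⟨L, hL, rfl⟩ := NumR.exists_eq_cl x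
  exact ⟨_, q_mk hL⟩

theorem nu_eq (c : Pic X) : nu k X c = NumR.toN1R k X (q k X (Additive.ofMul c)) := by
  obtain ⟨L, hL, rfl⟩ := exists_mk c
  rw [nu_mk]
  rfl

variable [IsProper (X ↘ Spec (CommRingCat.of k))]

theorem q_eq_zero_iff (a : Pic X) : q k X (Additive.ofMul a) = 0 ↔ a ∈ num0 k X := by
  constructor
  · intro h
    have h1 : toSet X a ∈ PicGrp.subCl (Y := X) (Pic13.IsNumEquivZero k X) :=
      (QuotientGroup.eq_one_iff _).mp h
    have h2 : PicGrp.subCl (Y := X) (Pic13.IsNumEquivZero k X) ≤ (num0 k X).map (toSet X) := by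
      refine (Subgroup.closure_le _).mpr ?_
      rintro _ ⟨L, hL, hnum, rfl⟩
      exact ⟨mk L hL, hnum, toSet_mk hL⟩
    obtain ⟨a', ha', h3⟩ := h2 h1
    rw [← toSet_injective X h3]
    exact ha'
  · intro h
    obtain ⟨L, hL, rfl⟩ := exists_mk a
    rw [q_mk]
    exact NumR.cl_eq_zero hL h

/-- The additive function on `N¹(X)` induced by an additive function on the Picard group which kills the numerically
trivial classes. -/
theorem exists_lift₀ (φ : Additive (Pic X) →+ ℤ) (hφ : ∀ a ∈ num0 k X, φ (Additive.ofMul a) = 0) :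
    ∃ ψ : NumR.N1 k X →+ ℤ, ∀ a, ψ (q k X a) = φ a := by
  have hker : (q k X).ker ≤ φ.ker := by
    intro a ha
    exact hφ a.toMul ((q_eq_zero_iff a.toMul).1 ha)
  refine ⟨(q k X).liftOfSurjective q_surjective ⟨φ, hker⟩, fun a => ?_⟩
  exact AddMonoidHom.liftOfRightInverse_comp_apply _ _ _ _ _

/-- The linear functional on `N¹(X)_ℝ` of an additive function on `N¹(X)`. -/
noncomputable def real (ψ : NumR.N1 k X →+ ℤ) : NumR.N1R k X →ₗ[ℝ] ℝ :=
  TensorProduct.AlgebraTensorModule.lift
    ((LinearMap.toSpanSingleton ℝ (NumR.N1 k X →ₗ[ℤ] ℝ)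
      ((Int.castAddHom ℝ).comp ψ).toIntLinearMap))

omit [IsProper (X ↘ Spec (CommRingCat.of k))] in
theorem real_tmul (ψ : NumR.N1 k X →+ ℤ) (r : ℝ) (y : NumR.N1 k X) :
    real ψ (r ⊗ₜ[ℤ] y : ℝ ⊗[ℤ] NumR.N1 k X) = r * (ψ y : ℝ) := by
  rfl

omit [IsProper (X ↘ Spec (CommRingCat.of k))] in
theorem real_nu (ψ : NumR.N1 k X →+ ℤ) (c : Pic X) : real ψ (nu k X c) = (ψ (q k X (Additive.ofMul c)) : ℝ) := by
  rw [nu_eq, NumR.toN1R_apply]
  exact (real_tmul ψ 1 _).trans (one_mul _)

omit [IsProper (X ↘ Spec (CommRingCat.of k))] in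
/-- Finitely many additive functions with trivial joint kernel on `N¹(X)` have trivial joint kernel on `N¹(X)_ℝ`. -/
theorem eq_zero_of_real {n : ℕ} (ψ : Fin n → (NumR.N1 k X →+ ℤ)) (hψ : ∀ a, (∀ i, ψ i a = 0) → a = 0)
    (x : NumR.N1R k X) (hx : ∀ i, real (ψ i) x = 0) : x = 0 := by
  let Φ : NumR.N1 k X →ₗ[ℤ] (Fin n → ℤ) := LinearMap.pi fun i => (ψ i).toIntLinearMap
  have hΦ : Function.Injective Φ := by
    rw [← LinearMap.ker_eq_bot, LinearMap.ker_eq_bot']
    intro a ha
    exact hψ a fun i => congrFun ha i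
  have hT : Function.Injective (LinearMap.lTensor ℝ Φ) :=
    Module.Flat.lTensor_preserves_injective_linearMap Φ hΦ
  have key : ∀ (y : ℝ ⊗[ℤ] NumR.N1 k X) (i : Fin n),
      TensorProduct.piScalarRight ℤ ℝ ℝ (Fin n) (LinearMap.lTensor ℝ Φ y) i = real (ψ i) y := by
    intro y i
    induction y using TensorProduct.induction_on with
    | zero => rw [map_zero, map_zero]; exact (map_zero (real (ψ i))).symm
    | tmul r a =>
      rw [real_tmul, LinearMap.lTensor_tmul, TensorProduct.piScalarRight_apply,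
        TensorProduct.piScalarRightHom_tmul]
      change (ψ i a) • r = _
      rw [zsmul_eq_mul, mul_comm]
    | add y z hy hz =>
      rw [map_add, map_add, Pi.add_apply, hy, hz]
      exact (map_add (real (ψ i)) y z).symm
  have h0 : LinearMap.lTensor ℝ Φ (show ℝ ⊗[ℤ] NumR.N1 k X from x) = 0 := by
    apply (TensorProduct.piScalarRight ℤ ℝ ℝ (Fin n)).injective
    rw [map_zero]
    funext i
    exact (key x i).trans (hx i)
  exact hT (h0.trans (map_zero _).symm)

omit [IsProper (X ↘ Spec (CommRingCat.of k))] in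
/-- A functional which is nonnegative on effective classes is nonnegative on pseudo-effective ones. -/
theorem real_nonneg (ψ : NumR.N1 k X →+ ℤ) (hψ : ∀ c : Pic X, Eff c → 0 ≤ ψ (q k X (Additive.ofMul c)))
    {x : NumR.N1R k X} (hx : x ∈ NumR.psefCone k X) : 0 ≤ real ψ x := by
  have hcont : Continuous (real ψ) := IsModuleTopology.continuous_of_linearMap (real ψ)
  have h1 : (NumR.effCone k X : Set (NumR.N1R k X)) ⊆ {y | 0 ≤ real ψ y} := by
    rw [effCone_eq]
    let P : ConvexCone ℝ (NumR.N1R k X) :=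
      { carrier := {y | 0 ≤ real ψ y}
        smul_mem' := fun r hr y hy => by
          change 0 ≤ real ψ (r • y)
          rw [map_smul]
          exact mul_nonneg hr.le hy
        add_mem' := fun {y} hy {z} hz => by
          change 0 ≤ real ψ (y + z)
          rw [map_add]
          exact add_nonneg hy hz }
    refine ConvexCone.hull_min (C := P) ?_
    rintro _ ⟨c, hc, rfl⟩
    change 0 ≤ real ψ (nu k X c)
    rw [real_nu]
    exact_mod_cast hψ c hc
  exact closure_minimal h1 (isClosed_le continuous_const hcont) hx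

omit [IsProper (X ↘ Spec (CommRingCat.of k))] in
theorem psef_smul {r : ℝ} (hr : 0 < r) {x : NumR.N1R k X} (hx : x ∈ NumR.psefCone k X) :
    r • x ∈ NumR.psefCone k X := by
  have h : Continuous fun y : NumR.N1R k X => r • y := continuous_const_smul r
  refine closure_minimal (s := (NumR.effCone k X : Set (NumR.N1R k X))) (t := (fun y => r • y) ⁻¹' NumR.psefCone k X)
    (fun y hy => ?_) (isClosed_closure.preimage h) hx
  exact subset_closure ((NumR.effCone k X).smul_mem hr hy)

omit [IsProper (X ↘ Spec (CommRingCat.of k))] in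
/-- **Criterion**: compactness of the sections of the pseudo-effective cone. -/
theorem isCompact_of_salient [Module.Finite ℝ (NumR.N1R k X)]
    (hs : ∀ y, y ∈ NumR.psefCone k X → -y ∈ NumR.psefCone k X → y = 0) (δ : NumR.N1R k X) :
    IsCompact {δ' : NumR.N1R k X | δ' ∈ NumR.psefCone k X ∧ δ - δ' ∈ NumR.psefCone k X} :=
  K436.PsefTop.isCompact_of_salient isClosed_closure (fun _ hr _ hy => psef_smul hr hy) hs δ

end K436.PsefLin
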