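import Groth.Agent.Variety.K436.NumDesc
import Groth.Agent.Variety.K436.PsefLin
import Groth.Agent.Variety.K436.GeomBC
import Groth.Agent.AbVar.K518.IntPos
import Groth.Agent.AbVar.K516.DegForm
import Groth.Agent.Pic13.H967.IntBaseChange
import Groth.Agent.S4290

/-!
# Intersection numbers and salience of the pseudo-effective cone
-/

set_option autoImplicit false
universe u
open CategoryTheory CategoryTheory.Limits AlgebraicGeometry

namespace K436.PsefGeo

open Groth.Agent Groth.Agent.Grpsch.PicGrp Groth.Agent.Fdesc.LocGen Groth.Agent.Pic13.H945.DegAmple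
open Groth.Agent.Pic13.H970.IntForm Groth.Agent.Fga.PicMon K516.DegForm K931.Eff

variable (k : Type u) [Field k] {X : Scheme.{u}} [X.Over (Spec (CommRingCat.of k))]
  [IsProper (X ↘ Spec (CommRingCat.of k))]

/-- Numerically trivial classes have intersection number zero with everything. -/
theorem I_cons_num {A : X.Modules} (hA : CohB1.IsAmple A) (d : ℕ) (hd : topologicalKrullDim X ≤ d) {a : Pic X}
    (ha : a ∈ num0 k X) {r : ℕ} (c : Fin r → Pic X) :
    I k X d (Coh.structureModule X) (Fin.cons a c : Fin (r + 1) → Pic X) = 0 := by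
  apply I_cons_eq_zero_of_chi
  intro x
  obtain ⟨N, hN, rfl⟩ := exists_mk a
  obtain ⟨M, hM, rfl⟩ := exists_mk x
  have hX := Fga.HypSec.isNoetherian k X
  rw [toMC_mk, toMC_mk, ← mc_tensor, chiCl_mc, chiCl_mc, Groth.Agent.Fga.EulerLEAdd.eulerCharLE_eq_euler k X d hd,
    Groth.Agent.Fga.EulerLEAdd.eulerCharLE_eq_euler k X d hd]
  have hMO := isInvertible_tensorMod hM (isInvertible_structureModule (X := X))
  have hNM := isInvertible_tensorMod hN hM
  have hchi := (Pic13.H11.Core.good (k := k) hA _ (Fga.HodgeSec.isCoh_of_isInvertible hMO)).chi N hN ha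
  rw [← hchi]
  obtain ⟨e⟩ := (mk_eq_iff (isInvertible_tensorMod hNM (isInvertible_structureModule (X := X)))
    (isInvertible_tensorMod hMO hN)).1 (by
      rw [← mk_mul_mk hNM isInvertible_structureModule, ← mk_mul_mk hMO hN, ← mk_mul_mk hN hM,
        ← mk_mul_mk hM isInvertible_structureModule, ← one_def]
      ac_rfl)
  exact Groth.Agent.Fga.HodgePush.euler_congr k X e

/-- Effective classes have nonnegative intersection number with ample classes. -/
theorem JO_eff_nonneg [IsIntegral X] {r : ℕ} (hr : topologicalKrullDim X = ((r + 1 : ℕ) : WithBot ℕ∞)) {c : Pic X}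
    (hc : Eff c) (L : Fin r → X.Modules) (hL : ∀ i, CohB1.IsAmple (L i)) :
    0 ≤ JO k X (r + 1) hr.le (Fin.cons (Additive.ofMul c) (fun i => Additive.ofMul (mk (L i) (hL i).1)) :
      Fin (r + 1) → Additive (Pic X)) := by
  have h1 : (fun i => ((Fin.cons (Additive.ofMul c) (fun i => Additive.ofMul (mk (L i) (hL i).1)) :
      Fin (r + 1) → Additive (Pic X)) i).toMul⁻¹) =
      (Fin.cons c⁻¹ (fun i => (mk (L i) (hL i).1)⁻¹) : Fin (r + 1) → Pic X) := by
    funext i
    cases i using Fin.cases with
    | zero => rfl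
    | succ i => rfl
  rw [JO_apply, h1]
  obtain ⟨M, hM, rfl, s, hs⟩ := hc
  by_cases hiso : IsIso s
  · have h2 : mk M hM = 1 := by
      rw [one_def, mk_eq_iff]
      exact ⟨(asIso s).symm⟩
    rw [h2, inv_one, I_cons_one]
  · exact (K518.IntPos.I_pos_of_isPos k X hr (K518.Sec.isPos_mk hM s hs hiso) L hL (fun i => (hL i).1)).le

end K436.PsefGeo
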