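import Groth.Agent.Variety.K436.PsefGeo
import Groth.Agent.CurvesB.DimOneTop
import Groth.Agent.Pic13.H138.AlgEquiv

/-!
# The kernel of the intersection pairing
-/

set_option autoImplicit false
universe u
open CategoryTheory CategoryTheory.Limits AlgebraicGeometry

namespace K436.PsefGeo

open Groth.Agent Groth.Agent.Grpsch.PicGrp Groth.Agent.Fdesc.LocGen Groth.Agent.Pic13.H945.DegAmple
open Groth.Agent.Pic13.H970.IntForm Groth.Agent.Fga.PicMon K516.DegForm K931.Eff

/-- A closed immersion of an integral curve into an irreducible curve is surjective. -/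
theorem surjective_of_dim {C P : Scheme.{u}} (i : C ⟶ P) [IsClosedImmersion i] [IrreducibleSpace P]
    (hC : topologicalKrullDim C = 1) (hP : topologicalKrullDim P = 1) : Surjective i := by
  obtain ⟨⟨x, y, hxy, hne⟩, -⟩ := CurvesB.DimOneTop.topologicalKrullDim_eq_one_iff.1 hC
  obtain ⟨-, h2⟩ := CurvesB.DimOneTop.topologicalKrullDim_eq_one_iff.1 hP
  have h3 : ∀ z, z ⤳ i x → z = i x := by
    refine (h2 (i x)).resolve_left fun h => hne ?_
    exact i.isClosedEmbedding.injective (h _ (hxy.map i.continuous))
  have h4 : genericPoint P = i x := h3 _ ((genericPoint_spec P).specializes trivial)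
  refine ⟨Set.range_eq_univ.1 (Set.eq_univ_of_univ_subset ?_)⟩
  rw [← (genericPoint_spec P).def, h4]
  exact closure_minimal (by rintro _ rfl; exact ⟨x, rfl⟩) i.isClosedEmbedding.isClosed_range

variable (k : Type u) [Field k] {X : Scheme.{u}} [X.Over (Spec (CommRingCat.of k))]
  [IsProper (X ↘ Spec (CommRingCat.of k))]

/-- On a curve a class of intersection number zero is numerically trivial. -/
theorem mem_num0_curve [IsIntegral X] (hdim : topologicalKrullDim X = 1) (a : Pic X)
    (h : I k X 1 (Coh.structureModule X) (Fin.cons a⁻¹ (Fin.elim0 : Fin 0 → Pic X) : Fin 1 → Pic X) = 0) :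
    a ∈ num0 k X := by
  have hX := Fga.HypSec.isNoetherian k X
  have hd : topologicalKrullDim X ≤ (1 : ℕ) := by rw [hdim]; rfl
  have h1 : I k X 1 (Coh.structureModule X) (Fin.cons a (Fin.elim0 : Fin 0 → Pic X) : Fin 1 → Pic X) = 0 := by
    have h2 := I_cons_inv k X 1 hd (Coh.structureModule X) (Fdesc.StructMod.isCoh_structureModule X) a
      (Fin.elim0 : Fin 0 → Pic X) ((dim_support_unit X).trans_le hd)
    rw [h] at h2
    omega
  obtain ⟨L, hL, rfl⟩ := exists_mk a
  have h3 : FGA.eulerCharLE k X L 1 = FGA.eulerCharLE k X (Coh.structureModule X) 1 := by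
    rw [I_cons_mk, I, I] at h1
    have h4 : ∀ φ : MC X → ℤ, Groth.Agent.Fga.AltSum.dSum φ (fun i => toMC X ((Fin.elim0 : Fin 0 → Pic X) i)) = φ 1 := by
      intro φ
      unfold Groth.Agent.Fga.AltSum.dSum
      simp [Finset.eq_empty_of_isEmpty]
    rw [h4, h4, chiCl_one, chiCl_one] at h1
    have h5 : FGA.eulerCharLE k X (CohB1.tensorMod L (Coh.structureModule X)) 1 = FGA.eulerCharLE k X L 1 := by
      obtain ⟨e⟩ := (mk_eq_iff (isInvertible_tensorMod hL isInvertible_structureModule) hL).1
        (by rw [← mk_mul_mk hL isInvertible_structureModule, ← Groth.Agent.Grpsch.PicGrp.one_def, mul_one])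
      exact euler_iso k X e 1
    rw [h5] at h1
    omega
  change Pic13.IsNumEquivZero k X L
  intro Y i _ hY hYd
  have hsur := surjective_of_dim i hYd hdim
  have hiso : IsIso i := isIso_of_isClosedImmersion_of_surjective i
  have hpb : IsPullback i (i ≫ (X ↘ Spec (CommRingCat.of k))) (X ↘ Spec (CommRingCat.of k)) (𝟙 _) :=
    IsPullback.of_horiz_isIso ⟨by simp⟩
  rw [Pic13.H967.DegBaseChange.curveDeg_pullback k (X ↘ Spec (CommRingCat.of k)) k _ i (𝟙 _) hpb L
    (Ega2.QCohLocal.isQCoh_of_isInvertible hL)]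
  change FGA.eulerCharLE k X L 1 - FGA.eulerCharLE k X (Coh.structureModule X) 1 = 0
  rw [h3, sub_self]

/-- In dimension at least two, a class orthogonal to all classes with respect to powers of an ample class is
numerically trivial. -/
theorem mem_num0_of_forall [GeometricallyIntegral (X ↘ Spec (CommRingCat.of k))] {A : X.Modules}
    (hA : CohB1.IsAmple A) (s : ℕ) (hdim : topologicalKrullDim X = ((s + 2 : ℕ) : WithBot ℕ∞)) (a : Pic X)
    (h : ∀ b : Pic X, I k X (s + 2) (Coh.structureModule X)
      (Fin.cons a⁻¹ (Fin.cons b⁻¹ (fun _ => (mk A hA.1)⁻¹) : Fin (s + 1) → Pic X) : Fin (s + 2) → Pic X) = 0) :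
    a ∈ num0 k X := by
  obtain ⟨K, _, _, _, X', _, g, hpb, hint, hprop, haff, hd'⟩ := GeomBC.exists_geom k X
  obtain ⟨L, hL, rfl⟩ := exists_mk a
  have hA' : CohB1.IsAmple ((Scheme.Modules.pullback g).obj A) := CohqB.AmpCocycle.isAmple_pullback g hA
  have hL' := isInvertible_pullback g hL
  refine NumDesc.isNumEquivZero_descend k X K X' g _ hpb hA' hL ?_
  have : CompactSpace X :=
    (quasiCompact_iff_compactSpace (f := X ↘ Spec (CommRingCat.of k))).mp inferInstance
  have : QuasiSeparatedSpace X :=
    (quasiSeparated_iff_quasiSeparatedSpace (f := X ↘ Spec (CommRingCat.of k))).mp inferInstance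
  -- comparison of the intersection numbers
  have key : ∀ (M : Fin (s + 2) → X.Modules) (hM : ∀ i, PicF.IsInvertible (M i)) (N : Fin (s + 2) → X'.Modules)
      (_ : ∀ i, Nonempty ((Scheme.Modules.pullback g).obj (M i) ≅ N i)),
      FGA.intNum K X' (s + 2) N (Coh.structureModule X') = FGA.intNum k X (s + 2) M (Coh.structureModule X) := by
    intro M hM N e
    have hN : ∀ i, PicF.IsInvertible (N i) := fun i => by
      obtain ⟨φ⟩ := e i
      exact Pic13.H138.AlgEquiv.isInvertible_of_iso φ (isInvertible_pullback g (hM i))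
    rw [← Pic13.H967.IntBaseChange.intNum_pullback_structure k X K X' g _ hpb M hM (s + 2),
      intNum_eq _ _ _ _ _ hN, intNum_eq _ _ _ _ _ fun i => isInvertible_pullback g (hM i)]
    congr 1
    funext i
    exact (mk_eq_iff _ _).2 ((e i).map Iso.symm)
  have hdual : ∀ {M : X.Modules} (hM : PicF.IsInvertible M),
      Nonempty ((Scheme.Modules.pullback g).obj (dual M) ≅ dual ((Scheme.Modules.pullback g).obj M)) := by
    intro M hM
    rw [← mk_eq_iff (isInvertible_pullback g (isInvertible_dual hM)) (isInvertible_dual (isInvertible_pullback g hM))]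
    have e1 : mk (dual M) (isInvertible_dual hM) = (mk M hM)⁻¹ := rfl
    have e2 : mk (dual ((Scheme.Modules.pullback g).obj M)) (isInvertible_dual (isInvertible_pullback g hM)) =
      (mk ((Scheme.Modules.pullback g).obj M) (isInvertible_pullback g hM))⁻¹ := rfl
    rw [e2, ← pull_mk g hM, ← pull_mk g (isInvertible_dual hM), e1, map_inv]
  have hLd := isInvertible_dual hL
  have hAd := isInvertible_dual hA.1
  have hcases : ∀ (b : Pic X) (B : X.Modules) (hB : PicF.IsInvertible B), b = mk B hB →
      FGA.intNum K X' (s + 2) (Matrix.vecCons (dual ((Scheme.Modules.pullback g).obj L))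
        (Matrix.vecCons (dual ((Scheme.Modules.pullback g).obj B)) (fun _ : Fin s =>
          dual ((Scheme.Modules.pullback g).obj A)))) (Coh.structureModule X') = 0 := by
    intro b B hB hb
    have hBd := isInvertible_dual hB
    have hinv := isInvertible_cons X hLd (isInvertible_cons X hBd (fun _ : Fin s => hAd))
    rw [key (Fin.cons (dual L) (Fin.cons (dual B) (fun _ : Fin s => dual A) : Fin (s + 1) → X.Modules))
      hinv _ (fun i => by
        refine Fin.cases ?_ (fun i => ?_) i
        · exact hdual hL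
        · refine Fin.cases ?_ (fun i => ?_) i
          · exact hdual hB
          · exact hdual hA.1)]
    rw [intNum_eq k X _ _ _ hinv]
    refine Eq.trans ?_ (h b)
    congr 1
    funext i
    refine Fin.cases ?_ (fun i => ?_) i
    · rfl
    · refine Fin.cases ?_ (fun i => ?_) i
      · rw [hb]; rfl
      · rfl
  refine S4290.result K X' s (hd'.trans hdim) _ _ _ _ hA' hL'
    ⟨@asIso _ _ _ _ (ev _) (isIso_ev hA'.1)⟩ ⟨@asIso _ _ _ _ (ev _) (isIso_ev hL')⟩ ?_
    (hcases _ L hL rfl).ge
  have h1 := hcases _ A hA.1 rfl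
  have h2 : (Matrix.vecCons (dual ((Scheme.Modules.pullback g).obj A)) (fun _ : Fin s =>
          dual ((Scheme.Modules.pullback g).obj A)) : Fin (s + 1) → X'.Modules) =
      fun _ => dual ((Scheme.Modules.pullback g).obj A) := by
    funext i
    refine Fin.cases ?_ (fun i => ?_) i
    · rfl
    · rfl
  rw [h2] at h1
  exact h1

end K436.PsefGeo
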