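import Groth.Agent.Variety.K436.PsefKer
import Groth.Agent.EtpbcA.CdFinDim
import Mathlib.LinearAlgebra.Multilinear.Curry

/-!
# Salience of the pseudo-effective cone
-/

set_option autoImplicit false
universe u
open CategoryTheory CategoryTheory.Limits AlgebraicGeometry
open scoped TensorProduct

namespace K436.PsefMain

open Groth.Agent Groth.Agent.Grpsch.PicGrp Groth.Agent.Fdesc.LocGen Groth.Agent.Pic13.H945.DegAmple
open Groth.Agent.Pic13.H970.IntForm Groth.Agent.Fga.PicMon K516.DegForm K931.Eff K931.Cones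
open K436.PsefLin K436.PsefGeo

variable (k : Type u) [Field k] {X : Scheme.{u}} [X.Over (Spec (CommRingCat.of k))]
  [IsProper (X ↘ Spec (CommRingCat.of k))]

/-- `a ↦ (a · b_1 ⋯ b_r)`. -/
noncomputable def phi {r : ℕ} (hr : topologicalKrullDim X = ((r + 1 : ℕ) : WithBot ℕ∞)) (b : Fin r → Pic X) :
    Additive (Pic X) →+ ℤ where
  toFun a := (JO k X (r + 1) hr.le).curryLeft a (fun i => Additive.ofMul (b i))
  map_zero' := by rw [map_zero]; rfl
  map_add' a a' := by rw [map_add]; rfl

theorem phi_apply {r : ℕ} (hr : topologicalKrullDim X = ((r + 1 : ℕ) : WithBot ℕ∞)) (b : Fin r → Pic X) (a : Pic X) :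
    phi k hr b (Additive.ofMul a) = I k X (r + 1) (Coh.structureModule X)
      (Fin.cons a⁻¹ (fun i => (b i)⁻¹) : Fin (r + 1) → Pic X) := by
  change JO k X (r + 1) hr.le (Fin.cons (Additive.ofMul a) (fun i => Additive.ofMul (b i)) :
      Fin (r + 1) → Additive (Pic X)) = _
  rw [JO_apply]
  congr 1
  funext i
  refine Fin.cases ?_ (fun i => ?_) i <;> rfl

/-- The functional on `N¹(X)`. -/
theorem exists_psi [PicGrp.Law X] {A : X.Modules} (hA : CohB1.IsAmple A) {r : ℕ}
    (hr : topologicalKrullDim X = ((r + 1 : ℕ) : WithBot ℕ∞)) (b : Fin r → Pic X) :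
    ∃ ψ : NumR.N1 k X →+ ℤ, ∀ a, ψ (q k X a) = phi k hr b a :=
  exists_lift₀ _ fun a ha => by
    rw [phi_apply]
    exact I_cons_num k hA (r + 1) hr.le (inv_mem ha) _

/-- Additivity in the first of the remaining variables. -/
theorem phi_cons_mul {s : ℕ} (hr : topologicalKrullDim X = ((s + 1 + 1 : ℕ) : WithBot ℕ∞)) (b b' : Pic X)
    (c : Fin s → Pic X) (a : Additive (Pic X)) :
    phi k hr (Fin.cons (b * b') c : Fin (s + 1) → Pic X) a =
      phi k hr (Fin.cons b c : Fin (s + 1) → Pic X) a + phi k hr (Fin.cons b' c : Fin (s + 1) → Pic X) a := by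
  have h0 : ∀ b : Pic X, (fun i => Additive.ofMul ((Fin.cons b c : Fin (s + 1) → Pic X) i)) =
      (Fin.cons (Additive.ofMul b) (fun i => Additive.ofMul (c i)) : Fin (s + 1) → Additive (Pic X)) := by
    intro b
    funext i
    refine Fin.cases ?_ (fun i => ?_) i <;> rfl
  change (JO k X (s + 1 + 1) hr.le).curryLeft a (fun i => Additive.ofMul ((Fin.cons (b * b') c : Fin (s + 1) → Pic X) i)) =
    (JO k X (s + 1 + 1) hr.le).curryLeft a (fun i => Additive.ofMul ((Fin.cons b c : Fin (s + 1) → Pic X) i)) +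
    (JO k X (s + 1 + 1) hr.le).curryLeft a (fun i => Additive.ofMul ((Fin.cons b' c : Fin (s + 1) → Pic X) i))
  rw [h0, h0, h0, ofMul_mul]
  exact MultilinearMap.cons_add _ _ _ _

/-- Symmetry. -/
theorem phi_swap {s : ℕ} (hr : topologicalKrullDim X = ((s + 1 + 1 : ℕ) : WithBot ℕ∞)) (a b : Pic X)
    (c : Fin s → Pic X) :
    phi k hr (Fin.cons b c : Fin (s + 1) → Pic X) (Additive.ofMul a) =
      phi k hr (Fin.cons a c : Fin (s + 1) → Pic X) (Additive.ofMul b) := by
  have h0 : ∀ b : Pic X, (fun i => ((Fin.cons b c : Fin (s + 1) → Pic X) i)⁻¹) =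
      (Fin.cons b⁻¹ (fun i => (c i)⁻¹) : Fin (s + 1) → Pic X) := by
    intro b
    funext i
    refine Fin.cases ?_ (fun i => ?_) i <;> rfl
  rw [phi_apply, phi_apply, h0, h0]
  exact swap01 _ _ _ _ _ _ _

variable [PicGrp.Law X] [IsIntegral X]

/-- Classes in the cone and minus the cone are orthogonal to all tuples of ample classes. -/
theorem real_eq_zero {r : ℕ} (hr : topologicalKrullDim X = ((r + 1 : ℕ) : WithBot ℕ∞)) {b : Fin r → Pic X}
    (hb : ∀ i, Amp (b i)) {ψ : NumR.N1 k X →+ ℤ} (hψ : ∀ a, ψ (q k X a) = phi k hr b a) {y : NumR.N1R k X}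
    (hy : y ∈ NumR.psefCone k X) (hy' : -y ∈ NumR.psefCone k X) : real ψ y = 0 := by
  choose L hL hbL hLA using hb
  have h1 : ∀ c : Pic X, Eff c → 0 ≤ ψ (q k X (Additive.ofMul c)) := by
    intro c hc
    rw [hψ]
    have h2 := JO_eff_nonneg k hr hc L hLA
    have h3 : phi k hr b (Additive.ofMul c) = JO k X (r + 1) hr.le
        (Fin.cons (Additive.ofMul c) (fun i => Additive.ofMul (mk (L i) (hLA i).1)) :
          Fin (r + 1) → Additive (Pic X)) := by
      have : b = fun i => mk (L i) (hLA i).1 := funext hbL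
      rw [this]
      rfl
    rw [h3]
    exact h2
  have h2 := real_nonneg ψ h1 hy
  have h3 := real_nonneg ψ h1 hy'
  rw [map_neg] at h3
  linarith

/-- **Salience.** -/
theorem salient [GeometricallyIntegral (X ↘ Spec (CommRingCat.of k))] [Module.Finite ℝ (NumR.N1R k X)]
    {A : X.Modules} (hA : CohB1.IsAmple A) {y : NumR.N1R k X}
    (hy : y ∈ NumR.psefCone k X) (hy' : -y ∈ NumR.psefCone k X) : y = 0 := by
  have : CompactSpace X :=
    (quasiCompact_iff_compactSpace (X ↘ (Spec (CommRingCat.of k)))).mp inferInstance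
  have : X.IsSeparated := ⟨by
    have h1 : terminal.from X = (X ↘ Spec (CommRingCat.of k)) ≫ terminal.from _ := terminal.hom_ext _ _
    rw [h1]; infer_instance⟩
  -- the dimension
  obtain ⟨d, hd⟩ : ∃ d : ℕ, topologicalKrullDim X = (d : WithBot ℕ∞) := by
    obtain ⟨n, hn⟩ := EtpbcA.CdFinDim.exists_dim_le (X ↘ Spec (CommRingCat.of k))
    have : Nonempty (TopologicalSpace.IrreducibleCloseds X) :=
      ⟨⟨closure {genericPoint X}, isIrreducible_singleton.closure, isClosed_closure⟩⟩
    exact Pic13.H11.Core.exists_nat Order.krullDim_nonneg hn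
  rcases d with _ | _ | s
  · -- dimension zero
    refine eq_zero_of_real (n := 0) (fun i => i.elim0) (fun a _ => ?_) y fun i => i.elim0
    obtain ⟨a, rfl⟩ := q_surjective a
    refine (q_eq_zero_iff a.toMul).2 fun Y i _ _ hYd => ?_
    exfalso
    have h1 := i.isClosedEmbedding.isInducing.topologicalKrullDim_le
    rw [hYd, hd] at h1
    exact absurd h1 (by decide)
  · -- curves
    obtain ⟨ψ, hψ⟩ := exists_psi k hA (r := 0) hd Fin.elim0
    refine eq_zero_of_real (n := 1) (fun _ => ψ) (fun a ha => ?_) y fun _ =>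
      real_eq_zero k hd (fun i => i.elim0) hψ hy hy'
    obtain ⟨a, rfl⟩ := q_surjective a
    have h1 := ha 0
    rw [hψ] at h1
    have h2 := phi_apply k hd Fin.elim0 a.toMul
    refine (q_eq_zero_iff a.toMul).2 (mem_num0_curve k hd a.toMul ?_)
    rw [← h1]
    refine Eq.trans ?_ h2.symm
    congr 1
    funext i
    refine Fin.cases ?_ (fun i => i.elim0) i
    rfl
  · -- higher dimension
    set h := mk A hA.1 with hh
    have hAmp : Amp h := ⟨A, hA.1, rfl, hA⟩
    choose ψ hψ using fun b : Pic X => exists_psi k hA (r := s + 1) hd (Fin.cons b (fun _ => h) : Fin (s + 1) → Pic X)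
    have hreal : ∀ b : Pic X, real (ψ b) y = 0 := by
      intro b
      obtain ⟨n₀, -, hn₀⟩ := hAmp.eventually b
      obtain ⟨n₁, -, hn₁⟩ := hAmp.eventually 1
      set n := max n₀ n₁ with hn
      have e1 : Amp (h ^ n * b) := hn₀ n (le_max_left _ _)
      have e2 : Amp (h ^ n) := by simpa using hn₁ n (le_max_right _ _)
      have hz : ∀ c : Pic X, Amp c → real (ψ c) y = 0 := fun c hc =>
        real_eq_zero k hd (b := (Fin.cons c (fun _ => h) : Fin (s + 1) → Pic X)) (fun i => by
          refine Fin.cases ?_ (fun i => ?_) i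
          · exact hc
          · exact hAmp) (hψ c) hy hy'
      have hadd : ∀ c c' : Pic X, real (ψ (c * c')) = real (ψ c) + real (ψ c') := by
        intro c c'
        refine LinearMap.ext_on_range (v := nu k X) (span_nu k) fun a => ?_
        rw [LinearMap.add_apply, real_nu, real_nu, real_nu, hψ, hψ, hψ, phi_cons_mul]
        push_cast
        rfl
      have h5 := congrArg (fun l => l y) (hadd (h ^ n) b)
      simp only [LinearMap.add_apply] at h5
      rw [hz _ e1, hz _ e2, zero_add] at h5
      exact h5.symm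
    obtain ⟨S, hS, hspan⟩ := (Submodule.fg_span_iff_fg_span_finset_subset (R := ℝ) (Set.range (nu k X))).1
      (by rw [span_nu]; exact Module.Finite.fg_top)
    choose m hm using fun x : S => hS x.2
    let e := S.equivFin
    refine eq_zero_of_real (n := S.card) (fun i => ψ (m (e.symm i))) (fun a ha => ?_) y fun i => hreal _
    obtain ⟨a, rfl⟩ := q_surjective a
    refine (q_eq_zero_iff a.toMul).2 (mem_num0_of_forall k hA s hd a.toMul fun b => ?_)
    -- orthogonality to the generators gives orthogonality to everything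
    have h1 : real (ψ a.toMul) = 0 := by
      refine LinearMap.ext_on (s := (S : Set (NumR.N1R k X))) (by rw [← hspan, span_nu]) fun x hx => ?_
      have hx' : nu k X (m ⟨x, hx⟩) = x := hm ⟨x, hx⟩
      rw [LinearMap.zero_apply, ← hx', real_nu, hψ, phi_swap]
      have h2 := ha (e ⟨x, hx⟩)
      simp only [Equiv.symm_apply_apply] at h2
      rw [hψ] at h2
      exact_mod_cast h2
    have h2 : phi k hd (Fin.cons b (fun _ => h) : Fin (s + 1) → Pic X) (Additive.ofMul a.toMul) = 0 := by
      rw [phi_swap]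
      have h3 := congrArg (fun l => l (nu k X b)) h1
      simp only [LinearMap.zero_apply] at h3
      rw [real_nu, hψ] at h3
      exact_mod_cast h3
    rw [phi_apply] at h2
    rw [← h2]
    congr 1
    funext i
    refine Fin.cases ?_ (fun i => ?_) i
    · rfl
    · refine Fin.cases ?_ (fun i => ?_) i <;> rfl

/-- **The pseudo-effective cone has compact sections.** -/
theorem main [GeometricallyIntegral (X ↘ Spec (CommRingCat.of k))] [Module.Finite ℝ (NumR.N1R k X)]
    {A : X.Modules} (hA : CohB1.IsAmple A) (δ : NumR.N1R k X) :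
    IsCompact {δ' : NumR.N1R k X | δ' ∈ NumR.psefCone k X ∧ δ - δ' ∈ NumR.psefCone k X} :=
  isCompact_of_salient (fun _ hy hy' => salient k hA hy hy') δ

end K436.PsefMain
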