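import Groth.Agent.Variety.K436.PushNorm
import Groth.Agent.Variety.K436.GalZ

/-!
# The class of the push-forward of a locally principal divisor is the norm of the class
-/

set_option autoImplicit false
set_option linter.style.haveILetI false
universe u v

open CategoryTheory AlgebraicGeometry TopologicalSpace Opposite

namespace K436.PushNorm

open Groth.Agent.Fdesc.LocGen Groth.Agent.Divis.NormSheaf K436.GVal K436.Frame K436.DivSh K436.SpanSec
open Groth.Agent.Grpsch.PicGrp K436.NormIneq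

theorem isEq_of_isGen {X : Scheme.{u}} [IsIntegral X] [IsLocallyNoetherian X] (hX : Pi1.IsNormalScheme X) {D : X → ℤ}
    (hD : LocPrin D) {V : X.Opens} (hη : genericPoint X ∈ V) (e : Γ(WDiv.divSh D, V)) (he : IsGen e) :
    vl hη e ≠ 0 ∧ ∀ x ∈ V, D x = WDiv.divFun X (vl hη e)⁻¹ x := by
  have key : ∀ x ∈ V, vl hη e ≠ 0 ∧ D x = WDiv.divFun X (vl hη e)⁻¹ x := by
    intro x hx
    obtain ⟨U, hxU, φ, h0, h1⟩ := hD x
    have hη' : genericPoint X ∈ V ⊓ U := genericPoint_mem ⟨x, hx, hxU⟩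
    obtain ⟨a, ha, hae⟩ := (he.res (inf_le_left : V ⊓ U ≤ V)).exists_unit
      ((isGen_sec hX h0 h1 hη'.2).res (inf_le_right : V ⊓ U ≤ U))
    have h2 := congrArg (vl hη') hae
    rw [vl_smul, vl_res, vl_res, vl_sec] at h2
    have h3 : vl hη e ≠ 0 := by
      intro h
      have h4 : φ⁻¹ = gg hη' a * vl hη e := h2
      rw [h, mul_zero] at h4
      exact inv_ne_zero h0 h4
    have h4 : φ⁻¹ = gg hη' a * vl hη e := h2
    have ha0 : gg hη' a ≠ 0 := by
      intro h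
      rw [h, zero_mul] at h4
      exact inv_ne_zero h0 h4
    have h5 : (vl hη e)⁻¹ = gg hη' a * φ := by
      rw [← inv_inj, inv_inv, mul_inv, h4, inv_mul_cancel_left₀ ha0]
    refine ⟨h3, ?_⟩
    rw [h1 x hxU, h5]
    change Scheme.ord φ x = Scheme.ord (gg hη' a * φ) x
    haveI : Nonempty ((V ⊓ U : X.Opens).toScheme) := ⟨⟨x, hx, hxU⟩⟩
    have h6 : Scheme.ord (gg hη' a) x = 0 := Scheme.ord_of_isUnit (U := V ⊓ U) ha ⟨hx, hxU⟩
    rw [Scheme.ord_mul ha0 h0, h6, zero_add]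
  exact ⟨(key _ hη).1, fun x hx => (key x hx).2⟩

variable {X Y : Scheme.{u}} [IsIntegral X] [IsIntegral Y] (f : Y ⟶ X) [Surjective f]
variable [IsFinite f] [IsLocallyNoetherian X] [IsLocallyNoetherian Y]

theorem divFun_eq_zero {x : X} (h : Order.coheight x ≠ 1) (φ : X.functionField) : WDiv.divFun X φ x = 0 :=
  Scheme.ord_eq_zero_of_coheight_neq_one h φ

theorem LocPrin.eq_zero {D : X → ℤ} (hD : LocPrin D) {x : X} (h : Order.coheight x ≠ 1) : D x = 0 := by
  obtain ⟨U, hx, φ, -, h1⟩ := hD x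
  rw [h1 x hx, divFun_eq_zero h]

/-- **The class of the push-forward is the norm of the class.** -/
theorem isNorm (hX : Pi1.IsNormalScheme X) (hY : Pi1.IsNormalScheme Y) (E : AlgebraicCycle Y ℤ) {D : Y → ℤ}
    (hED : ∀ y, D y = E y) (hE : LocPrin D) {F : X → ℤ}
    (hEF : ∀ x, F x = AlgebraicCycle.map f (fun _ : ↥Y => PUnit.unit.{1}) (fun _ : ↥X => PUnit.unit.{1}) E x)
    (hF : LocPrin F) :
    IsNorm f (mk (WDiv.divSh D) (isInvertible hY hE)) (mk (WDiv.divSh F) (isInvertible hX hF)) := by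
  have h1 : ∀ x : X, ∃ (W : X.Opens) (e : Γ(WDiv.divSh D, f ⁻¹ᵁ W)), x ∈ W ∧ IsGen e := fun x => by
    obtain ⟨W, e, hx, -, he⟩ := Groth.Agent.VarietyA.FinTriv.exists_isGen_preimage f _ (isInvertible hY hE) x ⊤ trivial
    exact ⟨W, e, hx, he⟩
  choose W e hx he using h1
  have hη : ∀ x, genericPoint X ∈ W x := fun x => genericPoint_mem ⟨x, hx x⟩
  have hη' : ∀ x, genericPoint Y ∈ f ⁻¹ᵁ W x := fun x => mem_preimage f (hη x)
  have h2 := fun x => isEq_of_isGen hY hE (hη' x) (e x) (he x)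
  have h3 : IsEq D (fun x => f ⁻¹ᵁ W x) (fun x => (vl (hη' x) (e x))⁻¹) :=
    ⟨fun x => inv_ne_zero (h2 x).1, fun x => (h2 x).2⟩
  have h0 : ∀ x, nm f (vl (hη' x) (e x))⁻¹ ≠ 0 := fun x => by
    letI := alg f
    have := finite_functionField f
    exact Algebra.norm_ne_zero_iff.2 (inv_ne_zero (h2 x).1)
  have h4 : IsEq F W (fun x => nm f (vl (hη' x) (e x))⁻¹) := by
    refine ⟨h0, fun x z hz => ?_⟩
    by_cases hz1 : Order.coheight z = 1
    · rw [hEF]
      refine push_eq f (V := W x) (inv_ne_zero (h2 x).1) E (fun y hy => ?_) hz hz1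
      rw [← hED]
      exact (h2 x).2 y hy
    · rw [LocPrin.eq_zero hF hz1, divFun_eq_zero hz1]
  refine ⟨X, W, _, 1, fun x => ⟨x, hx x⟩, DivSh.isFr hY hE h3 hη', (DivSh.isFr hX hF h4 hη).congr fun x => ?_⟩
  rw [one_mul]
  exact inv_eq_of_mul_eq_one_left (by rw [← map_mul, inv_mul_cancel₀ (inv_ne_zero (h2 x).1), map_one])

theorem IsNorm.pow {E : Pic Y} {N : Pic X} (h : IsNorm f E N) (m : ℕ) : IsNorm f (E ^ m) (N ^ m) := by
  obtain ⟨ι, V, θ, t, hV, hE, hN⟩ := h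
  exact ⟨ι, V, _, t ^ m, hV, hE.pow m, (hN.pow m).congr fun i => by rw [map_pow, mul_pow]⟩

end K436.PushNorm
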