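import Groth.Agent.Variety.K436.DivShC
import Groth.Agent.Variety.K436.SpanSec
import Groth.Agent.Variety.K436.NormIneq
import Groth.Agent.SDiv.K475.OrdEta
import Groth.Agent.CycB.PushLocal
import Groth.Agent.VarietyA.FinTriv
import Groth.Agent.Sga3B.QCClosure

/-!
# Push-forward of locally principal divisors along finite morphisms and norms
-/

set_option autoImplicit false
set_option linter.style.haveILetI false
universe u v

open CategoryTheory AlgebraicGeometry TopologicalSpace Opposite

namespace K436.PushNorm

open Groth.Agent.Fdesc.LocGen Groth.Agent.Divis.NormSheaf K436.GVal K436.Frame K436.DivSh K436.SpanSec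
open Groth.Agent.Grpsch.PicGrp

section Gen

variable {X : Scheme.{u}} [IsIntegral X]

/-- The comparison of the function field with the residue field at a point equal to the generic point. -/
noncomputable def sg (ξ : X) (hξ : ξ = genericPoint X) : X.functionField →+* X.residueField ξ :=
  (X.presheaf.stalkSpecializes (specializes_of_eq hξ) ≫ X.residue ξ).hom

theorem sg_bijective (ξ : X) (hξ : ξ = genericPoint X) : Function.Bijective (sg ξ hξ) := by
  subst hξ
  unfold sg
  have h1 : X.presheaf.stalkSpecializes (specializes_of_eq (rfl : genericPoint X = genericPoint X)) = 𝟙 _ :=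
    TopCat.Presheaf.stalkSpecializes_refl X.presheaf _
  rw [h1, Category.id_comp]
  exact ⟨K475.OrdEta.residue_injective, X.residue_surjective _⟩

theorem ordAt_sg [IsLocallyNoetherian X] {x : X} (hx : Order.coheight x = 1) (ξ : X) (hξ : ξ = genericPoint X)
    (h : ξ ⤳ x) (g : X.functionField) : Cyc.ordAt x ξ h (sg ξ hξ g) = Scheme.ord g x := by
  subst hξ
  have h1 : X.presheaf.stalkSpecializes (specializes_of_eq (rfl : genericPoint X = genericPoint X)) = 𝟙 _ :=
    TopCat.Presheaf.stalkSpecializes_refl X.presheaf _
  unfold sg
  rw [h1, Category.id_comp]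
  exact K475.OrdEta.ordAt_eq_ord hx g

end Gen

variable {X Y : Scheme.{u}} [IsIntegral X] [IsIntegral Y] (f : Y ⟶ X) [Surjective f]

theorem sg_ff (g : X.functionField) :
    (f.residueFieldMap (genericPoint Y)).hom (sg _ (map_genericPoint f) g) = sg (genericPoint Y) rfl (ff f g) := by
  have h1 : Y.presheaf.stalkSpecializes (specializes_of_eq (rfl : genericPoint Y = genericPoint Y)) = 𝟙 _ :=
    TopCat.Presheaf.stalkSpecializes_refl Y.presheaf _
  have h2 : (X.presheaf.stalkSpecializes (specializes_of_eq (map_genericPoint f)) ≫ X.residue _) ≫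
      f.residueFieldMap (genericPoint Y) =
      (X.presheaf.stalkSpecializes (specializes_of_eq (map_genericPoint f)) ≫ f.stalkMap (genericPoint Y)) ≫
        (Y.presheaf.stalkSpecializes (specializes_of_eq (rfl : genericPoint Y = genericPoint Y)) ≫
          Y.residue (genericPoint Y)) := by
    rw [h1, Category.id_comp, Category.assoc, Category.assoc, Scheme.residue_residueFieldMap]
  exact congr($(h2).hom g)

theorem normGen_sg (φ : Y.functionField) :
    Cyc.normGen f (genericPoint Y) (sg (genericPoint Y) rfl φ) = sg _ (map_genericPoint f) (nm f φ) := by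
  letI := alg f
  letI := (f.residueFieldMap (genericPoint Y)).hom.toAlgebra
  have h := Algebra.norm_eq_of_equiv_equiv (RingEquiv.ofBijective _ (sg_bijective _ (map_genericPoint f)))
    (RingEquiv.ofBijective _ (sg_bijective (genericPoint Y) rfl)) (by
      ext g
      exact sg_ff f g) φ
  change nm f φ = _ at h
  rw [h]
  exact ((RingEquiv.ofBijective _ (sg_bijective _ (map_genericPoint f))).apply_symm_apply _).symm

theorem residueDegree_eq : f.residueDegree (genericPoint Y) = deg f := by
  letI := alg f
  letI := (f.residueFieldMap (genericPoint Y)).hom.toAlgebra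
  exact (Algebra.finrank_eq_of_equiv_equiv (RingEquiv.ofBijective _ (sg_bijective _ (map_genericPoint f)))
    (RingEquiv.ofBijective _ (sg_bijective (genericPoint Y) rfl)) (by
      ext g
      exact sg_ff f g)).symm

theorem coheight_eq_one_of_finite [IsFinite f] {x : X} (h1 : Order.coheight x = 1) {y : Y} (hy : f y = x) :
    Order.coheight y = 1 := by
  apply le_antisymm
  · have hmono : StrictMono f := by
      intro a b hab
      have hab' : b ⤳ a := hab.le
      have h2 : f b ⤳ f a := hab'.map f.continuous
      refine lt_of_le_not_ge h2 fun h => ?_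
      have h' : f a ⤳ f b := h
      have h3 : b = a := Groth.Agent.Sga3B.QCClosure.eq_of_specializes_of_isIntegralHom f hab' (h2.antisymm h').eq
      rw [h3] at hab
      exact lt_irrefl _ hab
    have h3 := Order.coheight_le_coheight_apply_of_strictMono f hmono y
    rw [hy, h1] at h3
    exact h3
  · rw [ENat.one_le_iff_ne_zero]
    intro h0
    have h2 : IsMax y := Order.coheight_eq_zero.1 h0
    have h2' : y ⤳ genericPoint Y := h2 (show y ≤ genericPoint Y from genericPoint_specializes y)
    have h3 : y = genericPoint Y := (h2'.antisymm (genericPoint_specializes y)).eq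
    rw [h3, map_genericPoint] at hy
    rw [← hy] at h1
    have h4 : IsMax (genericPoint X) := fun z _ => genericPoint_specializes z
    rw [Order.coheight_eq_zero.2 h4] at h1
    exact zero_ne_one h1

variable [IsFinite f] [IsLocallyNoetherian X] [IsLocallyNoetherian Y]

theorem push_eq {V : X.Opens} {φ : Y.functionField} (hφ : φ ≠ 0) (E : AlgebraicCycle Y ℤ)
    (hE : ∀ y ∈ f ⁻¹ᵁ V, E y = WDiv.divFun Y φ y) {x : X} (hx : x ∈ V) (h1 : Order.coheight x = 1) :
    AlgebraicCycle.map f (fun _ : ↥Y => PUnit.unit.{1}) (fun _ : ↥X => PUnit.unit.{1}) E x =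
      WDiv.divFun X (nm f φ) x := by
  have halg : letI := (f.residueFieldMap (genericPoint Y)).hom.toAlgebra
      Algebra.IsAlgebraic (X.residueField (f (genericPoint Y))) (Y.residueField (genericPoint Y)) := by
    letI := alg f
    letI := (f.residueFieldMap (genericPoint Y)).hom.toAlgebra
    have := finite_functionField f
    have h2 : Algebra.IsAlgebraic X.functionField Y.functionField := Algebra.IsAlgebraic.of_finite _ _
    refine ⟨fun b => ?_⟩
    obtain ⟨b, rfl⟩ := (sg_bijective (genericPoint Y) rfl).2 b
    obtain ⟨p, hp0, hp⟩ := h2.1 b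
    refine ⟨p.map (sg _ (map_genericPoint f)), ?_, ?_⟩
    · rwa [Polynomial.map_ne_zero_iff (sg_bijective _ (map_genericPoint f)).1]
    · rw [Polynomial.aeval_def, Polynomial.eval₂_map]
      have h3 : (algebraMap (X.residueField (f (genericPoint Y))) (Y.residueField (genericPoint Y))).comp
          (sg _ (map_genericPoint f)) = (sg (genericPoint Y) rfl).comp (ff f) := by
        ext g
        exact sg_ff f g
      rw [h3, ← Polynomial.hom_eval₂]
      rw [Polynomial.aeval_def] at hp
      change sg (genericPoint Y) rfl (Polynomial.eval₂ (ff f) b p) = 0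
      rw [show Polynomial.eval₂ (ff f) b p = 0 from hp, map_zero]
  have hdim : ringKrullDim (X.presheaf.stalk x) ≤ 1 := by
    rw [AlgebraicGeometry.ringKrullDim_stalk_eq_coheight, h1]
    exact le_rfl
  have hg : sg (genericPoint Y) rfl φ ≠ 0 := by
    intro h
    exact hφ ((sg_bijective (genericPoint Y) rfl).1 (by rw [h, map_zero]))
  have hsp : f (genericPoint Y) ⤳ x := by
    rw [map_genericPoint]
    exact genericPoint_specializes x
  have key := Groth.Agent.CycB.PushLocal.ordAt_norm_integral f (map_genericPoint f) halg x hdim hsp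
    (sg (genericPoint Y) rfl φ) hg
  rw [normGen_sg, ordAt_sg h1] at key
  change _ = Scheme.ord (nm f φ) x
  rw [key]
  change ∑ᶠ y ∈ f ⁻¹' {x}, E y * ((AlgebraicCycle.mapCoeff f _ _ y : ℕ) : ℤ) = _
  rw [← finsum_subtype_eq_finsum_cond]
  refine finsum_congr fun y => ?_
  have hy1 := coheight_eq_one_of_finite f h1 y.2
  rw [ordAt_sg hy1, hE y.1 (by change f y.1 ∈ V; rw [y.2]; exact hx), mul_comm]
  congr 1

end K436.PushNorm
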